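import Cfsg.Agent.Lib.JankoFourFive.M22Five

/-!
# The centralizer of an element of order five in the Mathieu group of degree 24 (owner: helper17)

It has at most 60 elements: it permutes four fixed points and the stabiliser of two of them lies in the
Mathieu group of degree 22, where the element is self-centralising.
-/

set_option autoImplicit false

namespace CfsgLib.JankoFour.M24

open Cfsg CfsgLib.Sporadic
open CfsgLib.JankoFour.M22 (Grp)

theorem pFive_moved : movedCount CfsgLib.JankoFour.M22.pFive = 20 := by decide +kernel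

theorem card_centralizer_five {x : ↥M24} (hx : orderOf x = 5) :
    Nat.card (Subgroup.centralizer ({x} : Set ↥M24)) ≤ 60 := by
  classical
  haveI := Fact.mk (show Nat.Prime 5 by norm_num)
  obtain ⟨hle, w, hw, hord, -⟩ := exists_prime_elt_M22 (q := 5) (k := 2)
    (px := 961493460022381030808377504673736768) (pg := 967171313872380223498479237623563392) (by decide +kernel)
  set w4 : ↥M24 := Subgroup.inclusion hle w with hw4
  have hord4 : orderOf w4 = 5 := by
    rw [hw4, orderOf_injective (Subgroup.inclusion hle) (Subgroup.inclusion_injective _), hord]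
  obtain ⟨-, hfix4⟩ := fixed_card hw pFive_moved
  set Fx := Finset.univ.filter fun z => (w4 : Equiv.Perm GolayPt) z = z with hFx
  -- the bound for the packed element
  have hb : Nat.card (Subgroup.centralizer ({w4} : Set ↥M24)) ≤ 60 := by
    have : Fintype ↥(Subgroup.centralizer ({w4} : Set ↥M24)) := Fintype.ofFinite _
    have hmem : ∀ (c : ↥(Subgroup.centralizer ({w4} : Set ↥M24))) (z : GolayPt), z ∈ Fx →
        ((c : ↥M24) : Equiv.Perm GolayPt) z ∈ Fx := by
      intro c z hz
      have hc : Commute ((c : ↥M24) : Equiv.Perm GolayPt) (w4 : Equiv.Perm GolayPt) :=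
        congrArg Subtype.val (Subgroup.mem_centralizer_singleton_iff.1 c.2)
      simp only [hFx, Finset.mem_filter, Finset.mem_univ, true_and] at hz ⊢
      rw [← Equiv.Perm.mul_apply, ← hc.eq, Equiv.Perm.mul_apply, hz]
    have hn : (none : GolayPt) ∈ Fx := Finset.mem_filter.2 ⟨Finset.mem_univ _, w.2.1.2⟩
    have h0 : (some 0 : GolayPt) ∈ Fx := Finset.mem_filter.2 ⟨Finset.mem_univ _, w.2.2⟩
    let φ : ↥(Subgroup.centralizer ({w4} : Set ↥M24)) → GolayPt × GolayPt := fun c =>
      (((c : ↥M24) : Equiv.Perm GolayPt) none, ((c : ↥M24) : Equiv.Perm GolayPt) (some 0))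
    have himg : (Finset.univ.image φ).card ≤ 12 := by
      have hsub : Finset.univ.image φ ⊆ Fx.offDiag := by
        intro v hv
        obtain ⟨c, -, rfl⟩ := Finset.mem_image.1 hv
        refine Finset.mem_offDiag.2 ⟨hmem c _ hn, hmem c _ h0, fun e => ?_⟩
        exact absurd (((c : ↥M24) : Equiv.Perm GolayPt).injective e) (by simp)
      refine (Finset.card_le_card hsub).trans ?_
      rw [Finset.offDiag_card, hfix4]
    have hfib : ∀ v ∈ Finset.univ.image φ, (Finset.univ.filter fun c => φ c = v).card ≤ 5 := by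
      intro v hv
      obtain ⟨c0, -, rfl⟩ := Finset.mem_image.1 hv
      have h5 : Nat.card (Subgroup.centralizer ({w} : Set Grp)) = 5 := by
        obtain ⟨y, g, hy, -, hyc⟩ := M22.exists_y5
        have hle2 : Subgroup.zpowers w ≤ Subgroup.centralizer ({w} : Set Grp) :=
          Subgroup.zpowers_le.2 (Subgroup.mem_centralizer_singleton_iff.2 rfl)
        rw [← hord, ← Nat.card_zpowers]
        refine congrArg _ (congrArg _ (le_antisymm (fun u hu => ?_) hle2))
        exact M22.centralizer_five_seven (Or.inl rfl) hord (Subgroup.mem_centralizer_singleton_iff.1 hu)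
      rw [← h5, Nat.card_eq_fintype_card]
      have key : ∀ c, φ c = φ c0 → ((((c0 : ↥M24))⁻¹ * c : ↥M24) : Equiv.Perm GolayPt) ∈ Spor.M22 := by
        intro c hc
        refine ⟨⟨(((c0 : ↥M24))⁻¹ * (c : ↥M24)).2, ?_⟩, ?_⟩
        · show ((c0 : ↥M24) : Equiv.Perm GolayPt)⁻¹ (((c : ↥M24) : Equiv.Perm GolayPt) none) = none
          rw [Equiv.Perm.inv_eq_iff_eq]; exact congrArg Prod.fst hc
        · show ((c0 : ↥M24) : Equiv.Perm GolayPt)⁻¹ (((c : ↥M24) : Equiv.Perm GolayPt) (some 0)) = some 0
          rw [Equiv.Perm.inv_eq_iff_eq]; exact congrArg Prod.snd hc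
      rw [← Fintype.card_subtype]
      refine Fintype.card_le_of_injective (fun c : {c // φ c = φ c0} =>
        (⟨⟨_, key c.1 c.2⟩, Subgroup.mem_centralizer_singleton_iff.2 (Subgroup.inclusion_injective hle ?_)⟩ :
          ↥(Subgroup.centralizer ({w} : Set Grp)))) fun a b e => ?_
      · rw [map_mul, map_mul]
        exact (((show Commute ((c0 : ↥M24)) w4 from Subgroup.mem_centralizer_singleton_iff.1 c0.2).inv_left).mul_left
          (show Commute ((c.1 : ↥M24)) w4 from Subgroup.mem_centralizer_singleton_iff.1 c.1.2)).eq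
      · have e' : (((c0 : ↥M24))⁻¹ * (a.1 : ↥M24)) = ((c0 : ↥M24))⁻¹ * (b.1 : ↥M24) :=
          Subtype.ext (congrArg (fun u : ↥(Subgroup.centralizer ({w} : Set Grp)) =>
            ((u : Grp) : Equiv.Perm GolayPt)) e :)
        exact Subtype.ext (Subtype.ext (mul_left_cancel e'))
    rw [Nat.card_eq_fintype_card, ← Finset.card_univ]
    exact (Finset.card_le_mul_card_image _ 5 hfib).trans (by omega)
  -- transport
  have hfac : (Nat.card ↥M24).factorization 5 = 1 := by
    rw [M24_card, show (244823040 : ℕ) = 5 * 48964608 from rfl, Nat.factorization_mul (by norm_num) (by norm_num),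
      Finsupp.add_apply, Nat.Prime.factorization_self (by norm_num), Nat.factorization_eq_zero_of_not_dvd (by norm_num)]
  let Px : Sylow 5 ↥M24 := Sylow.ofCard (Subgroup.zpowers x) (by rw [Nat.card_zpowers, hx, hfac, pow_one])
  let Pw : Sylow 5 ↥M24 := Sylow.ofCard (Subgroup.zpowers w4) (by rw [Nat.card_zpowers, hord4, hfac, pow_one])
  obtain ⟨h, hh⟩ := MulAction.exists_smul_eq ↥M24 Px Pw
  have hm : h * x * h⁻¹ ∈ Subgroup.zpowers w4 := by
    rw [show Subgroup.zpowers w4 = (Pw : Subgroup ↥M24) from (Sylow.coe_ofCard _ _).symm, ← hh]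
    exact Subgroup.smul_mem_pointwise_smul x (MulAut.conj h) (Px : Subgroup ↥M24)
      (by rw [Sylow.coe_ofCard]; exact Subgroup.mem_zpowers x)
  have hz : Subgroup.zpowers (h * x * h⁻¹) = Subgroup.zpowers w4 :=
    Subgroup.eq_of_le_of_card_ge (Subgroup.zpowers_le.2 hm) (le_of_eq (by
      rw [Nat.card_zpowers, Nat.card_zpowers, hord4, show h * x * h⁻¹ = MulAut.conj h x from rfl,
        MulEquiv.orderOf_eq, hx]))
  refine le_of_eq_of_le ?_ hb
  rw [← Subgroup.centralizer_closure ({w4} : Set ↥M24), ← Subgroup.zpowers_eq_closure, ← hz,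
    Subgroup.zpowers_eq_closure, Subgroup.centralizer_closure]
  refine Nat.card_congr (Equiv.subtypeEquiv (MulAut.conj h).toEquiv fun c => ?_)
  rw [Subgroup.mem_centralizer_singleton_iff, Subgroup.mem_centralizer_singleton_iff]
  show c * x = x * c ↔ h * c * h⁻¹ * (h * x * h⁻¹) = h * x * h⁻¹ * (h * c * h⁻¹)
  rw [conj_mul, conj_mul, mul_left_inj, mul_right_inj]

end CfsgLib.JankoFour.M24
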