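import Cfsg.Agent.Lib.JankoFourFive.Fixed
import Cfsg.Agent.Lib.JankoFourHexad.Duads
import Cfsg.Agent.Lib.JankoFour.ClassesV

/-!
# The classes of involutions in the centralizer of an element of order five (owner: helper17)

`FiveData` collects the hypotheses; here: the only conjugate of `z` fixed in `V` is `z`, an element of
`N(V) ∩ C(z)` induces squaring, and the centralizer has one class of each kind of involution.
-/

set_option autoImplicit false
set_option linter.unusedSectionVars false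

namespace CfsgLib.JankoFour

open Cfsg CfsgLib.ThreeTrans
open CfsgLib.JankoFourHexad

variable {G : Type*} [Group G] [Finite G]

namespace HexBase

variable {S : Setting G} (B : HexBase S)

/-- An element of order five in `C` normalising `V`, with the second class data. -/
structure FiveData (x : G) : Prop where
  hx : orderOf x = 5
  hxC : x ∈ S.C
  hxN : x ∈ Subgroup.normalizer (B.V : Set G)
  hJ : IsOfJankoFourType G
  hsimple : IsSimpleGroup G
  hG : ¬ IsMulCommutative G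
  hT : ∀ t ∈ B.V, t ≠ 1 → ¬ IsConj S.z t → Subgroup.centralizer ({t} : Set G) ≤ B.NV

theorem conj_eq_self {g y : G} (h : Commute g y) : g * y * g⁻¹ = y := by rw [h.eq, mul_inv_cancel_right]

theorem conj_comm_of {g y w : G} (h : g * y * g⁻¹ = y) (hw : Commute w y) : Commute (g * w * g⁻¹) y := by
  have := (LargeData.commute_conj_iff' (g := g)).2 hw
  rwa [h] at this

/-- The codes outside the class of `z` are one orbit. -/
theorem conj_in_NV [IsSimpleGroup G] (hG : ¬ IsMulCommutative G) (hJ : IsOfJankoFourType G) {u t : G}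
    (hu : u ∈ B.V) (hu1 : u ≠ 1) (huz : ¬ IsConj S.z u) (ht : t ∈ B.V) (ht1 : t ≠ 1) (htz : ¬ IsConj S.z t) :
    ∃ g ∈ B.NV, g * u * g⁻¹ = t := by
  obtain ⟨-, hD, horb⟩ := B.duads_spec hG hJ
  have key : ∀ {y : G}, y ∈ B.V → y ≠ 1 → ¬ IsConj S.z y → ∃ g ∈ B.NV, y = g * B.vel 2 * g⁻¹ := by
    intro y hy hy1 hyz
    obtain ⟨hn, he⟩ := B.code_spec hy
    have h0 : B.code y ≠ 0 := fun e => hy1 (by rw [← he, e, B.vel_zero])
    obtain ⟨g, hg, e⟩ := horb _ hn ((hD _ hn).2 ⟨h0, fun h => hyz (he ▸ h : IsConj S.z y)⟩)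
    exact ⟨g, hg, by rw [← e, he]⟩
  obtain ⟨g, hg, rfl⟩ := key hu hu1 huz
  obtain ⟨k, hk, rfl⟩ := key ht ht1 htz
  exact ⟨k * g⁻¹, mul_mem hk (inv_mem hg), by group⟩

/-- Two classes of involutions. -/
theorem two_classes [IsSimpleGroup G] (hG : ¬ IsMulCommutative G) (hJ : IsOfJankoFourType G) {t u : G}
    (ht : t ∈ B.V) (ht1 : t ≠ 1) (htz : ¬ IsConj S.z t) (hu : u * u = 1) (hu1 : u ≠ 1) :
    IsConj S.z u ∨ IsConj t u := by
  haveI : Fact (Nat.Prime 2) := ⟨Nat.prime_two⟩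
  obtain ⟨v, hv, hv1, hc⟩ := B.involution_conj_V hG (orderOf_eq_prime (by rw [pow_two, hu]) hu1)
  by_cases h : IsConj S.z v
  · exact Or.inl (h.trans hc.symm)
  · obtain ⟨g, -, e⟩ := B.conj_in_NV hG hJ ht ht1 htz hv hv1 h
    exact Or.inr ((isConj_iff.2 ⟨g, e⟩).trans hc.symm)

namespace FiveData

variable {B} {x : G} (D : B.FiveData x)
include D

theorem comm_xz : Commute x S.z := Frame.commute_z (S := S) D.hxC

theorem zx : Commute S.z x := D.comm_xz.symm

theorem px : Commute B.X.F.p x := (B.X.F.commute_p D.hxC).symm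

theorem cent0_card : Nat.card (S.cent0 x) = 480 := by
  rw [S.card_cent0 (Or.inl rfl) D.hx D.hxC, B.card_fixX D.hx D.hxC D.hxN]

theorem cent0_decomp' {h : G} (hh : h ∈ S.cent0 x) :
    ∃ n : ℕ, ∃ r ∈ S.P, ∃ e ∈ S.fixX x, h = x ^ n * (r * e) :=
  S.cent0_decomp (Or.inl rfl) D.hx D.hxC (S.mem_cent0.1 hh).1 (S.mem_cent0.1 hh).2

theorem cent0_le_NV : S.cent0 x ≤ B.NV := by
  intro h hh
  obtain ⟨n, r, hr, e, he, rfl⟩ := D.cent0_decomp' hh
  exact mul_mem (pow_mem D.hxN n) (B.EP_norm (mul_mem (Subgroup.mem_sup_right hr)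
    (Subgroup.mem_sup_left (S.mem_fixX.1 he).1)))

theorem cent_NV' {g : G} (hg : g ∈ B.NV) (hgx : Commute g x) : g ∈ S.cent0 x :=
  haveI := D.hsimple
  B.cent_NV D.hx D.hxC D.hxN D.hG D.hJ hg hgx

theorem fix_p {e : G} (he : e ∈ S.E) (h : B.X.F.p * e * B.X.F.p⁻¹ = e ∨ B.X.F.p * e * B.X.F.p⁻¹ = S.z * e) :
    e ∈ Subgroup.zpowers S.z := by
  have hc : Commute B.X.F.p e := by
    rcases h with r | r
    · exact mul_inv_eq_iff_eq_mul.1 r
    · exfalso
      set p := B.X.F.p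
      have hpz : p * S.z * p⁻¹ = S.z := conj_eq_self (Frame.commute_z (S := S) B.X.F.hpC)
      have e2 : p * (p * e * p⁻¹) * p⁻¹ = e := by
        rw [r, show p * (S.z * e) * p⁻¹ = (p * S.z * p⁻¹) * (p * e * p⁻¹) by group, hpz, r, ← mul_assoc,
          S.hE.mul_self_z, one_mul]
      have e3 : e = S.z * e := by
        calc e = p ^ 3 * e * (p ^ 3)⁻¹ := by rw [B.X.F.p_pow]; group
          _ = p * (p * (p * e * p⁻¹) * p⁻¹) * p⁻¹ := by
            simp only [pow_succ, pow_zero, one_mul, mul_inv_rev, mul_assoc]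
          _ = _ := by rw [e2, r]
      exact S.hE.z_ne_one (mul_eq_right.1 e3.symm)
  rw [← S.hCP]
  refine ⟨he, Subgroup.mem_centralizer_iff.2 fun q hq => ?_⟩
  obtain ⟨i, rfl⟩ := B.X.F.P_eq hq
  exact (hc.pow_left i).eq

theorem z_central {u : G} (hu : u ∈ S.cent0 x) (hu2 : u * u = 1) (hup : Commute u B.X.F.p) : u = 1 ∨ u = S.z := by
  obtain ⟨n, r, hr, e, he, heq⟩ := D.cent0_decomp' hu
  obtain ⟨heE, hex⟩ := S.mem_fixX.1 he
  obtain ⟨i, hi⟩ := B.X.F.P_eq hr
  have hec : Commute e B.X.F.p := by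
    have h1 : Commute (x ^ n * r) B.X.F.p := (D.px.pow_right n).symm.mul_left (hi ▸ (Commute.refl _).pow_left i)
    have := h1.inv_left.mul_left hup
    rwa [heq, show (x ^ n * r)⁻¹ * (x ^ n * (r * e)) = e by group] at this
  have hez : e = 1 ∨ e = S.z := S.hE.eq_or (D.fix_p heE (Or.inl (conj_eq_self hec.symm)))
  have hrx : Commute (x ^ n) r := ((S.mem_C.1 D.hxC).2 r hr).pow_left n
  have hez2 : e * e = 1 := by rcases hez with e' | e' <;> rw [e'] <;> simp [S.hE.mul_self_z]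
  have hc1 : Commute (x ^ n * r) e := (hex.symm.pow_left n).mul_left (hi ▸ (hec.symm.pow_left i))
  have h0 : (x ^ n * r) * (x ^ n * r) = 1 := by
    calc (x ^ n * r) * (x ^ n * r) = (x ^ n * r * e) * (x ^ n * r * e) * (e * e)⁻¹ := by
          rw [hc1.eq, mul_assoc e, ← mul_assoc (x ^ n * r) e, hc1.eq]
          simp only [mul_assoc, hc1.eq]
          rw [hez2]; simp only [inv_one, mul_one]
          rw [← mul_assoc e e, hez2, one_mul]
      _ = 1 := by rw [show x ^ n * r * e = u by rw [heq, mul_assoc], hu2, hez2]; simp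
  have h15 : (x ^ n * r) ^ 15 = 1 := by
    rw [hrx.mul_pow, ← pow_mul, show n * 15 = 5 * (n * 3) by ring, pow_mul, ← D.hx, pow_orderOf_eq_one, one_pow,
      one_mul, show (15 : ℕ) = 3 * 5 from rfl, pow_mul, S.P_pow_three hr, one_pow]
  have h1 : x ^ n * r = 1 := by
    rw [show (15 : ℕ) = 2 * 7 + 1 from rfl, pow_succ, pow_mul, pow_two, h0, one_pow, one_mul] at h15
    exact h15
  rw [heq, ← mul_assoc, h1, one_mul]
  exact hez

/-- An element of `N(V) ∩ C(z)` squares `x`. -/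
theorem exists_square : ∃ c ∈ B.NH, c * x * c⁻¹ = x ^ 2 := by
  classical
  haveI : Fact (Nat.Prime 5) := ⟨by norm_num⟩
  haveI := D.hsimple
  have hxH : x ∈ B.NH := ⟨D.hxN, mem_centralizer_singleton_iff'.2 D.comm_xz.eq⟩
  set X : ↥B.NH := ⟨x, hxH⟩ with hXdef
  have hX : orderOf X = 5 := by rw [← Subgroup.orderOf_coe]; exact D.hx
  set Pz := Subgroup.zpowers X with hPz
  have hPc : Nat.card Pz = 5 := by rw [hPz, Nat.card_zpowers, hX]
  have hcen : Subgroup.centralizer (Pz : Set ↥B.NH) = Subgroup.centralizer ({X} : Set ↥B.NH) := by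
    rw [hPz, Subgroup.zpowers_eq_closure, Subgroup.centralizer_closure]
  have hC : Nat.card (Subgroup.centralizer ({X} : Set ↥B.NH)) = 480 := by
    rw [← D.cent0_card]
    refine Nat.card_congr (Equiv.ofBijective (fun g => ⟨((g : ↥B.NH) : G), D.cent_NV' (g : ↥B.NH).2.1
      (congrArg Subtype.val (Subgroup.mem_centralizer_singleton_iff.1 g.2))⟩) ⟨fun a b e =>
        Subtype.ext (Subtype.ext (congrArg (fun v : ↥(S.cent0 x) => (v : G)) e :)), fun h => ?_⟩)
    refine ⟨⟨⟨(h : G), D.cent0_le_NV h.2, S.hH0 (S.mem_cent0.1 h.2).1⟩,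
      Subgroup.mem_centralizer_singleton_iff.2 (Subtype.ext (S.mem_cent0.1 h.2).2.eq)⟩, rfl⟩
  set N := Subgroup.normalizer (Pz : Set ↥B.NH)
  have hCN : Subgroup.centralizer (Pz : Set ↥B.NH) ≤ N := fun c hc => Subgroup.mem_normalizer_iff.2 fun a => by
    constructor
    · intro ha
      rwa [← Subgroup.mem_centralizer_iff.1 hc a ha, mul_inv_cancel_right]
    · intro ha
      have h := Subgroup.mem_centralizer_iff.1 hc _ ha
      rw [inv_mul_cancel_right, mul_left_cancel_iff] at h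
      rwa [← h] at ha
  set φ := Subgroup.normalizerMonoidHom Pz
  have hcyc : IsCyclic Pz := isCyclic_of_prime_card hPc
  have hA : Nat.card (MulAut Pz) = 4 := by
    rw [IsCyclic.card_mulAut, hPc, Nat.totient_prime (by norm_num)]
  have hk : Nat.card φ.range ∣ 4 := hA ▸ Subgroup.card_subgroup_dvd_card _
  have hN : Nat.card N = 480 * Nat.card φ.range := by
    rw [← Subgroup.index_ker, Subgroup.normalizerMonoidHom_ker,
      ← Subgroup.card_mul_index ((Subgroup.centralizer (Pz : Set ↥B.NH)).subgroupOf N),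
      Nat.card_congr (Subgroup.subgroupOfEquivOfLe hCN).toEquiv, hcen, hC]
  have hfac : (Nat.card ↥B.NH).factorization 5 = 1 := by
    rw [B.card_NH D.hJ, show 2 * (3 * 2 ^ 13 * 5760) = 5 * (2 * (3 * 2 ^ 13 * 1152)) by norm_num,
      Nat.factorization_mul (by norm_num) (by norm_num), Finsupp.add_apply,
      Nat.Prime.factorization_self (by norm_num), Nat.factorization_eq_zero_of_not_dvd (by norm_num)]
  let T : Sylow 5 ↥B.NH := Sylow.ofCard Pz (by rw [hPc, hfac, pow_one])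
  have hmod : N.index % 5 = 1 := by
    have h := card_sylow_modEq_one 5 ↥B.NH
    rw [T.card_eq_index_normalizer] at h
    exact h
  have hidx := N.card_mul_index
  rw [hN, B.card_NH D.hJ] at hidx
  have hk4 : Nat.card φ.range = 4 := by
    have hle := Nat.le_of_dvd (by norm_num) hk
    generalize Nat.card φ.range = k at hidx hk hle
    generalize N.index = m at hidx hmod
    interval_cases k <;> omega
  have htop : φ.range = ⊤ := Subgroup.eq_top_of_card_eq _ (by rw [hk4, hA])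
  -- the squaring automorphism
  have hp2 : Function.Bijective (fun y : ↥Pz => y ^ 2) :=
    Finite.injective_iff_bijective.1 fun a b e => by
      have h5 : ∀ y : ↥Pz, y ^ 5 = 1 := fun y => hPc ▸ pow_card_eq_one'
      have := congrArg (fun y : ↥Pz => y ^ 3) e
      simp only [← pow_mul] at this
      rwa [show 2 * 3 = 5 + 1 from rfl, pow_add, pow_add, h5, h5, one_mul, one_mul, pow_one, pow_one] at this
  let sq : MulAut ↥Pz := MulEquiv.ofBijective
    (MonoidHom.mk' (fun y : ↥Pz => y ^ 2) fun a b => (show Commute a b from hcyc.commGroup.mul_comm a b).mul_pow 2) hp2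
  obtain ⟨n, hn⟩ : sq ∈ φ.range := htop ▸ Subgroup.mem_top _
  refine ⟨((n : ↥B.NH) : G), (n : ↥B.NH).2, ?_⟩
  exact congrArg (fun f : MulAut ↥Pz => (((f ⟨X, Subgroup.mem_zpowers X⟩ : ↥Pz) : ↥B.NH) : G)) hn

theorem z_only {w : G} (hw : w ∈ B.fixV x) (hwz : IsConj S.z w) : w = S.z := by
  haveI := D.hsimple
  haveI : Fact (Nat.Prime 5) := ⟨by norm_num⟩
  obtain ⟨hwV, hwx⟩ := B.mem_fixV.1 hw
  obtain ⟨g, hg⟩ := isConj_iff.1 hwz
  obtain ⟨n, hn, hnz⟩ := B.fuse D.hJ (g := g) (hg ▸ hwV)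
  rw [hg] at hnz
  set y := n⁻¹ * x * n with hy
  have hyN : y ∈ B.NV := mul_mem (mul_mem (inv_mem hn) D.hxN) hn
  have hyz : Commute y S.z := by
    have := (LargeData.commute_conj_iff' (g := n⁻¹)).2 (show Commute x (n * S.z * n⁻¹) by rw [hnz]; exact hwx.symm)
    rwa [inv_inv, show n⁻¹ * (n * S.z * n⁻¹) * n = S.z by group] at this
  have hxH : x ∈ B.NH := ⟨D.hxN, mem_centralizer_singleton_iff'.2 D.comm_xz.eq⟩
  have hyH : y ∈ B.NH := ⟨hyN, mem_centralizer_singleton_iff'.2 hyz.eq⟩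
  have hyo : orderOf y = 5 := by
    rw [hy, show n⁻¹ * x * n = MulAut.conj n⁻¹ x by simp, MulEquiv.orderOf_eq, D.hx]
  have hfac : (Nat.card ↥B.NH).factorization 5 = 1 := by
    rw [B.card_NH D.hJ, show 2 * (3 * 2 ^ 13 * 5760) = 5 * (2 * (3 * 2 ^ 13 * 1152)) by norm_num,
      Nat.factorization_mul (by norm_num) (by norm_num), Finsupp.add_apply,
      Nat.Prime.factorization_self (by norm_num), Nat.factorization_eq_zero_of_not_dvd (by norm_num)]
  let X : Sylow 5 ↥B.NH := Sylow.ofCard (Subgroup.zpowers ⟨x, hxH⟩)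
    (by rw [Nat.card_zpowers, ← Subgroup.orderOf_coe, D.hx, hfac, pow_one])
  let Y : Sylow 5 ↥B.NH := Sylow.ofCard (Subgroup.zpowers ⟨y, hyH⟩)
    (by rw [Nat.card_zpowers, ← Subgroup.orderOf_coe, hyo, hfac, pow_one])
  obtain ⟨h, hh⟩ := MulAction.exists_smul_eq ↥B.NH X Y
  have hm : h * ⟨x, hxH⟩ * h⁻¹ ∈ (Y : Subgroup ↥B.NH) := by
    rw [← hh]
    exact Subgroup.smul_mem_pointwise_smul _ (MulAut.conj h) (X : Subgroup ↥B.NH)
      (by rw [Sylow.coe_ofCard]; exact Subgroup.mem_zpowers _)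
  rw [Sylow.coe_ofCard] at hm
  obtain ⟨k, hk⟩ := hm
  have hk' : y ^ k = (h : G) * x * (h : G)⁻¹ := congrArg Subtype.val hk
  -- `n' = n * h` normalises the group generated by `x`
  set n' := n * (h : G) with hn'
  have hn'x : n' * x * n'⁻¹ = x ^ k := by
    rw [hn', show n * (h : G) * x * (n * (h : G))⁻¹ = n * ((h : G) * x * (h : G)⁻¹) * n⁻¹ by group, ← hk', hy,
      ← conj_zpow]
    group
  have hn'N : n' ∈ B.NV := mul_mem hn h.2.1
  have hn'z : n' * S.z * n'⁻¹ = w := by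
    rw [hn', show n * (h : G) * S.z * (n * (h : G))⁻¹ = n * ((h : G) * S.z * (h : G)⁻¹) * n⁻¹ by group,
      conj_eq_self (g := (h : G)) (y := S.z) (mem_centralizer_singleton_iff'.1 h.2.2), hnz]
  have hback : ∀ {g}, g ∈ S.cent0 x → n'⁻¹ * g * n' ∈ S.cent0 x := by
    intro g hg
    refine D.cent_NV' (mul_mem (mul_mem (inv_mem hn'N) (D.cent0_le_NV hg)) hn'N) ?_
    have h2 := ((S.mem_cent0.1 hg).2).zpow_right k
    rw [← hn'x] at h2
    have := (LargeData.commute_conj_iff' (g := n'⁻¹)).2 h2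
    rwa [inv_inv, show n'⁻¹ * (n' * x * n'⁻¹) * n' = x by group] at this
  have hpc : B.X.F.p ∈ S.cent0 x := S.mem_cent0.2 ⟨S.hPH0 B.X.F.hpP, D.px⟩
  have hzp : Commute w B.X.F.p := by
    have h1 : Commute S.z (n'⁻¹ * B.X.F.p * n') :=
      (mem_centralizer_singleton_iff'.1 (S.hH0 (S.mem_cent0.1 (hback hpc)).1) : Commute _ S.z).symm
    have := (LargeData.commute_conj_iff' (g := n')).2 h1
    rwa [hn'z, show n' * (n'⁻¹ * B.X.F.p * n') * n'⁻¹ = B.X.F.p by group] at this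
  have hw0 : w ∈ S.cent0 x := S.mem_cent0.2 ⟨B.V_le_H0 hwV, hwx⟩
  rcases D.z_central hw0 (by rw [← pow_two]; exact B.V_elementary.2 w hwV) hzp with e | e
  · exfalso
    rw [e, isConj_one_left] at hwz
    exact S.hE.z_ne_one hwz
  · exact e

theorem exists_duad : ∃ t ∈ B.fixV x, t ≠ 1 ∧ t ≠ S.z := by
  by_contra hno
  simp only [not_exists, not_and, not_not] at hno
  have hle : B.fixV x ≤ Subgroup.zpowers S.z := fun w hw => by
    by_cases h : w = 1
    · rw [h]; exact one_mem _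
    · rw [hno w hw h]; exact Subgroup.mem_zpowers _
  have := Subgroup.card_le_of_le hle
  rw [B.card_fixV D.hx D.hxC D.hxN, Nat.card_zpowers, S.orderOf_z] at this
  omega

/-- Conjugates in the centralizer of a given involution are conjugate there, up to powers of the squaring element. -/
theorem class_in_cent {t u : G} (hcN : ∀ i : ℕ, ∀ c : G, c ∈ B.NH → c * x * c⁻¹ = x ^ 2 →
      ∃ h, Commute h x ∧ h * t * h⁻¹ = c ^ i * t * (c ^ i)⁻¹)
    (htx : Commute t x) (h25 : ∀ y : G, Commute y t → orderOf y = 5 →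
      ∃ h, Commute h t ∧ h * x * h⁻¹ ∈ Subgroup.zpowers y)
    (hu : Commute u x) (htu : IsConj t u) : ∃ g, Commute g x ∧ g * t * g⁻¹ = u := by
  haveI : Fact (Nat.Prime 5) := ⟨by norm_num⟩
  obtain ⟨g, hg⟩ := isConj_iff.1 htu
  set y := g⁻¹ * x * g with hy
  have hyt : Commute y t := by
    have h := (LargeData.commute_conj_iff' (g := g⁻¹)).2 hu.symm
    rwa [inv_inv, ← hg, show g⁻¹ * (g * t * g⁻¹) * g = t by group] at h
  have hyo : orderOf y = 5 := by
    rw [hy, show g⁻¹ * x * g = MulAut.conj g⁻¹ x by simp, MulEquiv.orderOf_eq, D.hx]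
  obtain ⟨h, hht, hk⟩ := h25 y hyt hyo
  obtain ⟨k, hk⟩ := hk
  change y ^ k = h * x * h⁻¹ at hk
  have hn : g * h * x * (g * h)⁻¹ = x ^ k := by
    rw [show g * h * x * (g * h)⁻¹ = g * (h * x * h⁻¹) * g⁻¹ by group, ← hk, hy, ← conj_zpow]
    group
  have hnt : g * h * t * (g * h)⁻¹ = u := by
    rw [show g * h * t * (g * h)⁻¹ = g * (h * t * h⁻¹) * g⁻¹ by group, conj_eq_self hht, hg]
  obtain ⟨c, hc, hcx⟩ := D.exists_square
  have hx5 : x ^ 5 = 1 := D.hx ▸ pow_orderOf_eq_one x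
  have hcpow : ∀ i : ℕ, c ^ i * x * (c ^ i)⁻¹ = x ^ (2 ^ i) := by
    intro i
    induction i with
    | zero => simp
    | succ i ih =>
      rw [pow_succ', show c * c ^ i * x * (c * c ^ i)⁻¹ = c * (c ^ i * x * (c ^ i)⁻¹) * c⁻¹ by group, ih,
        ← conj_pow, hcx, ← pow_mul, pow_succ' 2 i]
  obtain ⟨i, hi⟩ : ∃ i : ℕ, x ^ k = x ^ (2 ^ i) := by
    have hk5 : k % 5 ≠ 0 := by
      intro e
      rw [zpow_eq_zpow_emod' k hx5, show k % ((5 : ℕ) : ℤ) = k % 5 from rfl, e, zpow_zero] at hn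
      rw [conj_eq_one_iff] at hn
      have := D.hx
      rw [hn, orderOf_one] at this
      norm_num at this
    rw [zpow_eq_zpow_emod' k hx5, show k % ((5 : ℕ) : ℤ) = k % 5 from rfl]
    rcases (show k % 5 = 1 ∨ k % 5 = 2 ∨ k % 5 = 3 ∨ k % 5 = 4 by omega) with r | r | r | r <;> rw [r]
    · exact ⟨0, by simp⟩
    · exact ⟨1, by norm_num⟩
    · exact ⟨3, by rw [show (2 : ℕ) ^ 3 = 5 + 3 from rfl, pow_add, hx5, one_mul]; exact zpow_natCast x 3⟩
    · exact ⟨2, by norm_num⟩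
  obtain ⟨m, hmx, hmt⟩ := hcN i c hc hcx
  refine ⟨g * h * (c ^ i)⁻¹ * m, Commute.mul_left ?_ hmx, ?_⟩
  · refine mul_inv_eq_iff_eq_mul.1 ?_
    have hb : (c ^ i)⁻¹ * x * c ^ i = x ^ (2 ^ (3 * i)) := by
      have h4 : c ^ (4 * i) * x * (c ^ (4 * i))⁻¹ = x := by
        rw [hcpow, pow_mul, show (2 : ℕ) ^ 4 = 5 * 3 + 1 from rfl]
        have : ∀ j : ℕ, x ^ ((5 * 3 + 1) ^ j) = x := by
          intro j
          induction j with
          | zero => simp
          | succ j ihj => rw [pow_succ, pow_mul, ihj, pow_succ, pow_mul, hx5, one_pow, one_mul]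
        exact this i
      calc (c ^ i)⁻¹ * x * c ^ i = (c ^ i)⁻¹ * (c ^ (4 * i) * x * (c ^ (4 * i))⁻¹) * c ^ i := by rw [h4]
        _ = c ^ (3 * i) * x * (c ^ (3 * i))⁻¹ := by
          rw [show 4 * i = i + 3 * i by ring, pow_add]; group
        _ = _ := hcpow _
    calc g * h * (c ^ i)⁻¹ * x * (g * h * (c ^ i)⁻¹)⁻¹ = g * h * ((c ^ i)⁻¹ * x * c ^ i) * (g * h)⁻¹ := by group
      _ = (g * h * x * (g * h)⁻¹) ^ (2 ^ (3 * i)) := by rw [hb, conj_pow]
      _ = x ^ (2 ^ i * 2 ^ (3 * i)) := by rw [hn, hi, ← pow_mul]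
      _ = x := by
        rw [← pow_add, show i + 3 * i = 4 * i by ring, pow_mul, show (2 : ℕ) ^ 4 = 5 * 3 + 1 from rfl,
          ← pow_mod_orderOf, D.hx, Nat.pow_mod]
        norm_num
  · calc g * h * (c ^ i)⁻¹ * m * t * (g * h * (c ^ i)⁻¹ * m)⁻¹
        = g * h * (c ^ i)⁻¹ * (m * t * m⁻¹) * (g * h * (c ^ i)⁻¹)⁻¹ := by group
      _ = g * h * t * (g * h)⁻¹ := by rw [hmt]; group
      _ = u := hnt

end FiveData

end HexBase

end CfsgLib.JankoFour
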