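import Cfsg.Agent.Lib.JankoFourFive.Structure
import Cfsg.Agent.Lib.JankoFour.DuadClass

/-!
# The local structure at an element of order five (owner: helper17)
-/

set_option autoImplicit false
set_option linter.unusedSectionVars false

namespace CfsgLib.JankoFour

open Cfsg CfsgLib.ThreeTrans CfsgLib.JankoFourHexad

variable {G : Type*} [Group G] [Finite G]

/-- Every subgroup of order five in `C(z)` is generated by an element with a core. -/
theorem exists_core_five [IsSimpleGroup G] (hG : ¬ IsMulCommutative G) {z : G}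
    (hJ : IsOfJankoFourTypeAt z) {Q : Subgroup G} (hQ : Nat.card ↥Q = 5)
    (hQz : Q ≤ Subgroup.centralizer ({z} : Set G)) :
    ∃ x A, Five.Core x A ∧ Subgroup.zpowers x = Q := by
  haveI : Fact (Nat.Prime 5) := ⟨by norm_num⟩
  have hJ' : IsOfJankoFourType G := ⟨z, hJ⟩
  obtain ⟨P, hP⟩ := hJ
  obtain ⟨S, rfl, rfl⟩ := exists_setting hP
  obtain ⟨B⟩ := S.exists_hexBase
  obtain ⟨x, hxC, hx, hxN⟩ := B.exists_in_C_norm (q := 5) rfl
  have D : B.FiveData x := ⟨hx, hxC, hxN, hJ', inferInstance, hG,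
    fun t ht ht1 htz => B.centralizer_duad_le hG hJ' ht ht1 htz⟩
  obtain ⟨t, y, E⟩ := D.exists_eight
  obtain ⟨g, hg, hg1⟩ : ∃ g ∈ Q, g ≠ 1 := by
    by_contra hno
    simp only [not_exists, not_and, not_not] at hno
    rw [(eq_bot_iff.2 fun v hv => Subgroup.mem_bot.2 (hno v hv) : Q = ⊥), Subgroup.card_bot] at hQ
    norm_num at hQ
  have hgo : orderOf g = 5 := by
    refine orderOf_eq_prime ?_ hg1
    have h := congrArg Subtype.val (pow_card_eq_one' (G := ↥Q) (x := ⟨g, hg⟩))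
    rwa [hQ] at h
  haveI : Nonempty (Frame S) := ⟨B.X.F⟩
  obtain ⟨h, -, hh⟩ := S.exists_conj_zpowers (Or.inl rfl) hx D.comm_xz hgo
    (mem_centralizer_singleton_iff'.1 (hQz hg))
  refine ⟨_, _, (E.core D).map (MulAut.conj h), ?_⟩
  refine Subgroup.eq_of_le_of_card_ge ?_ ?_
  · rw [Subgroup.zpowers_le]
    exact (Subgroup.zpowers_le.2 hg) hh
  · rw [hQ, Nat.card_zpowers, MulEquiv.orderOf_eq, hx]

/-- **The local structure at five in groups of Janko-four type.** -/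
theorem order_five_local [IsSimpleGroup G] (hG : ¬ IsMulCommutative G) {z : G}
    (hJ : IsOfJankoFourTypeAt z) {Q : Subgroup G} (hQ : Nat.card ↥Q = 5)
    (hQz : Q ≤ Subgroup.centralizer ({z} : Set G)) :
    ¬ (25 ∣ Nat.card G) ∧
    (∃ J : Subgroup G, Cfsg.IsInternalDirectProduct Q J (Subgroup.centralizer (Q : Set G)) ∧
      ∃ (E : Subgroup ↥J) (_ : E.Normal), Cfsg.IsElementaryAbelian 2 E ∧ Nat.card ↥E = 8 ∧
        Nonempty (↥J ⧸ E ≃* Matrix.SpecialLinearGroup (Fin 3) (ZMod 2)) ∧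
        ∀ K : Subgroup ↥J, ¬ E.IsComplement' K) ∧
    (∃ R : Subgroup G, Q ≤ R ∧ R ≤ Subgroup.normalizer (Q : Set G) ∧ Nat.card ↥R = 20 ∧
      R ⊓ Subgroup.centralizer (Q : Set G) = Q) ∧
    Nat.card ↥(Subgroup.normalizer (Q : Set G)) = 2 ^ 8 * 3 * 5 * 7 := by
  obtain ⟨x, A, C, rfl⟩ := exists_core_five hG hJ hQ hQz
  exact C.conclusion

end CfsgLib.JankoFour
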