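import Cfsg.Agent.Lib.JankoFour.M22Facts
import Cfsg.Agent.Lib.Sporadic.MathieuDefectZero

/-!
# Elements of order five and seven in the Mathieu group of degree 22 (owner: helper17)

Both are self-centralising; all elements of order five are conjugate; the normalizer of a subgroup of
order seven has order 21.
-/

set_option autoImplicit false

namespace CfsgLib.JankoFour.M22

open Cfsg CfsgLib.Sporadic

local notation "M" => Grp

/-- Sylow counting for a self-normalizing action by squaring. -/
theorem normalizer_split {H : Type*} [Group H] [Finite H] {q : ℕ} [Fact q.Prime] (hq : q = 5 ∨ q = 7) {x g : H}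
    (hx : orderOf x = q) (hg : g * x * g⁻¹ = x ^ 2) :
    ∃ k, k ∣ q - 1 ∧ 3 ≤ k ∧ Nat.card (Subgroup.normalizer (Subgroup.zpowers x : Set H)) =
      Nat.card (Subgroup.centralizer ({x} : Set H)) * k := by
  classical
  set P := Subgroup.zpowers x with hP
  set N := Subgroup.normalizer (P : Set H)
  have hcen : Subgroup.centralizer (P : Set H) = Subgroup.centralizer ({x} : Set H) := by
    rw [hP, Subgroup.zpowers_eq_closure, Subgroup.centralizer_closure]
  have hCN : Subgroup.centralizer (P : Set H) ≤ N := fun c hc => Subgroup.mem_normalizer_iff.2 fun a => by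
    constructor
    · intro ha
      rwa [← Subgroup.mem_centralizer_iff.1 hc a ha, mul_inv_cancel_right]
    · intro ha
      have h := Subgroup.mem_centralizer_iff.1 hc _ ha
      rw [inv_mul_cancel_right, mul_left_cancel_iff] at h
      rwa [← h] at ha
  have hPc : Nat.card P = q := by rw [hP, Nat.card_zpowers, hx]
  have hgN : g ∈ N := by
    rw [CfsgLib.Core.mem_normalizer_iff_conj_smul_eq, CfsgLib.Core.conj_smul_eq_map]
    refine Subgroup.eq_of_le_of_card_ge ?_ (by rw [Subgroup.card_map_of_injective (MulAut.conj g).injective])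
    rintro _ ⟨y, ⟨n, rfl⟩, rfl⟩
    show g * x ^ n * g⁻¹ ∈ P
    rw [← conj_zpow, hg]
    exact zpow_mem (pow_mem (Subgroup.mem_zpowers x) 2) n
  set φ := Subgroup.normalizerMonoidHom P
  refine ⟨Nat.card φ.range, ?_, ?_, ?_⟩
  · have hcyc : IsCyclic P := isCyclic_of_prime_card hPc
    have h2 : Nat.card (MulAut P) = q - 1 := by
      rw [IsCyclic.card_mulAut, hPc, Nat.totient_prime Fact.out]
    exact h2 ▸ Subgroup.card_subgroup_dvd_card _
  · let u : N := ⟨g, hgN⟩
    have hk : ∀ {a b : N}, φ a = φ b → (a : H) * x * (a : H)⁻¹ = (b : H) * x * (b : H)⁻¹ := fun {a b} e =>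
      congrArg (fun f : MulAut P => ((f ⟨x, Subgroup.mem_zpowers x⟩ : P) : H)) e
    have h2 : g * g * x * (g * g)⁻¹ = x ^ 4 := by
      rw [show g * g * x * (g * g)⁻¹ = g * (g * x * g⁻¹) * g⁻¹ by group, hg, ← conj_pow, hg, ← pow_mul]
    have hne : ∀ {m n : ℕ}, m < q → n < q → x ^ m = x ^ n → m = n := fun hm hn e =>
      pow_injOn_Iio_orderOf (by rw [Set.mem_Iio, hx]; exact hm) (by rw [Set.mem_Iio, hx]; exact hn) e
    let f : Fin 3 → φ.range := fun i => ⟨φ (u ^ (i : ℕ)), ⟨_, rfl⟩⟩
    have hv : ∀ i : Fin 3, ((u ^ (i : ℕ) : N) : H) * x * ((u ^ (i : ℕ) : N) : H)⁻¹ = x ^ (2 ^ (i : ℕ)) := by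
      intro i
      fin_cases i
      · simp
      · simpa using hg
      · show g ^ 2 * x * (g ^ 2)⁻¹ = x ^ 4
        rw [pow_two]; exact h2
    have hf : Function.Injective f := fun i j e => by
      have h := hk (congrArg Subtype.val e)
      rw [hv, hv] at h
      have h' := hne (by rcases hq with rfl | rfl <;> fin_cases i <;> norm_num)
        (by rcases hq with rfl | rfl <;> fin_cases j <;> norm_num) h
      exact Fin.ext (Nat.pow_right_injective le_rfl h')
    simpa using Nat.card_le_card_of_injective f hf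
  · rw [← Subgroup.index_ker, Subgroup.normalizerMonoidHom_ker]
    rw [← Subgroup.card_mul_index ((Subgroup.centralizer (P : Set H)).subgroupOf N),
      Nat.card_congr (Subgroup.subgroupOfEquivOfLe hCN).toEquiv, hcen]

/-- The packed element of order five. -/
def pFive : ℕ := 961493460022381030808377504673736768

theorem pFive_fix : forallLt 24 (fun i => Nat.beq (bitAt 8659145 i) 0 || Nat.beq i 23 || Nat.beq i 0 ||
      ! forallLt 5 (fun e => ! Nat.beq (porbit pFive 3 e) i)) = true ∧
    fixStep 8659145 [14950785, 8716939, 418953, 8398155, 10881097, 8431757, 272595, 8663097, 2110153, 8688833]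
      ([14950785, 8716939, 418953, 8398155, 10881097, 8431757, 272595, 8663097, 2110153, 8688833] ++
        bitsList 8659145) 15204351 = true ∧
    fixStep 15204351 [1351424] ([1351424] ++ bitsList 15204351) 16777215 = true := by
  decide +kernel

/-- An element of order five, normalized, with self-centralising span. -/
theorem exists_y5 : ∃ y g : M, orderOf y = 5 ∧ g * y * g⁻¹ = y ^ 2 ∧
    Nat.card (Subgroup.centralizer ({y} : Set M)) = 5 := by
  classical
  haveI := Fact.mk (show Nat.Prime 5 by norm_num)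
  obtain ⟨hle, y, hy, hord, hconj⟩ := exists_prime_elt_M22 (q := 5) (k := 2)
    (px := 961493460022381030808377504673736768) (pg := 967171313872380223498479237623563392) (by decide +kernel)
  obtain ⟨g, hg⟩ := isConj_iff.1 hconj
  refine ⟨y, g, hord, hg, ?_⟩
  obtain ⟨hF, s1, s2⟩ := pFive_fix
  -- an element of the centralizer is determined by one image
  have hC : Nat.card (Subgroup.centralizer ({y} : Set M)) ≤ 24 := by
    have hcard : Nat.card GolayPt = 24 := by
      rw [Nat.card_eq_fintype_card, ← Finset.card_univ]; exact card_univ_point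
    rw [← hcard]
    refine Nat.card_le_card_of_injective
      (fun c : Subgroup.centralizer ({y} : Set M) => ((c : M) : Equiv.Perm GolayPt) (pt 3)) fun a b e => ?_
    set u : M := (b : M)⁻¹ * a with hu
    have hc : Commute u y :=
      ((show Commute (b : M) y from Subgroup.mem_centralizer_singleton_iff.1 b.2).inv_left).mul_left
        (show Commute (a : M) y from Subgroup.mem_centralizer_singleton_iff.1 a.2)
    have h3 : (u : Equiv.Perm GolayPt) (pt 3) = pt 3 := by
      show ((b : M) : Equiv.Perm GolayPt)⁻¹ (((a : M) : Equiv.Perm GolayPt) (pt 3)) = pt 3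
      rw [Equiv.Perm.inv_eq_iff_eq]; exact e
    have hfix : ∀ z ∈ setOfMask 8659145, (u : Equiv.Perm GolayPt) z = z := by
      intro z hz
      have h := forallLt_elim hF (ix_lt z)
      simp only [Bool.or_eq_true, Nat.beq_eq, Bool.not_eq_true'] at h
      rcases h with ((h | h) | h) | h
      · rw [mem_setOfMask] at hz
        simp [bitAt_eq, hz] at h
      · rw [← pt_ix z, h]; exact fix_pt23 u
      · rw [← pt_ix z, h]; exact fix_pt0 u
      · rw [Bool.eq_false_iff, ne_eq, forallLt_iff] at h
        push Not at h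
        obtain ⟨e', -, he⟩ := h
        simp only [ne_eq, Bool.not_eq_true', Bool.not_eq_false, Nat.beq_eq] at he
        have ho := porbit_spec (p := pFive) hy (show 3 < 24 by norm_num) e'
        rw [he] at ho
        have hz' : ((y : Equiv.Perm GolayPt) ^ e') (pt 3) = z := ix_injective ho.symm
        have hcc : Commute (u : Equiv.Perm GolayPt) (y : Equiv.Perm GolayPt) := congrArg Subtype.val hc.eq
        rw [← hz', ← Equiv.Perm.mul_apply, (hcc.pow_right e').eq, Equiv.Perm.mul_apply, h3]
    have hu24 : (u : Equiv.Perm GolayPt) ∈ M24 := (M22Aut.mem_M22.1 u.2).1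
    have hall := fixStep_spec s2 hu24 (fixStep_spec s1 hu24 hfix)
    have hu1 : u = 1 := Subtype.ext (Equiv.ext fun z => hall z (by rw [← maskOf_univ, setOfMask_maskOf]; simp))
    exact Subtype.ext (inv_mul_eq_one.1 hu1).symm
  obtain ⟨k, hk, hk3, hN⟩ := normalizer_split (Or.inl rfl) hord hg
  have hfac : (Nat.card M).factorization 5 = 1 := by
    rw [card_sporM22, show (443520 : ℕ) = 5 * 88704 from rfl, Nat.factorization_mul (by norm_num) (by norm_num),
      Finsupp.add_apply, Nat.Prime.factorization_self (by norm_num), Nat.factorization_eq_zero_of_not_dvd (by norm_num)]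
  let T : Sylow 5 M := Sylow.ofCard (Subgroup.zpowers y) (by rw [Nat.card_zpowers, hord, hfac, pow_one])
  have hmod : (Subgroup.normalizer (Subgroup.zpowers y : Set M)).index % 5 = 1 := by
    have h := card_sylow_modEq_one 5 M
    rw [T.card_eq_index_normalizer] at h
    exact h
  have h5 : 5 ∣ Nat.card (Subgroup.centralizer ({y} : Set M)) := by
    conv_lhs => rw [← hord, ← Nat.card_zpowers]
    exact Subgroup.card_dvd_of_le (Subgroup.zpowers_le.2 (Subgroup.mem_centralizer_singleton_iff.2 rfl))
  obtain ⟨c, hc⟩ := h5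
  have hidx := Subgroup.card_mul_index (Subgroup.normalizer (Subgroup.zpowers y : Set M))
  rw [hN, hc, card_sporM22] at hidx
  rw [hc] at hC ⊢
  have hk4 : k = 4 := by
    have := Nat.le_of_dvd (by norm_num) hk
    interval_cases k <;> simp_all
  subst hk4
  have hc4 : c ≤ 4 := by omega
  generalize (Subgroup.normalizer (Subgroup.zpowers y : Set M)).index = n at hidx hmod
  interval_cases c <;> omega

/-- An element of order seven, normalized, with self-centralising span. -/
theorem exists_z7 : ∃ y g : M, orderOf y = 7 ∧ g * y * g⁻¹ = y ^ 2 ∧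
    Nat.card (Subgroup.centralizer ({y} : Set M)) = 7 ∧
    Nat.card (Subgroup.normalizer (Subgroup.zpowers y : Set M)) = 21 := by
  haveI := Fact.mk (show Nat.Prime 7 by norm_num)
  obtain ⟨y, hord, hconj, hN21⟩ := exists_y7
  obtain ⟨g, hg⟩ := isConj_iff.1 hconj
  obtain ⟨k, hk, hk3, hN⟩ := normalizer_split (Or.inr rfl) hord hg
  have h7 : 7 ∣ Nat.card (Subgroup.centralizer ({y} : Set M)) := by
    conv_lhs => rw [← hord, ← Nat.card_zpowers]
    exact Subgroup.card_dvd_of_le (Subgroup.zpowers_le.2 (Subgroup.mem_centralizer_singleton_iff.2 rfl))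
  have hCpos : 0 < Nat.card (Subgroup.centralizer ({y} : Set M)) := Nat.card_pos
  have hc : Nat.card (Subgroup.centralizer ({y} : Set M)) = 7 := by
    obtain ⟨c, hc⟩ := h7
    rw [hN, hc] at hN21
    rw [hc] at hCpos ⊢
    rcases c with _ | _ | c
    · omega
    · rfl
    · nlinarith
  refine ⟨y, g, hord, hg, hc, ?_⟩
  rw [hN, hc] at hN21 ⊢
  omega

/-- A Sylow subgroup of order five or seven is conjugate to any other. -/
theorem zpowers_conj {q : ℕ} (hq : q = 5 ∨ q = 7) {y x : M} (hy : orderOf y = q) (hx : orderOf x = q) :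
    ∃ h : M, h * x * h⁻¹ ∈ Subgroup.zpowers y := by
  haveI : Fact q.Prime := ⟨by rcases hq with rfl | rfl <;> norm_num⟩
  have hfac : (Nat.card M).factorization q = 1 := by
    rw [card_sporM22]
    rcases hq with rfl | rfl
    · rw [show (443520 : ℕ) = 5 * 88704 from rfl, Nat.factorization_mul (by norm_num) (by norm_num),
        Finsupp.add_apply, Nat.Prime.factorization_self (by norm_num), Nat.factorization_eq_zero_of_not_dvd (by norm_num)]
    · rw [show (443520 : ℕ) = 7 * 63360 from rfl, Nat.factorization_mul (by norm_num) (by norm_num),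
        Finsupp.add_apply, Nat.Prime.factorization_self (by norm_num), Nat.factorization_eq_zero_of_not_dvd (by norm_num)]
  let Py : Sylow q M := Sylow.ofCard (Subgroup.zpowers y) (by rw [Nat.card_zpowers, hy, hfac, pow_one])
  let Px : Sylow q M := Sylow.ofCard (Subgroup.zpowers x) (by rw [Nat.card_zpowers, hx, hfac, pow_one])
  obtain ⟨h, hh⟩ := MulAction.exists_smul_eq M Px Py
  refine ⟨h, ?_⟩
  rw [show Subgroup.zpowers y = (Py : Subgroup M) from (Sylow.coe_ofCard _ _).symm, ← hh]
  exact Subgroup.smul_mem_pointwise_smul x (MulAut.conj h) (Px : Subgroup M)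
    (by rw [Sylow.coe_ofCard]; exact Subgroup.mem_zpowers x)

theorem card_centralizer_conj (h x : M) :
    Nat.card (Subgroup.centralizer ({h * x * h⁻¹} : Set M)) = Nat.card (Subgroup.centralizer ({x} : Set M)) := by
  refine (Nat.card_congr (Equiv.subtypeEquiv (MulAut.conj h).toEquiv fun c => ?_)).symm
  rw [Subgroup.mem_centralizer_singleton_iff, Subgroup.mem_centralizer_singleton_iff]
  show c * x = x * c ↔ h * c * h⁻¹ * (h * x * h⁻¹) = h * x * h⁻¹ * (h * c * h⁻¹)
  rw [conj_mul, conj_mul, mul_left_inj, mul_right_inj]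

/-- Elements of order five or seven are self-centralising. -/
theorem centralizer_five_seven {q : ℕ} (hq : q = 5 ∨ q = 7) {x u : M} (hx : orderOf x = q) (hu : Commute u x) :
    u ∈ Subgroup.zpowers x := by
  have hle : Subgroup.zpowers x ≤ Subgroup.centralizer ({x} : Set M) :=
    Subgroup.zpowers_le.2 (Subgroup.mem_centralizer_singleton_iff.2 rfl)
  have key : Nat.card (Subgroup.centralizer ({x} : Set M)) = q := by
    obtain ⟨y, hy, hyc⟩ : ∃ y : M, orderOf y = q ∧ Nat.card (Subgroup.centralizer ({y} : Set M)) = q := by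
      rcases hq with rfl | rfl
      · obtain ⟨y, g, h1, -, h2⟩ := exists_y5; exact ⟨y, h1, h2⟩
      · obtain ⟨y, g, h1, -, h2, -⟩ := exists_z7; exact ⟨y, h1, h2⟩
    obtain ⟨h, hh⟩ := zpowers_conj hq hy hx
    rw [← card_centralizer_conj h x]
    have hz : Subgroup.zpowers (h * x * h⁻¹) = Subgroup.zpowers y :=
      Subgroup.eq_of_le_of_card_ge (Subgroup.zpowers_le.2 hh) (le_of_eq (by
        rw [Nat.card_zpowers, Nat.card_zpowers, hy, show h * x * h⁻¹ = MulAut.conj h x from rfl,
          MulEquiv.orderOf_eq, hx]))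
    rw [← Subgroup.centralizer_closure ({h * x * h⁻¹} : Set M), ← Subgroup.zpowers_eq_closure, hz,
      Subgroup.zpowers_eq_closure, Subgroup.centralizer_closure, hyc]
  rw [Subgroup.eq_of_le_of_card_ge hle (le_of_eq (by rw [key, Nat.card_zpowers, hx]))]
  exact Subgroup.mem_centralizer_singleton_iff.2 hu

/-- All elements of order five are conjugate. -/
theorem isConj_five {x y : M} (hx : orderOf x = 5) (hy : orderOf y = 5) : IsConj x y := by
  obtain ⟨y0, g, h0, hg, -⟩ := exists_y5
  have key : ∀ {w : M}, orderOf w = 5 → IsConj w y0 := by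
    intro w hw
    obtain ⟨h, hh⟩ := zpowers_conj (Or.inl rfl) h0 hw
    refine (isConj_iff.2 ⟨h, rfl⟩ : IsConj w (h * w * h⁻¹)).trans ?_
    have how : orderOf (h * w * h⁻¹) = 5 := by rw [show h * w * h⁻¹ = MulAut.conj h w from rfl, MulEquiv.orderOf_eq, hw]
    obtain ⟨n, hn⟩ := mem_powers_iff_mem_zpowers.2 hh
    have hn' : h * w * h⁻¹ = y0 ^ (n % 5) := by rw [← h0, pow_mod_orderOf]; exact hn.symm
    have h2 : IsConj y0 (y0 ^ 2) := isConj_iff.2 ⟨g, hg⟩
    have h4 : IsConj y0 (y0 ^ 4) := h2.trans (isConj_iff.2 ⟨g, by rw [← conj_pow, hg, ← pow_mul]⟩)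
    have h3 : IsConj y0 (y0 ^ 3) := h4.trans (isConj_iff.2 ⟨g, by
      rw [← conj_pow, hg, ← pow_mul, show 2 * 4 = 3 + 5 from rfl, pow_add, ← h0, pow_orderOf_eq_one, mul_one]⟩)
    have hlt : n % 5 < 5 := Nat.mod_lt _ (by norm_num)
    rw [hn'] at how ⊢
    interval_cases hm : n % 5
    · rw [pow_zero, orderOf_one] at how; norm_num at how
    · rw [pow_one]
    · exact h2.symm
    · exact h3.symm
    · exact h4.symm
  exact (key hx).trans (key hy).symm

end CfsgLib.JankoFour.M22
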