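import Cfsg.Agent.Lib.JankoFour.SylowThree
import Cfsg.Agent.Lib.JankoFourFive.M22Five

/-!
# Elements of order five and seven in the centralizer of `z` (owner: helper17)

They are conjugate into `C`; their centralizer in `C(z)` is an extension of `x`, `P` and the fixed points
in `E` by at most one outer step.
-/

set_option autoImplicit false
set_option linter.unusedSectionVars false

namespace CfsgLib.JankoFour

open Cfsg CfsgLib.ThreeTrans
open CfsgLib.JankoFour.M22 (Grp)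

variable {G : Type*} [Group G] [Finite G]

namespace Setting

variable (S : Setting G)

theorem H0_index : (S.H0.subgroupOf S.H).index = 2 := by
  obtain ⟨o, ho, ho0⟩ := S.exists_outer
  refine Subgroup.index_eq_two_iff.2 ⟨⟨o, S.mem_H.2 ho.1⟩, fun b => ?_⟩
  have hb : Commute (b : G) S.z := S.mem_H.1 b.2
  show Xor' ((b : G) * o ∈ S.H0) ((b : G) ∈ S.H0)
  by_cases h : (b : G) ∈ S.H0
  · exact Or.inr ⟨h, fun h' => ho0 ((S.inner_mul_iff hb ho.1).1 h' |>.1 h)⟩
  · exact Or.inl ⟨S.hidx _ _ hb ho.1 h ho0, h⟩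

theorem card_H_five [Nonempty (Frame S)] : Nat.card S.H = 2 * (3 * 2 ^ 13 * 443520) := by
  obtain ⟨F⟩ := (inferInstance : Nonempty (Frame S))
  have h := (S.H0.subgroupOf S.H).card_mul_index
  rw [S.H0_index, Nat.card_congr (Subgroup.subgroupOfEquivOfLe S.hH0).toEquiv, F.card_H0] at h
  rw [← h]; ring

/-- The fixed points of `x` in `E`. -/
def fixX (x : G) : Subgroup G := S.E ⊓ Subgroup.centralizer ({x} : Set G)

theorem mem_fixX {x e : G} : e ∈ S.fixX x ↔ e ∈ S.E ∧ Commute e x :=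
  and_congr_right fun _ => mem_centralizer_singleton_iff'

/-- The centralizer of `x` in `H0`. -/
def cent0 (x : G) : Subgroup G := S.H0 ⊓ Subgroup.centralizer ({x} : Set G)

theorem mem_cent0 {x h : G} : h ∈ S.cent0 x ↔ h ∈ S.H0 ∧ Commute h x :=
  and_congr_right fun _ => mem_centralizer_singleton_iff'

/-- The centralizer of `x` in `H`. -/
def centH (x : G) : Subgroup G := S.H ⊓ Subgroup.centralizer ({x} : Set G)

theorem mem_centH {x h : G} : h ∈ S.centH x ↔ Commute h S.z ∧ Commute h x :=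
  and_congr S.mem_H mem_centralizer_singleton_iff'

theorem not_sq_dvd_H [Nonempty (Frame S)] {q : ℕ} (hq : q = 5 ∨ q = 7) : ¬ q * q ∣ Nat.card S.H := by
  rw [S.card_H_five]; rcases hq with rfl | rfl <;> norm_num

/-- Elements of order five or seven in `C(z)` are conjugate to powers of one another there. -/
theorem exists_conj_zpowers [Nonempty (Frame S)] {q : ℕ} (hq : q = 5 ∨ q = 7) {x y : G} (hx : orderOf x = q)
    (hxz : Commute x S.z) (hy : orderOf y = q) (hyz : Commute y S.z) :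
    ∃ h, Commute h S.z ∧ h * x * h⁻¹ ∈ Subgroup.zpowers y := by
  haveI : Fact q.Prime := ⟨by rcases hq with rfl | rfl <;> norm_num⟩
  have hfac : (Nat.card S.H).factorization q = 1 := by
    rw [S.card_H_five]
    rcases hq with rfl | rfl
    · rw [show 2 * (3 * 2 ^ 13 * 443520) = 5 * (2 * (3 * 2 ^ 13 * 88704)) by norm_num,
        Nat.factorization_mul (by norm_num) (by norm_num), Finsupp.add_apply,
        Nat.Prime.factorization_self (by norm_num), Nat.factorization_eq_zero_of_not_dvd (by norm_num)]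
    · rw [show 2 * (3 * 2 ^ 13 * 443520) = 7 * (2 * (3 * 2 ^ 13 * 63360)) by norm_num,
        Nat.factorization_mul (by norm_num) (by norm_num), Finsupp.add_apply,
        Nat.Prime.factorization_self (by norm_num), Nat.factorization_eq_zero_of_not_dvd (by norm_num)]
  let X : Sylow q S.H := Sylow.ofCard (Subgroup.zpowers ⟨x, S.mem_H.2 hxz⟩)
    (by rw [Nat.card_zpowers, ← Subgroup.orderOf_coe, hx, hfac, pow_one])
  let Y : Sylow q S.H := Sylow.ofCard (Subgroup.zpowers ⟨y, S.mem_H.2 hyz⟩)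
    (by rw [Nat.card_zpowers, ← Subgroup.orderOf_coe, hy, hfac, pow_one])
  obtain ⟨h, hh⟩ := MulAction.exists_smul_eq S.H X Y
  refine ⟨h, S.mem_H.1 h.2, ?_⟩
  have hm : h * ⟨x, S.mem_H.2 hxz⟩ * h⁻¹ ∈ (Y : Subgroup S.H) := by
    rw [← hh]
    exact Subgroup.smul_mem_pointwise_smul _ (MulAut.conj h) (X : Subgroup S.H)
      (by rw [Sylow.coe_ofCard]; exact Subgroup.mem_zpowers _)
  rw [Sylow.coe_ofCard] at hm
  obtain ⟨n, hn⟩ := hm
  exact ⟨n, congrArg Subtype.val hn⟩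

theorem exists_order_in_C [Nonempty (Frame S)] {q : ℕ} (hq : q = 5 ∨ q = 7) : ∃ x ∈ S.C, orderOf x = q := by
  obtain ⟨F⟩ := (inferInstance : Nonempty (Frame S))
  haveI : Fact q.Prime := ⟨by rcases hq with rfl | rfl <;> norm_num⟩
  obtain ⟨x, hx⟩ := exists_prime_orderOf_dvd_card' (G := S.C) q (by
    rw [F.card_C]; rcases hq with rfl | rfl <;> norm_num)
  exact ⟨x, x.2, by rw [Subgroup.orderOf_coe]; exact hx⟩

/-- The image of an element of order five or seven has the same order. -/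
theorem orderOf_f {q : ℕ} (hq : q = 5 ∨ q = 7) {x : G} (hx : orderOf x = q) (hxC : x ∈ S.C) :
    orderOf (S.f x) = q := by
  haveI : Fact q.Prime := ⟨by rcases hq with rfl | rfl <;> norm_num⟩
  refine orderOf_eq_prime (by rw [← S.f_pow_C hxC, ← hx, pow_orderOf_eq_one, S.f_one]) fun e => ?_
  have h6 := S.ker_pow_six hxC e
  have := orderOf_dvd_of_pow_eq_one h6
  rw [hx] at this
  rcases hq with rfl | rfl <;> norm_num at this

/-- An inner element centralizing `x` is a power of `x`, an element of `P` and a fixed point in `E`. -/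
theorem cent0_decomp {q : ℕ} (hq : q = 5 ∨ q = 7) {x : G} (hx : orderOf x = q) (hxC : x ∈ S.C) {h : G}
    (h0 : h ∈ S.H0) (hc : Commute h x) :
    ∃ n : ℕ, ∃ r ∈ S.P, ∃ e ∈ S.fixX x, h = x ^ n * (r * e) := by
  have hx0 := S.C_le_H0 hxC
  have hfc : Commute (S.f h) (S.f x) := by
    show _ = _; rw [← S.f_mul h0 hx0, ← S.f_mul hx0 h0, hc.eq]
  obtain ⟨n, hn⟩ := mem_powers_iff_mem_zpowers.2 (M22.centralizer_five_seven hq (S.orderOf_f hq hx hxC) hfc)
  have hk : (x ^ n)⁻¹ * h ∈ S.E ⊔ S.P := by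
    refine (S.f_eq_one_iff (mul_mem (inv_mem (pow_mem hx0 n)) h0)).1 ?_
    rw [S.f_mul (inv_mem (pow_mem hx0 n)) h0, S.f_inv (pow_mem hx0 n), S.f_pow hx0,
      show S.f x ^ n = S.f h from hn, inv_mul_cancel]
  obtain ⟨r, hr, e, he, hre⟩ := S.mem_EP.1 hk
  refine ⟨n, r, hr, e, S.mem_fixX.2 ⟨he, ?_⟩, by rw [← hre, mul_inv_cancel_left]⟩
  have h1 : Commute (r * e) x := hre ▸ ((Commute.refl x).pow_left n).inv_left.mul_left hc
  have h2 : Commute r x := ((S.mem_C.1 hxC).2 r hr).symm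
  have := h2.inv_left.mul_left h1
  rwa [inv_mul_cancel_left] at this

theorem card_cent0 {q : ℕ} (hq : q = 5 ∨ q = 7) {x : G} (hx : orderOf x = q) (hxC : x ∈ S.C) :
    Nat.card (S.cent0 x) = q * (3 * Nat.card (S.fixX x)) := by
  have hq3 : Nat.Coprime q (3 * 2 ^ 13) := by rcases hq with rfl | rfl <;> norm_num
  have hpos : 0 < q := by rcases hq with rfl | rfl <;> norm_num
  have hPx : ∀ r ∈ S.P, Commute r x := fun r hr => ((S.mem_C.1 hxC).2 r hr).symm
  have hmem : ∀ (n : ℕ) (r : ↥S.P) (e : ↥(S.fixX x)), x ^ n * ((r : G) * e) ∈ S.cent0 x := fun n r e =>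
    S.mem_cent0.2 ⟨mul_mem (pow_mem (S.C_le_H0 hxC) n) (mul_mem (S.hPH0 r.2) (S.hEH0 (S.mem_fixX.1 e.2).1)),
      ((Commute.refl x).pow_left n).mul_left ((hPx r r.2).mul_left (S.mem_fixX.1 e.2).2)⟩
  let φ : Fin q × ↥S.P × ↥(S.fixX x) → ↥(S.cent0 x) := fun v => ⟨_, hmem v.1 v.2.1 v.2.2⟩
  have hφ : Function.Bijective φ := by
    constructor
    · rintro ⟨m, r, e⟩ ⟨n, s, d⟩ h
      have h' : x ^ (m : ℕ) * ((r : G) * e) = x ^ (n : ℕ) * ((s : G) * d) := congrArg Subtype.val h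
      set k := (x ^ (n : ℕ))⁻¹ * x ^ (m : ℕ)
      have hkEP : k ∈ S.E ⊔ S.P := by
        have e1 : k = ((s : G) * d) * ((r : G) * e)⁻¹ := by
          calc k = (x ^ (n : ℕ))⁻¹ * (x ^ (m : ℕ) * ((r : G) * e)) * ((r : G) * e)⁻¹ := by simp only [k]; group
            _ = _ := by rw [h']; group
        rw [e1]
        exact mul_mem (mul_mem (Subgroup.mem_sup_right s.2) (Subgroup.mem_sup_left (S.mem_fixX.1 d.2).1))
          (inv_mem (mul_mem (Subgroup.mem_sup_right r.2) (Subgroup.mem_sup_left (S.mem_fixX.1 e.2).1)))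
      have hk1 : k = 1 := by
        have h1 : orderOf k ∣ q := hx ▸ (orderOf_dvd_of_pow_eq_one (by
          show k ^ orderOf x = 1
          rw [((Commute.refl x).pow_pow _ _).inv_left.mul_pow, inv_pow, ← pow_mul, ← pow_mul, mul_comm,
            pow_mul, pow_orderOf_eq_one, one_pow, inv_one, one_mul, mul_comm, pow_mul, pow_orderOf_eq_one, one_pow]))
        have h2 : orderOf (⟨k, hkEP⟩ : ↥(S.E ⊔ S.P)) ∣ 3 * 2 ^ 13 := S.EP_card ▸ orderOf_dvd_natCard _
        rw [← Subgroup.orderOf_coe] at h2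
        exact orderOf_eq_one_iff.1 (Nat.eq_one_of_dvd_coprimes hq3 h1 h2)
      have hmn : (m : ℕ) = n := by
        refine pow_injOn_Iio_orderOf (by rw [Set.mem_Iio, hx]; exact m.2) (by rw [Set.mem_Iio, hx]; exact n.2) ?_
        exact (inv_mul_eq_one.1 hk1).symm
      rw [hmn] at h'
      have h'' := mul_left_cancel h'
      have hrs : (s : G)⁻¹ * r = d * (e : G)⁻¹ := by
        calc (s : G)⁻¹ * r = (s : G)⁻¹ * (r * e) * (e : G)⁻¹ := by group
          _ = _ := by rw [h'']; group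
      have h1 := S.P_inf_E (mul_mem (inv_mem s.2) r.2)
        (hrs ▸ mul_mem (S.mem_fixX.1 d.2).1 (inv_mem (S.mem_fixX.1 e.2).1))
      have hrs' : (r : G) = s := (inv_mul_eq_one.1 h1).symm
      rw [hrs'] at h''
      exact Prod.ext (Fin.ext hmn) (Prod.ext (Subtype.ext hrs') (Subtype.ext (mul_left_cancel h'')))
    · rintro ⟨h, hh⟩
      obtain ⟨h0, hc⟩ := S.mem_cent0.1 hh
      obtain ⟨n, r, hr, e, he, heq⟩ := S.cent0_decomp hq hx hxC h0 hc
      refine ⟨(⟨n % q, Nat.mod_lt _ hpos⟩, ⟨r, hr⟩, ⟨e, he⟩), Subtype.ext ?_⟩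
      show x ^ (n % q) * (r * e) = h
      rw [← hx, pow_mod_orderOf]; exact heq.symm
  rw [← Nat.card_congr (Equiv.ofBijective φ hφ), Nat.card_prod, Nat.card_prod, Nat.card_eq_fintype_card,
    Fintype.card_fin, S.hPc]

theorem card_centH_of_outer {x n : G} (hn0 : n ∉ S.H0) (hnz : Commute n S.z) (hnx : Commute n x) :
    Nat.card (S.centH x) = 2 * Nat.card (S.cent0 x) := by
  have hle : S.cent0 x ≤ S.centH x := fun h hh =>
    ⟨S.hH0 (S.mem_cent0.1 hh).1, mem_centralizer_singleton_iff'.2 (S.mem_cent0.1 hh).2⟩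
  have hidx : ((S.cent0 x).subgroupOf (S.centH x)).index = 2 := by
    refine Subgroup.index_eq_two_iff.2 ⟨⟨n, S.mem_centH.2 ⟨hnz, hnx⟩⟩, fun b => ?_⟩
    obtain ⟨hbz, hbx⟩ := S.mem_centH.1 b.2
    show Xor' ((b : G) * n ∈ S.cent0 x) ((b : G) ∈ S.cent0 x)
    by_cases h : (b : G) ∈ S.cent0 x
    · refine Or.inr ⟨h, fun h' => hn0 ?_⟩
      simpa using mul_mem (inv_mem (S.mem_cent0.1 h).1) (S.mem_cent0.1 h').1
    · exact Or.inl ⟨S.mem_cent0.2 ⟨S.hidx _ _ hbz hnz (fun r => h (S.mem_cent0.2 ⟨r, hbx⟩)) hn0,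
        hbx.mul_left hnx⟩, h⟩
  have h := ((S.cent0 x).subgroupOf (S.centH x)).card_mul_index
  rw [hidx, Nat.card_congr (Subgroup.subgroupOfEquivOfLe hle).toEquiv] at h
  rw [← h]; ring

/-- An element of order five in `C` is centralised by an outer element normalising `P`. -/
theorem exists_outer_five {x : G} (hx : orderOf x = 5) (hxC : x ∈ S.C) :
    ∃ n, S.Norm n ∧ n ∉ S.H0 ∧ Commute n x := by
  obtain ⟨n, hn, hn0⟩ := S.exists_outer
  have hyC : n * x * n⁻¹ ∈ S.C := S.conj_C hn hxC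
  have hy : orderOf (n * x * n⁻¹) = 5 := by
    rw [show n * x * n⁻¹ = MulAut.conj n x from rfl, MulEquiv.orderOf_eq, hx]
  obtain ⟨g, hg⟩ := isConj_iff.1 (M22.isConj_five (S.orderOf_f (Or.inl rfl) hy hyC) (S.orderOf_f (Or.inl rfl) hx hxC))
  obtain ⟨c, hc, rfl⟩ := S.exists_C g
  set y := c * (n * x * n⁻¹) * c⁻¹ with hy'
  have hy'C : y ∈ S.C := mul_mem (mul_mem hc hyC) (inv_mem hc)
  have hk : y = x * (x⁻¹ * y) := (mul_inv_cancel_left _ _).symm
  have hkC : x⁻¹ * y ∈ S.C := mul_mem (inv_mem hxC) hy'C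
  have hk1 : S.f (x⁻¹ * y) = 1 := by
    rw [S.f_mul_C (inv_mem hxC) hy'C, S.f_inv_C hxC, S.f_conj_C hc hyC, hg, inv_mul_cancel]
  have hkc : Commute x (x⁻¹ * y) := (S.ker_central hkC hk1 hxC).symm
  have hy5 : y ^ 5 = 1 := by
    rw [hy', conj_pow, ← hy, pow_orderOf_eq_one]; simp
  have hk5 : (x⁻¹ * y) ^ 5 = 1 := by
    rw [hk, hkc.mul_pow, ← hx, pow_orderOf_eq_one, one_mul, hx] at hy5
    exact hy5
  have hk0 : x⁻¹ * y = 1 := by
    have := pow_gcd_eq_one.2 (And.intro hk5 (S.ker_pow_six hkC hk1))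
    rwa [show Nat.gcd 5 6 = 1 from rfl, pow_one] at this
  refine ⟨c * n, Norm.mul S (S.norm_of_mem_C hc) hn, fun h => hn0 ?_, ?_⟩
  · simpa using mul_mem (inv_mem (S.C_le_H0 hc)) h
  · refine mul_inv_eq_iff_eq_mul.1 ?_
    rw [show c * n * x * (c * n)⁻¹ = y by rw [hy']; group]
    exact (inv_mul_eq_one.1 hk0).symm

end Setting

end CfsgLib.JankoFour
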