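import Mathlib
import Cfsg.Prelude.Def_TwoFusion
import Cfsg.Prelude.Def_Transfer
import Cfsg.Agent.Lib.Core.Coprime
import Cfsg.Agent.Lib.Recog.JankoTwoType.SmallFacts

/-!
# The local structure from the eight-group (owner: helper17)

`Five.Core x A` lists what is needed; it is invariant under automorphisms and implies the structure of
the centralizer and the normalizer of `⟨x⟩`.
-/

set_option autoImplicit false
set_option linter.unusedSectionVars false

namespace CfsgLib.JankoFour.Five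

open Cfsg

local notation "SL32" => Matrix.SpecialLinearGroup (Fin 3) (ZMod 2)

theorem one_of_ne_zero_two : ∀ a : ZMod 2, a ≠ 0 → a = 1 := by decide

/-- The automorphisms of an elementary abelian group of order eight. -/
theorem nonempty_mulAut_eight {A : Type*} [CommGroup A] [Finite A] (h2 : ∀ a : A, a * a = 1)
    (h8 : Nat.card A = 8) : Nonempty (MulAut A ≃* SL32) := by
  classical
  letI : Module (ZMod 2) (Additive A) := AddCommGroup.zmodModule (n := 2) fun a => by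
    rw [two_nsmul]; exact h2 a.toMul
  have hd : Module.finrank (ZMod 2) (Additive A) = 3 := by
    have h := Module.natCard_eq_pow_finrank (K := ZMod 2) (V := Additive A)
    rw [Nat.card_zmod, show Nat.card (Additive A) = Nat.card A from rfl, h8] at h
    exact Nat.pow_right_injective le_rfl (h.symm.trans (by norm_num : (8 : ℕ) = 2 ^ 3))
  let b := Module.finBasisOfFinrankEq (ZMod 2) (Additive A) hd
  let T := LinearMap.toMatrixAlgEquiv b
  let lin : MulAut A → Module.End (ZMod 2) (Additive A) :=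
    fun a => (MulEquiv.toAdditive a).toAddMonoidHom.toZModLinearMap 2
  have hlin : ∀ a a' : MulAut A, lin (a * a') = lin a * lin a' := fun a a' => LinearMap.ext fun _ => rfl
  have hlin1 : lin 1 = 1 := LinearMap.ext fun _ => rfl
  have hdet : ∀ a : MulAut A, (T (lin a)).det = 1 := fun a => by
    refine one_of_ne_zero_two _ fun e => ?_
    have h : (T (lin a) * T (lin a⁻¹)).det = 1 := by
      rw [← map_mul, ← hlin, mul_inv_cancel, hlin1, map_one, Matrix.det_one]
    rw [Matrix.det_mul, e, zero_mul] at h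
    exact zero_ne_one h
  let F : MulAut A →* SL32 := MonoidHom.mk' (fun a => ⟨T (lin a), hdet a⟩)
    fun a a' => Subtype.ext ((congrArg T (hlin a a')).trans (map_mul T _ _))
  refine ⟨MulEquiv.ofBijective F ⟨fun a a' e => ?_, fun N => ?_⟩⟩
  · have h := T.injective (congrArg Subtype.val e)
    exact MulEquiv.ext fun v => congrArg Additive.toMul (LinearMap.congr_fun h (Additive.ofMul v))
  · let f := T.symm N.1
    let g := T.symm (N⁻¹).1
    have hgf : g * f = 1 := by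
      rw [← map_mul, ← Matrix.SpecialLinearGroup.coe_mul, inv_mul_cancel, Matrix.SpecialLinearGroup.coe_one, map_one]
    have hfg : f * g = 1 := by
      rw [← map_mul, ← Matrix.SpecialLinearGroup.coe_mul, mul_inv_cancel, Matrix.SpecialLinearGroup.coe_one, map_one]
    let a : MulAut A :=
      { toFun := fun v => (f (Additive.ofMul v)).toMul
        invFun := fun v => (g (Additive.ofMul v)).toMul
        left_inv := fun v => congrArg Additive.toMul (LinearMap.congr_fun hgf (Additive.ofMul v))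
        right_inv := fun v => congrArg Additive.toMul (LinearMap.congr_fun hfg (Additive.ofMul v))
        map_mul' := fun v w => congrArg Additive.toMul (map_add f (Additive.ofMul v) (Additive.ofMul w)) }
    refine ⟨a, Subtype.ext ?_⟩
    show T (lin a) = N.1
    rw [show lin a = f from LinearMap.ext fun _ => rfl]
    exact T.apply_symm_apply _

variable {G : Type*} [Group G]

/-- What is known about `x` and its eight-group. -/
structure Core (x : G) (A : Subgroup G) : Prop where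
  hx : orderOf x = 5
  hA8 : Nat.card A = 8
  hA2 : ∀ a ∈ A, a * a = 1
  hAx : ∀ a ∈ A, Commute a x
  hnorm : ∀ g, Commute g x → ∀ a ∈ A, g * a * g⁻¹ ∈ A
  hcard : Nat.card (Subgroup.centralizer ({x} : Set G)) = 6720
  hker : ∀ g, Commute g x → (∀ a ∈ A, Commute g a) → ∃ i : ℕ, ∃ a ∈ A, g = x ^ i * a
  hns : ∀ K : Subgroup G, (∀ k ∈ K, Commute k x) → A ⊓ K = ⊥ → Nat.card K ≠ 168
  hfix : ∀ e ∈ A, (∀ g, Commute g x → Commute g e) → e = 1
  hc : ∃ c, c * x * c⁻¹ = x ^ 2 ∧ ∀ a ∈ A, c * a * c⁻¹ ∈ A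

theorem commute_map_iff (e : G ≃* G) {g h : G} : Commute (e g) (e h) ↔ Commute g h := by
  simp only [Commute, SemiconjBy, ← map_mul, e.injective.eq_iff]

theorem Core.map {x : G} {A : Subgroup G} (C : Core x A) (e : G ≃* G) : Core (e x) (A.map e.toMonoidHom) := by
  have hm : ∀ {a}, a ∈ A.map e.toMonoidHom ↔ ∃ b ∈ A, e b = a := fun {a} => Subgroup.mem_map
  refine ⟨by rw [MulEquiv.orderOf_eq, C.hx], by rw [Subgroup.card_map_of_injective e.injective, C.hA8],
    ?_, ?_, ?_, ?_, ?_, ?_, ?_, ?_⟩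
  · intro a ha
    obtain ⟨b, hb, rfl⟩ := hm.1 ha
    rw [← map_mul, C.hA2 b hb, map_one]
  · intro a ha
    obtain ⟨b, hb, rfl⟩ := hm.1 ha
    exact (commute_map_iff e).2 (C.hAx b hb)
  · intro g hg a ha
    obtain ⟨b, hb, rfl⟩ := hm.1 ha
    obtain ⟨g, rfl⟩ := e.surjective g
    exact hm.2 ⟨_, C.hnorm g ((commute_map_iff e).1 hg) b hb, by simp⟩
  · rw [← C.hcard]
    refine Nat.card_congr (e.toEquiv.subtypeEquiv fun g => ?_).symm
    show g ∈ Subgroup.centralizer ({x} : Set G) ↔ e g ∈ Subgroup.centralizer ({e x} : Set G)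
    simp only [Subgroup.mem_centralizer_singleton_iff, ← map_mul, e.injective.eq_iff]
  · intro g hg h
    obtain ⟨g, rfl⟩ := e.surjective g
    obtain ⟨i, a, ha, rfl⟩ := C.hker g ((commute_map_iff e).1 hg)
      (fun a ha => (commute_map_iff e).1 (h _ (hm.2 ⟨a, ha, rfl⟩)))
    exact ⟨i, e a, hm.2 ⟨a, ha, rfl⟩, by rw [map_mul, map_pow]⟩
  · intro K hK hAK hc
    refine C.hns (K.comap e.toMonoidHom) (fun k hk => (commute_map_iff e).1 (hK _ hk)) ?_ ?_
    · rw [eq_bot_iff]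
      rintro k ⟨hkA, hkK⟩
      have h : e k ∈ (⊥ : Subgroup G) := hAK ▸ (⟨hm.2 ⟨k, hkA, rfl⟩, hkK⟩ : e k ∈ A.map e.toMonoidHom ⊓ K)
      rw [Subgroup.mem_bot] at h ⊢
      exact e.injective (h.trans (map_one e).symm)
    · rw [← hc]
      exact Nat.card_congr (e.toEquiv.subtypeEquiv fun k => Iff.rfl)
  · intro v hv h
    obtain ⟨b, hb, rfl⟩ := hm.1 hv
    rw [C.hfix b hb fun g hg => (commute_map_iff e).1 (h _ ((commute_map_iff e).2 hg)), map_one]
  · obtain ⟨c, hc1, hc2⟩ := C.hc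
    refine ⟨e c, by rw [← map_inv, ← map_mul, ← map_mul, hc1, map_pow], fun a ha => ?_⟩
    obtain ⟨b, hb, rfl⟩ := hm.1 ha
    exact hm.2 ⟨_, hc2 b hb, by simp⟩

variable [Finite G]

namespace Core

variable {x : G} {A : Subgroup G} (C : Core x A)
include C

theorem x5 : x ^ 5 = 1 := C.hx ▸ pow_orderOf_eq_one x

theorem pow_inj {i j : ℕ} (hi : i < 5) (hj : j < 5) (h : x ^ i = x ^ j) : i = j :=
  pow_injOn_Iio_orderOf (by rw [Set.mem_Iio, C.hx]; exact hi) (by rw [Set.mem_Iio, C.hx]; exact hj) h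

theorem conj_pow_two {c : G} (hc : c * x * c⁻¹ = x ^ 2) : ∀ j : ℕ, c ^ j * x * (c ^ j)⁻¹ = x ^ (2 ^ j) := by
  intro j
  induction j with
  | zero => simp
  | succ j ih =>
    rw [pow_succ', show c * c ^ j * x * (c * c ^ j)⁻¹ = c * (c ^ j * x * (c ^ j)⁻¹) * c⁻¹ by group, ih,
      ← conj_pow, hc, ← pow_mul, pow_succ' 2 j]

theorem hACN : Subgroup.centralizer ({x} : Set G) ≤ Subgroup.normalizer (A : Set G) := fun g hg => by
  have hgx : Commute g x := Subgroup.mem_centralizer_singleton_iff.1 hg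
  exact Subgroup.mem_normalizer_iff.2 fun a =>
    ⟨C.hnorm g hgx a, fun h => by
      have := C.hnorm g⁻¹ hgx.inv_left _ h
      rwa [show g⁻¹ * (g * a * g⁻¹) * g⁻¹⁻¹ = a by group] at this⟩

theorem comm_A {a b : G} (ha : a ∈ A) (hb : b ∈ A) : Commute a b := by
  have hi : ∀ v ∈ A, v⁻¹ = v := fun v hv => inv_eq_of_mul_eq_one_left (C.hA2 v hv)
  show a * b = b * a
  rw [← hi _ (mul_mem ha hb), mul_inv_rev, hi _ ha, hi _ hb]

theorem pow_six {i : ℕ} {a : G} (ha : a ∈ A) : (x ^ i * a) ^ 6 = x ^ i := by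
  rw [((C.hAx a ha).symm.pow_left i).mul_pow, show a ^ 6 = 1 by
      rw [show (6 : ℕ) = 2 * 3 from rfl, pow_mul, pow_two, C.hA2 a ha, one_pow], mul_one,
    ← pow_mul, show i * 6 = 5 * i + i by ring, pow_add, pow_mul, C.x5, one_pow, one_mul]

theorem exists_mulAut : Nonempty (MulAut ↥A ≃* SL32) := by
  letI : CommGroup ↥A := { (inferInstance : Group ↥A) with mul_comm := fun a b => Subtype.ext (C.comm_A a.2 b.2) }
  exact nonempty_mulAut_eight (A := ↥A) (fun a => Subtype.ext (C.hA2 a a.2)) C.hA8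

/-- Every automorphism of the eight-group is induced in the centralizer. -/
theorem exists_induced (α : MulAut ↥A) : ∃ g, Commute g x ∧ ∀ a : ↥A, g * a * g⁻¹ = ((α a : ↥A) : G) := by
  classical
  obtain ⟨eA⟩ := C.exists_mulAut
  set CC := Subgroup.centralizer ({x} : Set G) with hCC
  have hcc : ∀ {g}, g ∈ CC ↔ Commute g x := fun {g} => Subgroup.mem_centralizer_singleton_iff
  have hxC : x ∈ CC := hcc.2 (Commute.refl x)
  have hCCcard : Nat.card ↥CC = 6720 := C.hcard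
  have hAC : A ≤ CC := fun a ha => hcc.2 (C.hAx a ha)
  let φ : ↥CC →* MulAut ↥A := (Subgroup.normalizerMonoidHom A).comp (Subgroup.inclusion C.hACN)
  have hker : ∀ g : ↥CC, φ g = 1 ↔ ∀ a ∈ A, Commute (g : G) a := fun g => by
    refine ⟨fun h a ha => mul_inv_eq_iff_eq_mul.1 ?_, fun h => MulEquiv.ext fun a => Subtype.ext ?_⟩
    · rw [show (g : G) * a * (g : G)⁻¹ = ((φ g ⟨a, ha⟩ : ↥A) : G) from rfl, h]; rfl
    · rw [show ((φ g a : ↥A) : G) = (g : G) * a * (g : G)⁻¹ from rfl, (h a a.2).eq, mul_inv_cancel_right]; rfl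
  have hk40 : Nat.card φ.ker = 40 := by
    let f : Fin 5 × ↥A → ↥φ.ker := fun v => ⟨⟨x ^ (v.1 : ℕ) * (v.2 : G),
      mul_mem (pow_mem hxC _) (hAC v.2.2)⟩, (hker _).2 fun a ha =>
        ((C.hAx a ha).symm.pow_left _).mul_left (C.comm_A v.2.2 ha)⟩
    have hf : Function.Bijective f := by
      constructor
      · rintro ⟨i, a⟩ ⟨j, b⟩ e
        have e' : x ^ (i : ℕ) * (a : G) = x ^ (j : ℕ) * (b : G) :=
          congrArg (fun v : ↥φ.ker => ((v : ↥CC) : G)) e
        have h6 := congrArg (fun v : G => v ^ 6) e'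
        simp only [C.pow_six a.2, C.pow_six b.2] at h6
        have hij : i = j := Fin.ext (C.pow_inj i.2 j.2 h6)
        subst hij
        exact Prod.ext rfl (Subtype.ext (mul_left_cancel e'))
      · intro g
        obtain ⟨i, a, ha, e⟩ := C.hker _ (hcc.1 (g : ↥CC).2) ((hker _).1 g.2)
        refine ⟨(⟨i % 5, Nat.mod_lt _ (by norm_num)⟩, ⟨a, ha⟩), Subtype.ext (Subtype.ext ?_)⟩
        show x ^ (i % 5) * a = _
        rw [← pow_eq_pow_mod i C.x5]; exact e.symm
    rw [← Nat.card_congr (Equiv.ofBijective f hf), Nat.card_prod, Nat.card_fin, C.hA8]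
  have hcardA : Nat.card (MulAut ↥A) = 168 := by
    rw [Nat.card_congr eA.toEquiv, CfsgLib.Recog.HJType.card_sl_three]
  have hφtop : φ.range = ⊤ := by
    have h := φ.ker.card_mul_index
    rw [Subgroup.index_ker, hk40, hCCcard] at h
    exact Subgroup.eq_top_of_card_eq _ (by omega)
  obtain ⟨g, rfl⟩ : α ∈ φ.range := hφtop ▸ Subgroup.mem_top α
  exact ⟨g, hcc.1 g.2, fun a => rfl⟩

/-- An element of order four squaring `x`. -/
theorem exists_four : ∃ c, c * x * c⁻¹ = x ^ 2 ∧ c ^ 4 = 1 := by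
  classical
  obtain ⟨c0, hc0, hc0A⟩ := C.hc
  let β : ↥A →* ↥A := MonoidHom.mk' (fun a => ⟨c0 * a * c0⁻¹, hc0A a a.2⟩)
    fun a b => Subtype.ext (by show c0 * ((a : G) * b) * c0⁻¹ = c0 * a * c0⁻¹ * (c0 * b * c0⁻¹); group)
  have hβ : Function.Bijective β := Finite.injective_iff_bijective.1 fun a b e =>
    Subtype.ext (mul_left_cancel (mul_right_cancel (congrArg Subtype.val e)))
  obtain ⟨j, hjx, hj⟩ := C.exists_induced (MulEquiv.ofBijective β hβ)
  set c1 := j⁻¹ * c0 with hc1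
  have hc1A : ∀ a ∈ A, c1 * a * c1⁻¹ = a := fun a ha => by
    rw [hc1, show j⁻¹ * c0 * a * (j⁻¹ * c0)⁻¹ = j⁻¹ * (c0 * a * c0⁻¹) * j by group,
      show c0 * a * c0⁻¹ = j * a * j⁻¹ from (hj ⟨a, ha⟩).symm]
    group
  have hc1x : c1 * x * c1⁻¹ = x ^ 2 := by
    rw [hc1, show j⁻¹ * c0 * x * (j⁻¹ * c0)⁻¹ = j⁻¹ * (c0 * x * c0⁻¹) * j by group, hc0, mul_assoc,
      ← (hjx.pow_right 2).eq, inv_mul_cancel_left]
  obtain ⟨k, b, hb, hkb⟩ := Nat.exists_eq_two_pow_mul_odd (orderOf_pos c1).ne'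
  obtain ⟨q, hq, hsq⟩ : ∃ q, (q = 1 ∨ q = 3) ∧ (b * q) % 4 = 1 := by
    obtain ⟨m, hm⟩ := hb
    rcases Nat.mod_two_eq_zero_or_one m with r | r
    · exact ⟨1, Or.inl rfl, by omega⟩
    · exact ⟨3, Or.inr rfl, by omega⟩
  set c := c1 ^ (b * q) with hc
  have hcA : ∀ a ∈ A, c * a * c⁻¹ = a := fun a ha => by
    have h1 : Commute c1 a := mul_inv_eq_iff_eq_mul.1 (hc1A a ha)
    rw [hc, (h1.pow_left _).eq, mul_inv_cancel_right]
  have hcx : c * x * c⁻¹ = x ^ 2 := by
    rw [hc, C.conj_pow_two hc1x, pow_eq_pow_mod _ C.x5]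
    congr 1
    have h1 : ∀ m : ℕ, 2 ^ (4 * m) % 5 = 1 := fun m => by rw [pow_mul, Nat.pow_mod]; norm_num
    rw [← Nat.mod_add_div (b * q) 4, hsq, pow_add, Nat.mul_mod, h1]
    norm_num
  have hc2 : c ^ 2 ^ k = 1 := by
    rw [hc, ← pow_mul, show b * q * 2 ^ k = 2 ^ k * b * q by ring, ← hkb, pow_mul, pow_orderOf_eq_one, one_pow]
  refine ⟨c, hcx, C.hfix _ ?_ ?_⟩
  · have hc4x : Commute (c ^ 4) x := mul_inv_eq_iff_eq_mul.1 (by
      rw [C.conj_pow_two hcx, show (2 : ℕ) ^ 4 = 5 * 3 + 1 from rfl, pow_succ, pow_mul, C.x5, one_pow, one_mul])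
    have hc4A : ∀ a ∈ A, Commute (c ^ 4) a := fun a ha =>
      (show Commute c a from mul_inv_eq_iff_eq_mul.1 (hcA a ha)).pow_left 4
    obtain ⟨i, a, ha, e⟩ := C.hker _ hc4x hc4A
    have h1 : (x ^ i) ^ 2 ^ k = 1 := by
      rw [← C.pow_six (i := i) ha, ← e, ← pow_mul, ← pow_mul,
        show 4 * (6 * 2 ^ k) = 2 ^ k * 24 by ring, pow_mul, hc2, one_pow]
    have h2 : (x ^ i) ^ 5 = 1 := by rw [← pow_mul, mul_comm, pow_mul, C.x5, one_pow]
    have h3 := pow_gcd_eq_one.2 (And.intro h2 h1)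
    rw [show Nat.gcd 5 (2 ^ k) = 1 from Nat.Coprime.pow_right k (by norm_num : Nat.Coprime 5 2), pow_one] at h3
    rw [e, h3, one_mul]
    exact ha
  · intro g hg
    have hcg : Commute (c * g * c⁻¹) x := by
      have h := (commute_map_iff (MulAut.conj c)).2 hg
      simp only [MulAut.conj_apply, hcx] at h
      have := h.pow_right 3
      rwa [← pow_mul, show 2 * 3 = 5 + 1 from rfl, pow_succ, C.x5, one_mul] at this
    set m := g⁻¹ * (c * g * c⁻¹) with hm
    have hmA : ∀ a ∈ A, Commute m a := fun a ha => by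
      refine mul_inv_eq_iff_eq_mul.1 ?_
      have hga : g * a * g⁻¹ ∈ A := C.hnorm g hg a ha
      have e1 : c⁻¹ * a * c = a := by
        conv_lhs => rw [← hcA a ha]
        group
      calc m * a * m⁻¹ = g⁻¹ * (c * (g * (c⁻¹ * a * c) * g⁻¹) * c⁻¹) * g := by rw [hm]; group
        _ = a := by rw [e1, hcA _ hga]; group
    obtain ⟨i, e, he, hme⟩ := C.hker m (hg.inv_left.mul_left hcg) hmA
    have step : ∀ n q : ℕ, c * (g * (x ^ n * e ^ q)) * c⁻¹ = g * (x ^ (i + 2 * n) * e ^ (q + 1)) := fun n q => by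
      have h1 : c * g * c⁻¹ = g * (x ^ i * e) := by rw [← hme, hm]; group
      have h2 : c * x ^ n * c⁻¹ = x ^ (2 * n) := by rw [← conj_pow, hcx, ← pow_mul]
      have h3 : c * e ^ q * c⁻¹ = e ^ q := by rw [← conj_pow, hcA e he]
      have h4 : Commute e (x ^ (2 * n)) := (C.hAx e he).pow_right _
      calc c * (g * (x ^ n * e ^ q)) * c⁻¹ = c * g * c⁻¹ * ((c * x ^ n * c⁻¹) * (c * e ^ q * c⁻¹)) := by group
        _ = g * (x ^ i * (e * x ^ (2 * n)) * e ^ q) := by rw [h1, h2, h3]; simp only [mul_assoc]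
        _ = _ := by rw [h4.eq, pow_add, pow_succ']; simp only [mul_assoc]
    refine (show Commute (c ^ 4) g from mul_inv_eq_iff_eq_mul.1 ?_).symm
    calc c ^ 4 * g * (c ^ 4)⁻¹ = c * (c * (c * (c * (g * (x ^ 0 * e ^ 0)) * c⁻¹) * c⁻¹) * c⁻¹) * c⁻¹ := by
          rw [pow_zero, pow_zero, mul_one, mul_one, show c ^ 4 = c * c * c * c by simp [pow_succ]]
          simp only [mul_inv_rev, mul_assoc]
      _ = g * (x ^ (i + 2 * (i + 2 * (i + 2 * (i + 2 * 0)))) * e ^ (0 + 1 + 1 + 1 + 1)) := by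
          rw [step, step, step, step]
      _ = g := by
          rw [show i + 2 * (i + 2 * (i + 2 * (i + 2 * 0))) = 5 * (3 * i) by ring, pow_mul, C.x5, one_pow, one_mul,
            show 0 + 1 + 1 + 1 + 1 = 2 * 2 from rfl, pow_mul, show e ^ 2 = 1 by rw [pow_two, C.hA2 e he], one_pow, mul_one]

/-- The structure of the centralizer. -/
theorem centralizer_structure :
    ∃ J : Subgroup G, Cfsg.IsInternalDirectProduct (Subgroup.zpowers x) J
        (Subgroup.centralizer (Subgroup.zpowers x : Set G)) ∧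
      ∃ (E : Subgroup ↥J) (_ : E.Normal), Cfsg.IsElementaryAbelian 2 E ∧ Nat.card ↥E = 8 ∧
        Nonempty (↥J ⧸ E ≃* SL32) ∧ ∀ K : Subgroup ↥J, ¬ E.IsComplement' K := by
  classical
  haveI : Fact (Nat.Prime 5) := ⟨by norm_num⟩
  rw [show Subgroup.centralizer (Subgroup.zpowers x : Set G) = Subgroup.centralizer ({x} : Set G) by
    rw [Subgroup.zpowers_eq_closure, Subgroup.centralizer_closure]]
  set CC := Subgroup.centralizer ({x} : Set G) with hCC
  have hcc : ∀ {g}, g ∈ CC ↔ Commute g x := fun {g} => Subgroup.mem_centralizer_singleton_iff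
  have hxC : x ∈ CC := hcc.2 (Commute.refl x)
  have hCCcard : Nat.card ↥CC = 6720 := C.hcard
  have hAC : A ≤ CC := fun a ha => hcc.2 (C.hAx a ha)
  obtain ⟨eA⟩ := C.exists_mulAut
  let φ : ↥CC →* MulAut ↥A := (Subgroup.normalizerMonoidHom A).comp (Subgroup.inclusion C.hACN)
  have hker : ∀ g : ↥CC, φ g = 1 ↔ ∀ a ∈ A, Commute (g : G) a := fun g => by
    refine ⟨fun h a ha => mul_inv_eq_iff_eq_mul.1 ?_, fun h => MulEquiv.ext fun a => Subtype.ext ?_⟩
    · rw [show (g : G) * a * (g : G)⁻¹ = ((φ g ⟨a, ha⟩ : ↥A) : G) from rfl, h]; rfl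
    · rw [show ((φ g a : ↥A) : G) = (g : G) * a * (g : G)⁻¹ from rfl, (h a a.2).eq, mul_inv_cancel_right]; rfl
  have hxker : ∀ (i : ℕ) (a : G) (ha : a ∈ A),
      φ ⟨x ^ i * a, mul_mem (pow_mem hxC i) (hAC ha)⟩ = 1 := fun i a ha => (hker _).2 fun v hv =>
    ((C.hAx v hv).symm.pow_left i).mul_left (C.comm_A ha hv)
  have hφtop : φ.range = ⊤ := by
    rw [eq_top_iff]
    intro α _
    obtain ⟨g, hg, hα⟩ := C.exists_induced α
    exact ⟨⟨g, hcc.2 hg⟩, MulEquiv.ext fun a => Subtype.ext (hα a)⟩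
  -- the complement
  set Xc := (Subgroup.zpowers x).subgroupOf CC with hXc
  haveI : Xc.Normal := ⟨fun v hv g => by
    have h : Commute (g : G) v := Commute.symm (by
      obtain ⟨k, hk⟩ := hv
      change x ^ k = (v : G) at hk
      rw [← hk]
      exact (hcc.1 g.2).symm.zpow_left k)
    show (g : G) * v * (g : G)⁻¹ ∈ Subgroup.zpowers x
    rw [h.eq, mul_inv_cancel_right]; exact hv⟩
  have hXcard : Nat.card Xc = 5 := by
    rw [Nat.card_congr (Subgroup.subgroupOfEquivOfLe (Subgroup.zpowers_le.2 hxC)).toEquiv, Nat.card_zpowers, C.hx]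
  have hXidx : Xc.index = 1344 := by
    have h := Xc.card_mul_index
    rw [hXcard, hCCcard] at h
    omega
  obtain ⟨Jc, hJc⟩ := Subgroup.exists_right_complement'_of_coprime (N := Xc) (by rw [hXcard, hXidx]; norm_num)
  have hJcard : Nat.card Jc = 1344 := by
    have h := hJc.card_mul
    rw [hXcard, hCCcard] at h
    omega
  set J := Jc.map CC.subtype with hJ
  have hJm : ∀ {g}, g ∈ J ↔ ∃ hg : g ∈ CC, (⟨g, hg⟩ : ↥CC) ∈ Jc := fun {g} =>
    ⟨by rintro ⟨v, hv, rfl⟩; exact ⟨v.2, hv⟩, fun ⟨hg, h⟩ => ⟨⟨g, hg⟩, h, rfl⟩⟩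
  have hJ1344 : Nat.card J = 1344 := by
    rw [hJ, Subgroup.card_map_of_injective CC.subtype_injective, hJcard]
  have hXJ : ∀ g : ↥CC, ∃ i : ℕ, ∃ j : ↥Jc, (g : G) = x ^ i * ((j : ↥CC) : G) := fun g => by
    obtain ⟨⟨n, j⟩, h⟩ := hJc.2 g
    obtain ⟨i, hi⟩ := mem_powers_iff_mem_zpowers.2 n.2
    exact ⟨i, j, by rw [show x ^ i = ((n : ↥CC) : G) from hi]; exact (congrArg Subtype.val h).symm⟩
  have hpowX : ∀ i : ℕ, x ^ i ∈ J → x ^ i = 1 := fun i hi => by
    have h1 : (x ^ i) ^ 1344 = 1 := by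
      have := congrArg Subtype.val (pow_card_eq_one' (G := ↥J) (x := ⟨_, hi⟩))
      rwa [hJ1344] at this
    have h2 : (x ^ i) ^ 5 = 1 := by rw [← pow_mul, mul_comm, pow_mul, C.x5, one_pow]
    have := pow_gcd_eq_one.2 (And.intro h1 h2)
    rwa [show Nat.gcd 1344 5 = 1 from rfl, pow_one] at this
  have hAJ : A ≤ J := fun a ha => by
    obtain ⟨i, j, hij⟩ := hXJ ⟨a, hAC ha⟩
    change a = x ^ i * ((j : ↥CC) : G) at hij
    have hc : Commute (x ^ i) ((j : ↥CC) : G) := (hcc.1 (j : ↥CC).2).symm.pow_left i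
    have h5 : a = ((j : ↥CC) : G) ^ 5 := by
      calc a = a ^ 5 := by rw [show (5 : ℕ) = 2 * 2 + 1 from rfl, pow_succ, pow_mul,
              show a ^ 2 = 1 by rw [pow_two, C.hA2 a ha], one_pow, one_mul]
        _ = _ := by rw [hij, hc.mul_pow, ← pow_mul, mul_comm i, pow_mul, C.x5, one_pow, one_mul]
    rw [h5]
    exact pow_mem (Subgroup.mem_map_of_mem CC.subtype j.2) 5
  have hJC : J ≤ CC := Subgroup.map_subtype_le Jc
  let ψ : ↥J →* MulAut ↥A := φ.comp (Subgroup.inclusion hJC)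
  have hψker : ψ.ker = A.subgroupOf J := by
    ext g
    refine ⟨fun h => ?_, fun h => (hker ⟨g, hJC g.2⟩).2 fun v hv =>
      C.comm_A h hv⟩
    obtain ⟨i, a, ha, e⟩ := C.hker _ (hcc.1 (hJC g.2)) ((hker ⟨g, hJC g.2⟩).1 h)
    show (g : G) ∈ A
    have hxi : x ^ i = 1 := hpowX i (by
      rw [show x ^ i = (g : G) * a⁻¹ by rw [e, mul_inv_cancel_right]]
      exact mul_mem g.2 (inv_mem (hAJ ha)))
    rwa [e, hxi, one_mul]
  have hψs : Function.Surjective ψ := fun α => by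
    obtain ⟨g, rfl⟩ : α ∈ φ.range := hφtop ▸ Subgroup.mem_top α
    obtain ⟨i, j, hij⟩ := hXJ g
    refine ⟨⟨((j : ↥CC) : G), Subgroup.mem_map_of_mem CC.subtype j.2⟩, ?_⟩
    have hg : g = ⟨x ^ i * 1, mul_mem (pow_mem hxC i) (hAC (one_mem A))⟩ * (j : ↥CC) :=
      Subtype.ext (show (g : G) = x ^ i * 1 * ((j : ↥CC) : G) by rw [mul_one]; exact hij)
    rw [hg, map_mul, hxker i 1 (one_mem A), one_mul]
    rfl
  have hEcard : Nat.card ψ.ker = 8 := by
    rw [hψker, Nat.card_congr (Subgroup.subgroupOfEquivOfLe hAJ).toEquiv, C.hA8]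
  refine ⟨J, ⟨Subgroup.zpowers_le.2 hxC, hJC, fun a ha b hb => ?_, ?_, ?_⟩, ψ.ker, MonoidHom.normal_ker ψ,
    ⟨⟨⟨fun a b => ?_⟩⟩, fun a ha => ?_⟩, hEcard,
    ⟨(QuotientGroup.quotientKerEquivOfSurjective ψ hψs).trans eA⟩, fun K hK => ?_⟩
  · obtain ⟨k, rfl⟩ := ha
    exact ((hcc.1 (hJC hb)).symm.zpow_left k).eq
  · rw [eq_bot_iff]
    rintro g ⟨hgX, hgJ⟩
    obtain ⟨i, rfl⟩ := mem_powers_iff_mem_zpowers.2 hgX
    exact Subgroup.mem_bot.2 (hpowX i hgJ)
  · refine le_antisymm (sup_le (Subgroup.zpowers_le.2 hxC) hJC) fun g hg => ?_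
    obtain ⟨i, j, hij⟩ := hXJ ⟨g, hg⟩
    change g = x ^ i * ((j : ↥CC) : G) at hij
    rw [hij]
    exact mul_mem (Subgroup.mem_sup_left (pow_mem (Subgroup.mem_zpowers x) i))
      (Subgroup.mem_sup_right (Subgroup.mem_map_of_mem CC.subtype j.2))
  · have ha : ((a : ↥J) : G) ∈ A := (hψker ▸ a.2 : (a : ↥J) ∈ A.subgroupOf J)
    have hb : ((b : ↥J) : G) ∈ A := (hψker ▸ b.2 : (b : ↥J) ∈ A.subgroupOf J)
    exact Subtype.ext (Subtype.ext (C.comm_A ha hb).eq)
  · have ha' : (a : G) ∈ A := (hψker ▸ ha : a ∈ A.subgroupOf J)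
    rw [pow_two]; exact Subtype.ext (C.hA2 _ ha')
  · refine C.hns (K.map J.subtype) ?_ ?_ ?_
    · rintro _ ⟨k, -, rfl⟩; exact hcc.1 (hJC k.2)
    · rw [eq_bot_iff]
      rintro _ ⟨hvA, k, hk, rfl⟩
      have hkE : k ∈ ψ.ker := by rw [hψker]; exact hvA
      have : k ∈ (⊥ : Subgroup ↥J) := hK.disjoint.le_bot ⟨hkE, hk⟩
      rw [Subgroup.mem_bot] at this ⊢
      rw [this]; rfl
    · rw [Subgroup.card_map_of_injective J.subtype_injective]
      have h := hK.card_mul
      rw [hEcard, hJ1344] at h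
      omega

/-- The Frobenius group of order twenty and the order of the normalizer. -/
theorem normalizer_structure :
    (∃ R : Subgroup G, Subgroup.zpowers x ≤ R ∧ R ≤ Subgroup.normalizer (Subgroup.zpowers x : Set G) ∧
      Nat.card ↥R = 20 ∧ R ⊓ Subgroup.centralizer (Subgroup.zpowers x : Set G) = Subgroup.zpowers x) ∧
    Nat.card ↥(Subgroup.normalizer (Subgroup.zpowers x : Set G)) = 2 ^ 8 * 3 * 5 * 7 := by
  classical
  obtain ⟨c, hc, hc4⟩ := C.exists_four
  have hcp := C.conj_pow_two hc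
  rw [show Subgroup.centralizer (Subgroup.zpowers x : Set G) = Subgroup.centralizer ({x} : Set G) by
    rw [Subgroup.zpowers_eq_closure, Subgroup.centralizer_closure]]
  set X := Subgroup.zpowers x with hX
  have hXmem : ∀ {v}, v ∈ X → ∃ i, i < 5 ∧ v = x ^ i := fun hv => by
    obtain ⟨i, rfl⟩ := mem_powers_iff_mem_zpowers.2 hv
    exact ⟨i % 5, Nat.mod_lt _ (by norm_num), pow_eq_pow_mod i C.x5⟩
  have hNiff : ∀ {g : G}, (∃ i : ℕ, g * x * g⁻¹ = x ^ i) → g ∈ Subgroup.normalizer (X : Set G) := by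
    rintro g ⟨i, hi⟩
    have hmap : X.map (MulAut.conj g).toMonoidHom = X := by
      refine Subgroup.eq_of_le_of_card_ge ?_ (by rw [Subgroup.card_map_of_injective (MulAut.conj g).injective])
      rw [hX, MonoidHom.map_zpowers, Subgroup.zpowers_le]
      exact ⟨i, by show x ^ (i : ℤ) = g * x * g⁻¹; rw [zpow_natCast, hi]⟩
    refine Subgroup.mem_normalizer_iff.2 fun v => ?_
    conv_rhs => rw [← hmap]
    exact (Subgroup.mem_map_iff_mem (MulAut.conj g).injective).symm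
  have hxN : x ∈ Subgroup.normalizer (X : Set G) := hNiff ⟨1, by group⟩
  have hcN : c ∈ Subgroup.normalizer (X : Set G) := hNiff ⟨2, hc⟩
  have hj0 : ∀ j, j < 4 → c ^ j * x * (c ^ j)⁻¹ = x → j = 0 := fun j hj h => by
    rw [hcp] at h
    have h' : x ^ (2 ^ j % 5) = x ^ 1 := by rw [← pow_eq_pow_mod _ C.x5, h, pow_one]
    have := C.pow_inj (Nat.mod_lt _ (by norm_num)) (by norm_num) h'
    interval_cases j <;> simp_all
  have hcmem : ∀ {v}, v ∈ Subgroup.zpowers c → ∃ j, j < 4 ∧ v = c ^ j := fun hv => by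
    obtain ⟨j, rfl⟩ := mem_powers_iff_mem_zpowers.2 hv
    exact ⟨j % 4, Nat.mod_lt _ (by norm_num), pow_eq_pow_mod j hc4⟩
  have hnorm : Subgroup.zpowers c ≤ Subgroup.normalizer (X : Set G) := Subgroup.zpowers_le.2 hcN
  set R := Subgroup.zpowers c ⊔ X with hR
  have hRmem : ∀ {v}, v ∈ R → ∃ j, j < 4 ∧ ∃ i, i < 5 ∧ v = c ^ j * x ^ i := fun hv => by
    obtain ⟨a, ha, b, hb, rfl⟩ := (CfsgLib.Core.mem_sup_iff_mul hnorm).1 hv
    obtain ⟨j, hj, rfl⟩ := hcmem ha
    obtain ⟨i, hi, rfl⟩ := hXmem hb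
    exact ⟨j, hj, i, hi, rfl⟩
  have hRcap : ∀ {j i : ℕ}, j < 4 → Commute (c ^ j * x ^ i) x → j = 0 := fun {_ i} hj h => by
    refine hj0 _ hj ?_
    have := h.mul_left ((Commute.refl x).pow_left i).inv_left
    rw [mul_inv_cancel_right] at this
    rw [this.eq, mul_inv_cancel_right]
  refine ⟨⟨R, le_sup_right, sup_le hnorm (Subgroup.zpowers_le.2 hxN), ?_, le_antisymm ?_ ?_⟩, ?_⟩
  · let f : Fin 4 × Fin 5 → ↥R := fun v => ⟨c ^ (v.1 : ℕ) * x ^ (v.2 : ℕ),
      mul_mem (Subgroup.mem_sup_left (pow_mem (Subgroup.mem_zpowers c) _))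
        (Subgroup.mem_sup_right (pow_mem (Subgroup.mem_zpowers x) _))⟩
    have hf : Function.Bijective f := by
      constructor
      · rintro ⟨j, i⟩ ⟨j', i'⟩ e
        have e' : c ^ (j : ℕ) * x ^ (i : ℕ) = c ^ (j' : ℕ) * x ^ (i' : ℕ) := congrArg Subtype.val e
        have hj : j = j' := by
          have h4 : ∀ a b : ℕ, a < 4 → b < 4 → a ≤ b → c ^ a * x ^ (i : ℕ) = c ^ b * x ^ (i' : ℕ) ∨
              c ^ a * x ^ (i' : ℕ) = c ^ b * x ^ (i : ℕ) → a = b := by
            intro a b ha hb hab h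
            have hd : Commute (c ^ (b - a)) x := by
              have key : ∀ p q : ℕ, c ^ a * x ^ p = c ^ b * x ^ q → Commute (c ^ (b - a)) x := fun p q r => by
                rw [show c ^ b = c ^ a * c ^ (b - a) by rw [← pow_add, Nat.add_sub_cancel' hab], mul_assoc] at r
                rw [eq_mul_inv_of_mul_eq (mul_left_cancel r).symm]
                exact ((Commute.refl x).pow_left p).mul_left ((Commute.refl x).pow_left q).inv_left
              rcases h with r | r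
              exacts [key _ _ r, key _ _ r]
            have := hj0 (b - a) (by omega) (by rw [hd.eq, mul_inv_cancel_right])
            omega
          rcases le_total (j : ℕ) j' with r | r
          · exact Fin.ext (h4 _ _ j.2 j'.2 r (Or.inl e'))
          · exact Fin.ext (h4 _ _ j'.2 j.2 r (Or.inr e'.symm)).symm
        subst hj
        exact Prod.ext rfl (Fin.ext (C.pow_inj i.2 i'.2 (mul_left_cancel e')))
      · rintro ⟨v, hv⟩
        obtain ⟨j, hj, i, hi, rfl⟩ := hRmem hv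
        exact ⟨(⟨j, hj⟩, ⟨i, hi⟩), rfl⟩
    rw [← Nat.card_congr (Equiv.ofBijective f hf), Nat.card_prod, Nat.card_fin, Nat.card_fin]
  · rintro v ⟨hvR, hvC⟩
    obtain ⟨j, hj, i, -, rfl⟩ := hRmem hvR
    rw [hRcap hj (Subgroup.mem_centralizer_singleton_iff.1 hvC), pow_zero, one_mul]
    exact pow_mem (Subgroup.mem_zpowers x) i
  · exact le_inf le_sup_right (Subgroup.zpowers_le.2 (Subgroup.mem_centralizer_singleton_iff.2 rfl))
  · let f : Fin 4 × ↥(Subgroup.centralizer ({x} : Set G)) → ↥(Subgroup.normalizer (X : Set G)) := fun v =>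
      ⟨c ^ (v.1 : ℕ) * (v.2 : G), mul_mem (pow_mem hcN _) (hNiff ⟨1, by
        rw [Subgroup.mem_centralizer_singleton_iff.1 v.2.2, mul_inv_cancel_right, pow_one]⟩)⟩
    have hgx : ∀ (j : ℕ) (g : ↥(Subgroup.centralizer ({x} : Set G))),
        c ^ j * (g : G) * x * (c ^ j * (g : G))⁻¹ = c ^ j * x * (c ^ j)⁻¹ := fun j g => by
      rw [show c ^ j * (g : G) * x * (c ^ j * (g : G))⁻¹ = c ^ j * ((g : G) * x * (g : G)⁻¹) * (c ^ j)⁻¹ by group,
        Subgroup.mem_centralizer_singleton_iff.1 g.2, mul_inv_cancel_right]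
    have hf : Function.Bijective f := by
      constructor
      · rintro ⟨j, g⟩ ⟨j', g'⟩ e
        have e' : c ^ (j : ℕ) * (g : G) = c ^ (j' : ℕ) * (g' : G) := congrArg Subtype.val e
        have h1 := hgx j g
        rw [e', hgx j' g', hcp, hcp] at h1
        have hj : j = j' := by
          have h2 : x ^ (2 ^ (j' : ℕ) % 5) = x ^ (2 ^ (j : ℕ) % 5) := by
            rw [← pow_eq_pow_mod _ C.x5, ← pow_eq_pow_mod _ C.x5, h1]
          have h3 := C.pow_inj (Nat.mod_lt _ (by norm_num)) (Nat.mod_lt _ (by norm_num)) h2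
          revert h3; fin_cases j <;> fin_cases j' <;> simp
        subst hj
        exact Prod.ext rfl (Subtype.ext (mul_left_cancel e'))
      · rintro ⟨n, hn⟩
        obtain ⟨k, hk, hkn⟩ := hXmem ((Subgroup.mem_normalizer_iff.1 hn x).1 (Subgroup.mem_zpowers x))
        have hk0 : k ≠ 0 := fun r => by
          rw [r, pow_zero, conj_eq_one_iff] at hkn
          have := C.hx
          rw [hkn, orderOf_one] at this
          norm_num at this
        obtain ⟨j, hj, hjk⟩ : ∃ j, j < 4 ∧ 2 ^ j % 5 = k := by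
          have key : ∀ m : Fin 5, m.1 ≠ 0 → ∃ j : Fin 4, 2 ^ j.1 % 5 = m.1 := by decide
          obtain ⟨j, hj⟩ := key ⟨k, hk⟩ hk0
          exact ⟨j.1, j.2, hj⟩
        have hjx : c ^ j * x * (c ^ j)⁻¹ = n * x * n⁻¹ := by
          rw [hcp, hkn, pow_eq_pow_mod _ C.x5, hjk]
        refine ⟨(⟨j, hj⟩, ⟨(c ^ j)⁻¹ * n, Subgroup.mem_centralizer_singleton_iff.2 (mul_inv_eq_iff_eq_mul.1 ?_)⟩),
          Subtype.ext (mul_inv_cancel_left _ _)⟩
        rw [show (c ^ j)⁻¹ * n * x * ((c ^ j)⁻¹ * n)⁻¹ = (c ^ j)⁻¹ * (n * x * n⁻¹) * c ^ j by group, ← hjx]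
        group
    rw [← Nat.card_congr (Equiv.ofBijective f hf), Nat.card_prod, Nat.card_fin, C.hcard]
    norm_num

theorem not_sq_dvd : ¬ 25 ∣ Nat.card G := fun h => by
  haveI : Fact (Nat.Prime 5) := ⟨by norm_num⟩
  obtain ⟨K, hK, hle⟩ := Sylow.exists_subgroup_card_pow_succ (p := 5) (n := 1) (by norm_num; exact h)
    (H := Subgroup.zpowers x) (by rw [Nat.card_zpowers, C.hx, pow_one])
  have hcomm : IsMulCommutative ↥K := IsPGroup.isMulCommutative_of_card_eq_prime_sq hK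
  have hKC : K ≤ Subgroup.centralizer ({x} : Set G) := fun k hk =>
    Subgroup.mem_centralizer_singleton_iff.2
      (congrArg Subtype.val (hcomm.is_comm.comm ⟨k, hk⟩ ⟨x, hle (Subgroup.mem_zpowers x)⟩))
  have := Subgroup.card_dvd_of_le hKC
  rw [hK, C.hcard] at this
  norm_num at this

/-- The conclusion. -/
theorem conclusion :
    ¬ (25 ∣ Nat.card G) ∧
    (∃ J : Subgroup G, Cfsg.IsInternalDirectProduct (Subgroup.zpowers x) J
        (Subgroup.centralizer (Subgroup.zpowers x : Set G)) ∧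
      ∃ (E : Subgroup ↥J) (_ : E.Normal), Cfsg.IsElementaryAbelian 2 E ∧ Nat.card ↥E = 8 ∧
        Nonempty (↥J ⧸ E ≃* SL32) ∧ ∀ K : Subgroup ↥J, ¬ E.IsComplement' K) ∧
    (∃ R : Subgroup G, Subgroup.zpowers x ≤ R ∧ R ≤ Subgroup.normalizer (Subgroup.zpowers x : Set G) ∧
      Nat.card ↥R = 20 ∧ R ⊓ Subgroup.centralizer (Subgroup.zpowers x : Set G) = Subgroup.zpowers x) ∧
    Nat.card ↥(Subgroup.normalizer (Subgroup.zpowers x : Set G)) = 2 ^ 8 * 3 * 5 * 7 :=
  ⟨C.not_sq_dvd, C.centralizer_structure, C.normalizer_structure.1, C.normalizer_structure.2⟩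

end Core

end CfsgLib.JankoFour.Five
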