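import Cfsg.Agent.Lib.JankoFourFive.Lines
import Cfsg.Agent.Lib.Signalizer.OrderFormula

/-!
# Counting involutions commuting with an element of order five (owner: helper17)

In the centralizer of `x` and `z` exactly seven involutions are conjugate to `z`.
-/

set_option autoImplicit false
set_option linter.unusedSectionVars false

namespace CfsgLib.JankoFour

open Cfsg CfsgLib.ThreeTrans
open CfsgLib.JankoFourHexad

variable {G : Type*} [Group G] [Finite G]

/-- A set whose fibres are contained in cosets of a finite subgroup. -/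
theorem ncard_le_of_fibre {α : Type*} [Fintype α] {s : Set G} {A : Subgroup G} (φ : G → α)
    (h : ∀ a ∈ s, ∀ b ∈ s, φ a = φ b → a⁻¹ * b ∈ A) : s.ncard ≤ Fintype.card α * Nat.card A := by
  classical
  rw [← Nat.card_coe_set_eq, ← Nat.card_eq_fintype_card, ← Nat.card_prod]
  have hex : ∀ a : s, ∃ b : s, φ b = φ a := fun a => ⟨a, rfl⟩
  refine Nat.card_le_card_of_injective (fun a : s => (φ a, (⟨((Classical.choose (hex a) : s) : G)⁻¹ * a,
    h _ (Classical.choose (hex a)).2 _ a.2 (Classical.choose_spec (hex a))⟩ : A))) fun a b e => ?_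
  have e1 : φ a = φ b := congrArg Prod.fst e
  have e2 := congrArg (fun v => ((v.2 : A) : G)) e
  simp only [e1] at e2
  exact Subtype.ext (mul_left_cancel e2)

namespace HexBase

variable {S : Setting G} {B : HexBase S} {x : G}

namespace FiveData

variable (D : B.FiveData x)
include D

theorem x5 : x ^ 5 = 1 := D.hx ▸ pow_orderOf_eq_one x

theorem xpow_EP {n : ℕ} (h : x ^ n ∈ S.E ⊔ S.P) : x ^ n = 1 := by
  have h1 : (x ^ n) ^ 5 = 1 := by rw [← pow_mul, mul_comm, pow_mul, D.x5, one_pow]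
  have h2 : (x ^ n) ^ (3 * 2 ^ 13) = 1 := by
    have h := congrArg Subtype.val (pow_card_eq_one' (G := ↥(S.E ⊔ S.P)) (x := ⟨_, h⟩))
    rwa [S.EP_card] at h
  have := pow_gcd_eq_one.2 (And.intro h1 h2)
  rwa [show Nat.gcd 5 (3 * 2 ^ 13) = 1 by norm_num, pow_one] at this

theorem inner_involution_fix {u : G} (hu : u ∈ S.cent0 x) (hu2 : u * u = 1) : u ∈ S.fixX x := by
  obtain ⟨n, r, hr, e, he, rfl⟩ := D.cent0_decomp' hu
  have hEP : r * e ∈ S.E ⊔ S.P :=
    mul_mem (Subgroup.mem_sup_right hr) (Subgroup.mem_sup_left (S.mem_fixX.1 he).1)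
  have hc : Commute (x ^ n) (r * e) :=
    (((S.mem_C.1 D.hxC).2 r hr).mul_right (S.mem_fixX.1 he).2.symm).pow_left n
  have h2 : x ^ n * x ^ n * (r * e * (r * e)) = 1 := by
    rw [← hu2, hc.symm.mul_mul_mul_comm]
  have hn : x ^ n = 1 := by
    have hm : x ^ (n + n) = 1 := D.xpow_EP (by
      rw [pow_add, eq_inv_of_mul_eq_one_left h2]; exact inv_mem (mul_mem hEP hEP))
    calc x ^ n = (x ^ (n + n)) ^ 3 := by
          rw [← pow_mul, show (n + n) * 3 = 5 * n + n by ring, pow_add, pow_mul, D.x5, one_pow, one_mul]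
      _ = 1 := by rw [hm, one_pow]
  rw [hn, one_mul] at hu2 ⊢
  exact S.mem_fixX.2 ⟨S.two_mem_E hEP (n := 1) (by rw [pow_one, pow_two, hu2]),
    ((S.mem_C.1 D.hxC).2 r hr).symm.mul_left (S.mem_fixX.1 he).2⟩

theorem centH_card : Nat.card (S.centH x) = 960 := by
  obtain ⟨n, hn, hn0, hnx⟩ := S.exists_outer_five D.hx D.hxC
  rw [S.card_centH_of_outer hn0 hn.1 hnx, D.cent0_card]

variable {t : G} (htW : t ∈ B.fixV x) (ht1 : t ≠ 1) (htz : t ≠ S.z)
include htW ht1 htz

theorem same_pattern {a b : G} (ha : a ∈ S.fixX x) (hb : b ∈ S.fixX x)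
    (h0 : Commute a t ↔ Commute b t) (h1 : Commute a (B.tp 1 t) ↔ Commute b (B.tp 1 t)) :
    a⁻¹ * b ∈ B.fixV x := by
  have key : ∀ {w : G}, w ∈ S.fixX x → (Commute a w ↔ Commute b w) → Commute (a⁻¹ * b) w := by
    intro w hw hiff
    by_cases hc : Commute a w
    · exact hc.inv_left.mul_left (hiff.1 hc)
    · refine mul_inv_eq_iff_eq_mul.1 ?_
      calc a⁻¹ * b * w * (a⁻¹ * b)⁻¹ = a⁻¹ * (b * w * b⁻¹) * a := by group
        _ = a⁻¹ * (a * w * a⁻¹) * a := by rw [D.conj_K hb hw (fun r => hc (hiff.2 r)), D.conj_K ha hw hc]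
        _ = w := by group
  exact D.mem_fixV_of_commute htW ht1 htz (mul_mem (inv_mem ha) hb) (key (D.t_fixX htW ht1 htz) h0)
    (key (D.tp_fixX (D.t_fixX htW ht1 htz) 1) h1)

theorem t_tp : Commute (B.tp 1 t) t :=
  B.commute_V (B.mem_fixV.1 (D.tp_fixV htW 1)).1 (B.mem_fixV.1 htW).1

/-- An involution outside `V` commuting with `t`. -/
theorem exists_e : ∃ e ∈ S.fixX x, e * e = 1 ∧ Commute e t ∧ ¬ Commute e (B.tp 1 t) := by
  classical
  obtain ⟨e, he, het, he1⟩ : ∃ e ∈ S.fixX x, Commute e t ∧ ¬ Commute e (B.tp 1 t) := by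
    by_contra hno
    simp only [not_exists, not_and, not_not] at hno
    have h := ncard_le_of_fibre (s := (S.fixX x : Set G)) (A := B.fixV x) (fun a => decide (Commute a t))
      (fun a ha b hb e => by
        have h0 : Commute a t ↔ Commute b t := by simpa using e
        by_cases hc : Commute a t
        · exact D.same_pattern htW ht1 htz ha hb h0 (iff_of_true (hno a ha hc) (hno b hb (h0.1 hc)))
        · -- both move `t`
          have hab : Commute (a⁻¹ * b) t := by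
            refine mul_inv_eq_iff_eq_mul.1 ?_
            calc a⁻¹ * b * t * (a⁻¹ * b)⁻¹ = a⁻¹ * (b * t * b⁻¹) * a := by group
              _ = a⁻¹ * (a * t * a⁻¹) * a := by
                rw [D.conj_K hb (D.t_fixX htW ht1 htz) (fun r => hc (h0.2 r)),
                  D.conj_K ha (D.t_fixX htW ht1 htz) hc]
              _ = t := by group
          exact D.mem_fixV_of_commute htW ht1 htz (mul_mem (inv_mem ha) hb) hab
            (hno _ (mul_mem (inv_mem ha) hb) hab))
    rw [← Nat.card_coe_set_eq, show Nat.card ((S.fixX x : Set G) : Set G) = Nat.card (S.fixX x) from rfl,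
      B.card_fixX D.hx D.hxC D.hxN, B.card_fixV D.hx D.hxC D.hxN, Fintype.card_bool] at h
    omega
  obtain ⟨heE, hex⟩ := S.mem_fixX.1 he
  rcases S.hE.eq_or (S.hE.sq_mem heE) with h2 | h2
  · exact ⟨e, he, h2, het, he1⟩
  · refine ⟨B.tp 1 t * e, mul_mem (D.tp_fixX (D.t_fixX htW ht1 htz) 1) he, ?_, (D.t_tp htW ht1 htz).mul_left het, ?_⟩
    · have hc := D.conj_K he (D.tp_fixX (D.t_fixX htW ht1 htz) 1) he1
      have hzE : Commute (B.tp 1 t) S.z := S.hE.commute_z (S.mem_fixX.1 (D.tp_fixX (D.t_fixX htW ht1 htz) 1)).1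
      have hs : B.tp 1 t * B.tp 1 t = 1 := by
        rw [← B.tp_mul, D.t_sq htW ht1 htz]; simp [tp]
      calc B.tp 1 t * e * (B.tp 1 t * e) = B.tp 1 t * (e * B.tp 1 t * e⁻¹) * (e * e) := by group
        _ = (B.tp 1 t * S.z) * B.tp 1 t * S.z := by rw [hc, h2]; group
        _ = S.z * (B.tp 1 t * B.tp 1 t) * S.z := by rw [hzE.eq, mul_assoc S.z]
        _ = 1 := by rw [hs, mul_one, S.hE.mul_self_z]
    · intro r
      refine he1 ?_
      have := (Commute.refl (B.tp 1 t)).inv_left.mul_left r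
      rwa [inv_mul_cancel_left] at this

variable {e : G} (he : e ∈ S.fixX x) (he2 : e * e = 1) (het : Commute e t) (he1 : ¬ Commute e (B.tp 1 t))
include he he2 het he1

theorem e_not_commute_two : ¬ Commute e (B.tp 2 t) := fun h => he1 (by
  have h3 : Commute e (t * B.tp 1 t * B.tp 2 t) := Frame.commute_z_zpowers (S := S)
    (S.hE.commute_z (S.mem_fixX.1 he).1) (D.orbit_prod (D.t_fixX htW ht1 htz))
  have := (het.inv_right.mul_right h3).mul_right h.inv_right
  rwa [show t⁻¹ * (t * B.tp 1 t * B.tp 2 t) * (B.tp 2 t)⁻¹ = B.tp 1 t by group] at this)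

theorem pattern {i : ℕ} (hi : i < 3) :
    (Commute (B.tp i e) t ↔ i = 0) ∧ (Commute (B.tp i e) (B.tp 1 t) ↔ i = 1) := by
  have he2' := D.e_not_commute_two htW ht1 htz he he2 het he1
  have back : ∀ {a b : G} (k : ℕ), Commute (B.tp k a) (B.tp k b) → Commute a b := fun k h =>
    LargeData.commute_conj_iff'.1 h
  have t3 : B.tp 3 t = t := B.tp_three t
  interval_cases i
  · rw [B.tp_zero]; exact ⟨iff_of_true het rfl, iff_of_false he1 (by norm_num)⟩
  · refine ⟨iff_of_false (fun h => he2' ?_) (by norm_num), iff_of_true (B.tp_commute het) rfl⟩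
    refine back 1 ?_
    rwa [B.tp_add, show 1 + 2 = 3 from rfl, t3]
  · refine ⟨iff_of_false (fun h => he1 ?_) (by norm_num), iff_of_false (fun h => he2' ?_) (by norm_num)⟩
    · refine back 2 ?_
      rwa [B.tp_add, show 2 + 1 = 3 from rfl, t3]
    · refine back 2 ?_
      rwa [B.tp_add, show 2 + 2 = 3 + 1 from rfl, ← B.tp_add, B.tp_three]

/-- The four cosets of the fixed group in `V`. -/
theorem fixX_list {k : G} (hk : k ∈ S.fixX x) : k ∈ B.fixV x ∨ ∃ i : Fin 3, ∃ w ∈ B.fixV x, k = B.tp i.1 e * w := by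
  have aux : ∀ i : Fin 3, (Commute k t ↔ i.1 = 0) → (Commute k (B.tp 1 t) ↔ i.1 = 1) →
      ∃ w ∈ B.fixV x, k = B.tp i.1 e * w := fun i h0 h1 => by
    obtain ⟨p0, p1⟩ := D.pattern htW ht1 htz he he2 het he1 i.2
    exact ⟨_, D.same_pattern htW ht1 htz (D.tp_fixX he i.1) hk (p0.trans h0.symm) (p1.trans h1.symm),
      (mul_inv_cancel_left _ _).symm⟩
  by_cases a : Commute k t <;> by_cases b : Commute k (B.tp 1 t)
  · exact Or.inl (D.mem_fixV_of_commute htW ht1 htz hk a b)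
  · exact Or.inr ⟨0, aux 0 (iff_of_true a rfl) (iff_of_false b (by simp))⟩
  · exact Or.inr ⟨1, aux 1 (iff_of_false a (by simp)) (iff_of_true b rfl)⟩
  · exact Or.inr ⟨2, aux 2 (iff_of_false a (by simp)) (iff_of_false b (by simp))⟩

/-- The involutions in a non-trivial coset. -/
theorem coset_involution {i : ℕ} {w : G} (hw : w ∈ B.fixV x)
    (h : B.tp i e * w * (B.tp i e * w) = 1) :
    ∃ c ∈ Subgroup.zpowers S.z, B.tp i e * w = c * B.tp i e ∨ B.tp i e * w = c * B.tp i (e * t) := by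
  set a := B.tp i e with ha
  have haE := (S.mem_fixX.1 (D.tp_fixX he i)).1
  have haa : a * a = 1 := by rw [ha, ← B.tp_mul, he2]; simp [tp]
  have hw2 : w * w = 1 := by rw [← pow_two]; exact B.V_elementary.2 w (B.mem_fixV.1 hw).1
  have hcw : Commute a w := by
    have e1 : a * w * a⁻¹ = w := by
      calc a * w * a⁻¹ = (a * w * (a * w)) * w⁻¹ * (a * a)⁻¹ := by group
        _ = w⁻¹ := by rw [h, haa]; simp
        _ = w := inv_eq_of_mul_eq_one_left hw2
    exact mul_inv_eq_iff_eq_mul.1 e1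
  rcases D.fixV_list htW ht1 htz hw with hwz | ⟨j, c, hc, rfl⟩
  · exact ⟨w, hwz, Or.inl (hcw.eq)⟩
  · refine ⟨c, hc, Or.inr ?_⟩
    have hca : Commute a c := Frame.commute_z_zpowers (S := S) (S.hE.commute_z haE) hc
    have hat : Commute a (B.tp j.1 t) := by
      have := hca.inv_right.mul_right hcw
      rwa [inv_mul_cancel_left] at this
    have hji : B.tp j.1 t = B.tp i t := by
      -- only one member of the orbit commutes with `a`
      obtain ⟨i', hi', hia⟩ : ∃ i' < 3, ∀ y, B.tp i y = B.tp i' y := ⟨i % 3, Nat.mod_lt _ (by norm_num), fun y => by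
        simp only [tp]; rw [pow_eq_pow_mod i B.X.F.p_pow]⟩
      obtain ⟨p0, p1⟩ := D.pattern htW ht1 htz he he2 het he1 hi'
      rw [← hia e, ← ha] at p0 p1
      have he2' := D.e_not_commute_two htW ht1 htz he he2 het he1
      rw [hia t]
      fin_cases j
      · have := p0.1 (by rwa [B.tp_zero] at hat); subst this; rfl
      · have := p1.1 hat; subst this; rfl
      · have h2 : Commute a (B.tp 2 t) := hat
        interval_cases i'
        · exfalso; rw [hia e, B.tp_zero] at ha; exact he2' (ha ▸ h2)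
        · exfalso
          rw [hia e] at ha; rw [ha, show B.tp 2 t = B.tp 1 (B.tp 1 t) from (B.tp_add 1 1 t).symm] at h2
          exact he1 (LargeData.commute_conj_iff'.1 h2)
        · rfl
    rw [hji, B.tp_mul, ← mul_assoc, hca.eq, mul_assoc, ← ha]

theorem et_facts : e * t * (e * t) = 1 ∧ e * t ∈ S.fixX x ∧ Commute (e * t) t := by
  refine ⟨?_, mul_mem he (D.t_fixX htW ht1 htz), het.mul_left (Commute.refl t)⟩
  rw [het.symm.mul_mul_mul_comm, he2, D.t_sq htW ht1 htz, mul_one]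

/-- The outer involutions are at most 24. -/
theorem outer_le : {u | u ∈ S.centH x ∧ u ∉ S.H0 ∧ u * u = 1}.ncard ≤ 24 := by
  classical
  obtain ⟨n0, hn0, hn00, hn0x⟩ := S.exists_outer_five D.hx D.hxC
  obtain ⟨a, b, hb, hab⟩ := Nat.exists_eq_two_pow_mul_odd (orderOf_pos n0).ne'
  set n := n0 ^ b with hn
  have hnz : Commute n S.z := hn0.1.pow_left b
  have hnx : Commute n x := hn0x.pow_left b
  have hnout : n ∉ S.H0 := fun h => hn00 (by
    obtain ⟨k, hk⟩ := hb
    have h1 : (n0 * n0) ^ k ∈ S.H0 := pow_mem (S.sq_mem hn0.1) k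
    rw [hn, hk, pow_succ, pow_mul, pow_two] at h
    simpa using mul_mem (inv_mem h1) h)
  have hn2 : n ^ 2 ^ a = 1 := by rw [hn, ← pow_mul, mul_comm, ← hab, pow_orderOf_eq_one]
  have hnn : n * n ∈ S.E ⊔ S.P := by
    have h0 : n * n ∈ S.cent0 x := S.mem_cent0.2 ⟨S.sq_mem hnz, hnx.mul_left hnx⟩
    obtain ⟨i, r, hr, k, hk, hd⟩ := D.cent0_decomp' h0
    have hEP : r * k ∈ S.E ⊔ S.P :=
      mul_mem (Subgroup.mem_sup_right hr) (Subgroup.mem_sup_left (S.mem_fixX.1 hk).1)
    have h00 : n * n ∈ S.H0 := (S.mem_cent0.1 h0).1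
    have hf1 : S.f (n * n) = S.f x ^ i := by
      rw [hd, S.f_mul (pow_mem (S.C_le_H0 D.hxC) i) (S.EP_le_H0 hEP), S.f_pow_C D.hxC,
        (S.f_eq_one_iff (S.EP_le_H0 hEP)).2 hEP, mul_one]
    have h5 : S.f (n * n) ^ 5 = 1 := by
      rw [hf1, ← pow_mul, mul_comm, pow_mul, ← S.orderOf_f (Or.inl rfl) D.hx D.hxC, pow_orderOf_eq_one, one_pow]
    have h2 : S.f (n * n) ^ 2 ^ a = 1 := by
      rw [← S.f_pow h00, ← pow_two, ← pow_mul, mul_comm, pow_mul, hn2, one_pow, S.f_one]
    have := pow_gcd_eq_one.2 (And.intro h5 h2)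
    rw [show Nat.gcd 5 (2 ^ a) = 1 from Nat.Coprime.pow_right a (by norm_num : Nat.Coprime 5 2), pow_one] at this
    exact (S.f_eq_one_iff h00).1 this
  -- the outer involutions lie in three translates
  let piece : Fin 3 → Set G := fun i =>
    {u | (∃ k ∈ S.fixX x, u = n * (B.X.F.p ^ i.1 * k)) ∧ u * u = 1}
  have hsub : {u | u ∈ S.centH x ∧ u ∉ S.H0 ∧ u * u = 1} ⊆ piece 0 ∪ piece 1 ∪ piece 2 := by
    rintro u ⟨huH, hu0, hu2⟩
    obtain ⟨huz, hux⟩ := S.mem_centH.1 huH
    have hh : n⁻¹ * u ∈ S.cent0 x := S.mem_cent0.2 ⟨S.hidx _ _ hnz.inv_left huz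
      (fun c => hnout (by simpa using inv_mem c)) hu0, hnx.inv_left.mul_left hux⟩
    obtain ⟨i, r, hr, k, hk, hd⟩ := D.cent0_decomp' hh
    set y := r * k with hy
    have hEP : y ∈ S.E ⊔ S.P :=
      mul_mem (Subgroup.mem_sup_right hr) (Subgroup.mem_sup_left (S.mem_fixX.1 hk).1)
    have hyc : Commute (x ^ i) y :=
      (((S.mem_C.1 D.hxC).2 r hr).mul_right (S.mem_fixX.1 hk).2.symm).pow_left i
    have hue : u = n * (x ^ i * y) := by rw [← hd, mul_inv_cancel_left]
    have hxn : Commute (x ^ i) n := hnx.symm.pow_left i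
    have hx2 : x ^ (i + i) = 1 := by
      refine D.xpow_EP ?_
      have e1 : u * u = x ^ (i + i) * (n * n * (n⁻¹ * y * n) * y) := by
        rw [hue, show n * (x ^ i * y) = x ^ i * (n * y) by rw [← mul_assoc, ← hxn.eq, mul_assoc],
          (hxn.mul_right hyc).symm.mul_mul_mul_comm, ← pow_add]
        group
      rw [hu2] at e1
      rw [eq_inv_of_mul_eq_one_left e1.symm]
      refine inv_mem (mul_mem (mul_mem hnn ?_) hEP)
      have := S.hEPn n⁻¹ hnz.inv_left y hEP
      rwa [inv_inv] at this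
    have hxi : x ^ i = 1 := by
      calc x ^ i = (x ^ (i + i)) ^ 3 := by
            rw [← pow_mul, show (i + i) * 3 = 5 * i + i by ring, pow_add, pow_mul, D.x5, one_pow, one_mul]
        _ = 1 := by rw [hx2, one_pow]
    rw [hxi, one_mul] at hue
    obtain ⟨j, rfl⟩ := B.X.F.P_eq hr
    rw [hy, pow_eq_pow_mod j B.X.F.p_pow] at hue
    rcases (show j % 3 = 0 ∨ j % 3 = 1 ∨ j % 3 = 2 by omega) with e' | e' | e' <;> rw [e'] at hue
    exacts [Or.inl (Or.inl ⟨⟨k, hk, hue⟩, hu2⟩), Or.inl (Or.inr ⟨⟨k, hk, hue⟩, hu2⟩), Or.inr ⟨⟨k, hk, hue⟩, hu2⟩]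
  have hpiece : ∀ i, (piece i).ncard ≤ 8 := by
    intro i
    refine (ncard_le_of_fibre (A := Subgroup.zpowers S.z) (fun v =>
      (decide (Commute ((n * B.X.F.p ^ i.1)⁻¹ * v) t), decide (Commute ((n * B.X.F.p ^ i.1)⁻¹ * v) (B.tp 1 t))))
      ?_).trans (le_of_eq (by rw [Nat.card_zpowers, S.orderOf_z]; rfl))
    rintro u ⟨⟨k, hk, rfl⟩, hu2⟩ v ⟨⟨l, hl, rfl⟩, hv2⟩ hφ
    set w := n * (B.X.F.p ^ i.1 * k) with hw
    have e1 : (n * B.X.F.p ^ i.1)⁻¹ * w = k := by rw [hw]; group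
    have e2 : (n * B.X.F.p ^ i.1)⁻¹ * (n * (B.X.F.p ^ i.1 * l)) = l := by group
    simp only [e1, e2, Prod.mk.injEq, decide_eq_decide] at hφ
    have hd : k⁻¹ * l ∈ B.fixV x := D.same_pattern htW ht1 htz hk hl hφ.1 hφ.2
    have hdE := B.fixV_le_E D.hx D.hxC D.hxN hd
    rw [show w⁻¹ * (n * (B.X.F.p ^ i.1 * l)) = k⁻¹ * l by rw [hw]; group]
    set d := k⁻¹ * l with hdd
    have hwinv : w⁻¹ = w := inv_eq_of_mul_eq_one_left hu2
    have hd2 : d * d = 1 := by rw [← pow_two]; exact B.V_elementary.2 d (B.mem_fixV.1 hd).1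
    have hwd : n * (B.X.F.p ^ i.1 * l) = w * d := by rw [hw, hdd]; group
    rw [hwd] at hv2
    have hcd : Commute w d := by
      have e3 : w * d * w⁻¹ = d := by
        rw [hwinv]
        calc w * d * w = (w * d * (w * d)) * d⁻¹ := by group
          _ = d⁻¹ := by rw [hv2, one_mul]
          _ = d := inv_eq_of_mul_eq_one_left hd2
      exact mul_inv_eq_iff_eq_mul.1 e3
    by_contra hdz
    have hpz : Commute (B.X.F.p ^ i.1) S.z := (Frame.commute_z (S := S) B.X.F.hpC).pow_left _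
    have hwz : Commute w S.z := hnz.mul_left (hpz.mul_left (S.hE.commute_z (S.mem_fixX.1 hk).1))
    have hwx : Commute w x := hnx.mul_left ((D.px.pow_left _).mul_left (S.mem_fixX.1 hk).2)
    have hw0 : w ∉ S.H0 := fun h => hnout (by
      have h2 : B.X.F.p ^ i.1 * k ∈ S.H0 :=
        mul_mem (pow_mem (S.hPH0 B.X.F.hpP) _) (S.hEH0 (S.mem_fixX.1 hk).1)
      rw [show n = w * (B.X.F.p ^ i.1 * k)⁻¹ by rw [hw, mul_inv_cancel_right]]
      exact mul_mem h (inv_mem h2))
    have hd1 : d ≠ 1 := fun r => hdz (r ▸ one_mem _)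
    have hdz' : d ≠ S.z := fun r => hdz (r ▸ Subgroup.mem_zpowers _)
    exact hw0 (S.mem_cent0.1 (D.cent_t_le hd hd1 hdz' hwx hcd)).1
  refine (Set.ncard_le_ncard hsub).trans ?_
  have h1 := Set.ncard_union_le (piece 0 ∪ piece 1) (piece 2)
  have h2 := Set.ncard_union_le (piece 0) (piece 1)
  have := hpiece 0; have := hpiece 1; have := hpiece 2
  omega

end FiveData

end HexBase

end CfsgLib.JankoFour
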