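import Cfsg.Agent.Lib.JankoFourHexad.Points
import Cfsg.Agent.Lib.JankoFourFive.Local
import Cfsg.Agent.Lib.JankoFourFive.M24Five

/-!
# An element of order five in `C` normalizing `V` (owner: helper17)

Its fixed group in `V` has order 8 and lies in `E`, its fixed group in `E` has order 32, and its
centralizer in `N(V)` is its centralizer in `H0`.
-/

set_option autoImplicit false
set_option linter.unusedSectionVars false

namespace CfsgLib.JankoFour

open Cfsg CfsgLib.ThreeTrans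
open CfsgLib.JankoFourHexad

variable {G : Type*} [Group G] [Finite G]

namespace HexBase

variable {S : Setting G} (B : HexBase S)

/-- The fixed points of `x` in `V`. -/
def fixV (x : G) : Subgroup G := B.V ⊓ Subgroup.centralizer ({x} : Set G)

theorem mem_fixV {x v : G} : v ∈ B.fixV x ↔ v ∈ B.V ∧ Commute v x :=
  and_congr_right fun _ => mem_centralizer_singleton_iff'

theorem card_F1 : Nat.card B.X.F1 = 2 ^ 7 := by
  have hmem : ∀ n : Fin 128, B.vel n.1 ∈ B.X.F1 := fun n => by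
    have h7 : Nat.shiftRight n.1 7 = 0 := by
      show n.1 >>> 7 = 0
      rw [Nat.shiftRight_eq_div_pow]; omega
    rw [B.vel_split ⟨n.1, by omega⟩, h7, gprod_zero, mul_one]
    refine mul_mem ?_ (B.U_mem _)
    rcases zpar_mem (c := S.z) n.1 with e | e <;> rw [e]
    exacts [one_mem _, B.X.z_F1]
  have hbij : Function.Bijective (fun n : Fin 128 => (⟨B.vel n.1, hmem n⟩ : ↥B.X.F1)) := by
    refine ⟨fun a b e => Fin.ext (B.vel_inj (by omega) (by omega) (congrArg Subtype.val e)), fun y => ?_⟩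
    obtain ⟨u, hu, c, hc, e⟩ := B.mem_F1_code y.2
    have hu2 : Nat.shiftLeft u 1 = 2 * u := by show u <<< 1 = 2 * u; rw [Nat.shiftLeft_eq]; ring
    rcases S.hE.eq_or hc with rfl | rfl
    · exact ⟨⟨Nat.shiftLeft u 1, by omega⟩, Subtype.ext (by rw [e, one_mul]; exact B.vel_U hu)⟩
    · refine ⟨⟨Nat.xor 1 (Nat.shiftLeft u 1), Nat.xor_lt_two_pow (n := 7) (by norm_num) (by omega)⟩, Subtype.ext ?_⟩
      rw [e]
      show B.vel (Nat.xor 1 (Nat.shiftLeft u 1)) = _
      rw [← B.vel_xor, B.vel_one, B.vel_U hu]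
  rw [← Nat.card_congr (Equiv.ofBijective _ hbij), Nat.card_fin]; norm_num

/-- An element of order five or seven in `C` normalising `V`, from any prime in the normaliser. -/
theorem exists_in_C_norm {q : ℕ} (hq : q = 5) :
    ∃ x ∈ S.C, orderOf x = q ∧ x ∈ Subgroup.normalizer (B.V : Set G) := by
  haveI : Fact q.Prime := ⟨by subst hq; norm_num⟩
  obtain ⟨⟨y, hy⟩, hyq⟩ := exists_prime_orderOf_dvd_card' (G := ↥(S.H0 ⊓ Subgroup.normalizer (B.V : Set G))) q
    (by rw [B.card_norm, hq]; norm_num)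
  rw [← Subgroup.orderOf_coe] at hyq
  obtain ⟨hy0, hyN⟩ := hy
  change orderOf y = q at hyq
  obtain ⟨c, hc, hcf⟩ := S.exists_C (S.f y)
  have hc0 := S.C_le_H0 hc
  have hcN : c ∈ Subgroup.normalizer (B.V : Set G) := by
    have hk : y⁻¹ * c ∈ S.E ⊔ S.P := (S.f_eq_one_iff (mul_mem (inv_mem hy0) hc0)).1 (by
      rw [S.f_mul (inv_mem hy0) hc0, S.f_inv hy0, hcf, inv_mul_cancel])
    simpa using mul_mem hyN (B.EP_norm hk)
  have hy5 : S.f y ^ 5 = 1 := by rw [← S.f_pow hy0, ← hq, ← hyq, pow_orderOf_eq_one, S.f_one]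
  have hne : S.f y ≠ 1 := fun e => by
    have h := orderOf_dvd_natCard (⟨y, (S.f_eq_one_iff hy0).1 e⟩ : ↥(S.E ⊔ S.P))
    rw [S.EP_card, ← Subgroup.orderOf_coe, show orderOf y = 5 from hyq.trans hq] at h
    norm_num at h
  refine ⟨c ^ 6, pow_mem hc 6, orderOf_eq_prime ?_ ?_, pow_mem hcN 6⟩
  · rw [← pow_mul, hq, show 6 * 5 = 5 * 6 from rfl, pow_mul]
    exact S.ker_pow_six (pow_mem hc 5) (by rw [S.f_pow_C hc, hcf, hy5])
  · intro e
    have := congrArg S.f e
    rw [S.f_pow_C hc, hcf, S.f_one, pow_succ, hy5, one_mul] at this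
    exact hne this

section Five

variable {x : G} (hx : orderOf x = 5) (hxC : x ∈ S.C) (hxN : x ∈ Subgroup.normalizer (B.V : Set G))
include hx hxC hxN

theorem not_mem_V : x ∉ B.V := fun h => by
  have := orderOf_dvd_of_pow_eq_one (B.V_elementary.2 x h)
  rw [hx] at this; norm_num at this

theorem fixV_le_E : B.fixV x ≤ S.E := by
  intro v hv
  obtain ⟨hvV, hvx⟩ := B.mem_fixV.1 hv
  have hv0 : v ∈ S.H0 := B.V_le_H0 hvV
  have hv2 : v ^ 2 = 1 := B.V_elementary.2 v hvV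
  obtain ⟨n, r, hr, e, he, h⟩ := S.cent0_decomp (Or.inl rfl) hx hxC hv0 hvx
  have hfv : S.f v = S.f x ^ n := by
    rw [h, S.f_mul (pow_mem (S.C_le_H0 hxC) n) (mul_mem (S.hPH0 hr) (S.hEH0 (S.mem_fixX.1 he).1)), S.f_pow_C hxC,
      (S.f_eq_one_iff (mul_mem (S.hPH0 hr) (S.hEH0 (S.mem_fixX.1 he).1))).2
        (mul_mem (Subgroup.mem_sup_right hr) (Subgroup.mem_sup_left (S.mem_fixX.1 he).1)), mul_one]
  have h1 : S.f v = 1 := by
    have h5 : S.f v ^ 5 = 1 := by
      rw [hfv, ← pow_mul, mul_comm, pow_mul, ← S.orderOf_f (Or.inl rfl) hx hxC, pow_orderOf_eq_one, one_pow]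
    have h2 : S.f v ^ 2 = 1 := by rw [← S.f_pow hv0, hv2, S.f_one]
    have := pow_gcd_eq_one.2 (And.intro h5 h2)
    rwa [show Nat.gcd 5 2 = 1 from rfl, pow_one] at this
  exact S.two_mem_E ((S.f_eq_one_iff hv0).1 h1) (n := 1) (by rw [pow_one]; exact hv2)

theorem fixV_eq : B.fixV x = B.X.F1 ⊓ Subgroup.centralizer ({x} : Set G) := by
  refine le_antisymm (fun v hv => ⟨B.mem_F1_of_V hv.1 (B.fixV_le_E hx hxC hxN hv), hv.2⟩) ?_
  exact inf_le_inf_right _ B.F1_le_V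

theorem x_norm_F1 : x ∈ Subgroup.normalizer (B.X.F1 : Set G) := B.norm_V_le ⟨S.C_le_H0 hxC, hxN⟩

/-- The fixed group in `V` has order eight. -/
theorem card_fixV : Nat.card (B.fixV x) = 8 := by
  haveI : Fact (Nat.Prime 5) := ⟨by norm_num⟩
  haveI : Fact (Nat.Prime 2) := ⟨Nat.prime_two⟩
  rw [B.fixV_eq hx hxC hxN]
  have hmod := fixed_modEq (IsPGroup.of_card (p := 5) (n := 1) (by rw [Nat.card_zpowers, hx, pow_one]))
    B.X.F1 (B.x_norm_F1 hx hxC hxN)
  set K := B.X.F1 ⊓ Subgroup.centralizer ({x} : Set G)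
  obtain ⟨k, hk⟩ := IsPGroup.iff_card.1 ((IsPGroup.of_card (n := 7) B.card_F1).to_le (inf_le_left : K ≤ B.X.F1))
  have hle := Subgroup.card_le_of_le (inf_le_left : K ≤ B.X.F1)
  rw [hk, B.card_F1] at hle
  have hk7 : k ≤ 7 := (Nat.pow_le_pow_iff_right (by norm_num : 1 < 2)).1 hle
  rw [B.card_F1, hk, Nat.ModEq] at hmod
  have hne : k ≠ 7 := fun e => by
    have hKF : K = B.X.F1 := Subgroup.eq_of_le_of_card_ge inf_le_left (by rw [hk, e, B.card_F1])
    exact B.not_mem_V hx hxC hxN (B.cent_F1 fun f hf =>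
      (show Commute f x from mem_centralizer_singleton_iff'.1 (hKF.symm ▸ hf : f ∈ K).2).symm)
  rw [hk]
  have key : ∀ m : Fin 8, 2 ^ 7 % 5 = 2 ^ m.1 % 5 → m.1 ≠ 7 → m.1 = 3 := by decide
  have hk3 : k = 3 := key ⟨k, by omega⟩ hmod hne
  rw [hk3]; norm_num

theorem eq_F1_of_comm_fixV {e : G} (he : e ∈ S.fixX x) (h : ∀ w ∈ B.fixV x, Commute e w) : e ∈ B.X.F1 := by
  obtain ⟨heE, hex⟩ := S.mem_fixX.1 he
  refine B.mem_F1_of_V (B.cent_F1 fun u hu => ?_) heE
  -- the product over the orbit is fixed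
  let v : ℕ → G := fun i => x ^ i * u * (x ^ i)⁻¹
  have hxn := B.x_norm_F1 hx hxC hxN
  have hv : ∀ i, v i ∈ B.X.F1 := fun i => (Subgroup.mem_normalizer_iff.1 (pow_mem hxn i) u).1 hu
  have hcomm : ∀ i j, Commute (v i) (v j) := fun i j => B.X.F1_comm (hv i) (hv j)
  have hv5 : v 5 = v 0 := by simp only [v]; rw [← hx, pow_orderOf_eq_one]; simp
  set w := v 0 * v 1 * v 2 * v 3 * v 4 with hw
  have hvs : ∀ i, x * v i * x⁻¹ = v (i + 1) := fun i => by simp only [v]; rw [pow_succ']; group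
  have hwF : w ∈ B.X.F1 := mul_mem (mul_mem (mul_mem (mul_mem (hv 0) (hv 1)) (hv 2)) (hv 3)) (hv 4)
  have hwW : w ∈ B.fixV x := by
    rw [B.fixV_eq hx hxC hxN]
    refine ⟨hwF, mem_centralizer_singleton_iff'.2 ?_⟩
    have e1 : x * w * x⁻¹ = w := by
      calc x * w * x⁻¹ = (x * v 0 * x⁻¹) * (x * v 1 * x⁻¹) * (x * v 2 * x⁻¹) * (x * v 3 * x⁻¹) * (x * v 4 * x⁻¹) := by
            rw [hw]; group
        _ = (v 1 * v 2 * v 3 * v 4) * v 0 := by rw [hvs, hvs, hvs, hvs, hvs, hv5]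
        _ = v 0 * (v 1 * v 2 * v 3 * v 4) :=
            ((((hcomm 0 1).mul_right (hcomm 0 2)).mul_right (hcomm 0 3)).mul_right (hcomm 0 4)).eq.symm
        _ = w := by rw [hw]; group
    exact (mul_inv_eq_iff_eq_mul.1 e1).symm
  have huE := B.X.F1_le_E hu
  by_contra hu'
  have hne : e * u * e⁻¹ = S.z * u := (S.hE.conj_eq_or heE huE).resolve_left fun r => hu' (mul_inv_eq_iff_eq_mul.1 r)
  have hzx : ∀ i, x ^ i * S.z * (x ^ i)⁻¹ = S.z := fun i => by
    rw [((Frame.commute_z (S := S) hxC).pow_left i).eq, mul_inv_cancel_right]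
  have hvi : ∀ i, e * v i * e⁻¹ = S.z * v i := fun i => by
    simp only [v]
    rw [show e * (x ^ i * u * (x ^ i)⁻¹) * e⁻¹ = (e * x ^ i) * u * (e * x ^ i)⁻¹ by group, (hex.pow_right i).eq,
      show x ^ i * e * u * (x ^ i * e)⁻¹ = x ^ i * (e * u * e⁻¹) * (x ^ i)⁻¹ by group, hne,
      show x ^ i * (S.z * u) * (x ^ i)⁻¹ = (x ^ i * S.z * (x ^ i)⁻¹) * (x ^ i * u * (x ^ i)⁻¹) by group, hzx]
  have hzc : ∀ i, Commute S.z (v i) := fun i => (S.hE.commute_z (B.X.F1_le_E (hv i))).symm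
  have hze : e * S.z * e⁻¹ = S.z := by rw [(S.hE.commute_z heE).eq, mul_inv_cancel_right]
  have h2 : ∀ a : G, Commute S.z a → ∀ b : G, S.z * a * (S.z * b) = a * b := fun a ha b => by
    rw [ha.eq, mul_assoc, ← mul_assoc S.z S.z b, S.hE.mul_self_z, one_mul]
  have hww : e * w * e⁻¹ = S.z * w := by
    calc e * w * e⁻¹ = (e * v 0 * e⁻¹) * (e * v 1 * e⁻¹) * ((e * v 2 * e⁻¹) * (e * v 3 * e⁻¹)) * (e * v 4 * e⁻¹) := by
          rw [hw]; group
      _ = (v 0 * v 1) * (v 2 * v 3) * (S.z * v 4) := by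
          rw [hvi, hvi, hvi, hvi, hvi, h2 _ (hzc 0), h2 _ (hzc 2)]
      _ = S.z * w := by
          rw [hw, ← mul_assoc, ← ((((hzc 0).mul_right (hzc 1)).mul_right ((hzc 2).mul_right (hzc 3)))).eq]
          group
  have hcw := h w hwW
  rw [hcw.eq, mul_inv_cancel_right, right_eq_mul] at hww
  exact S.hE.z_ne_one hww

/-- The fixed group in `E` has order 32. -/
theorem card_fixX : Nat.card (S.fixX x) = 32 := by
  classical
  haveI : Fact (Nat.Prime 5) := ⟨by norm_num⟩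
  haveI : Fact (Nat.Prime 2) := ⟨Nat.prime_two⟩
  set K := S.fixX x with hK
  have hnE : x ∈ Subgroup.normalizer (S.E : Set G) :=
    S.hE.hnorm (mem_centralizer_singleton_iff'.2 (Frame.commute_z (S := S) hxC).eq)
  have hmod : Nat.card S.E ≡ Nat.card K [MOD 5] :=
    fixed_modEq (IsPGroup.of_card (p := 5) (n := 1) (by rw [Nat.card_zpowers, hx, pow_one])) S.E hnE
  obtain ⟨k, hk⟩ : ∃ k, Nat.card ↥K = 2 ^ k :=
    IsPGroup.iff_card.1 ((IsPGroup.of_card (n := 13) S.hcard).to_le (inf_le_left : K ≤ S.E))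
  have hle8 : B.fixV x ≤ K := fun v hv =>
    S.mem_fixX.2 ⟨B.fixV_le_E hx hxC hxN hv, (B.mem_fixV.1 hv).2⟩
  have hlow := Subgroup.card_le_of_le hle8
  rw [B.card_fixV hx hxC hxN, hk] at hlow
  -- the commutators with generators of the fixed group in `V`
  obtain ⟨w1, hw1, hw1z⟩ : ∃ w ∈ B.fixV x, w ∉ Subgroup.zpowers S.z := by
    by_contra hno
    simp only [not_exists, not_and, not_not] at hno
    have := Subgroup.card_le_of_le (show B.fixV x ≤ Subgroup.zpowers S.z from hno)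
    rw [B.card_fixV hx hxC hxN, Nat.card_zpowers, S.orderOf_z] at this
    omega
  set A := Subgroup.zpowers S.z ⊔ Subgroup.zpowers w1
  have hzW : S.z ∈ B.fixV x := B.mem_fixV.2 ⟨B.z_mem_V, (Frame.commute_z (S := S) hxC).symm⟩
  have hAW : A ≤ B.fixV x := sup_le (Subgroup.zpowers_le.2 hzW) (Subgroup.zpowers_le.2 hw1)
  have hA4 : Nat.card A ≤ 4 := by
    have hn : Subgroup.zpowers w1 ≤ Subgroup.normalizer (Subgroup.zpowers S.z : Set G) :=
      Subgroup.zpowers_le.2 (Subgroup.mem_normalizer_iff.2 fun y => by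
        have hwz : Commute w1 S.z := B.commute_V (B.mem_fixV.1 hw1).1 B.z_mem_V
        constructor
        · intro hy
          rwa [(Frame.commute_z_zpowers (S := S) hwz hy).eq, mul_inv_cancel_right]
        · intro hy
          have := (Frame.commute_z_zpowers (S := S) hwz hy)
          rw [show y = w1⁻¹ * (w1 * y * w1⁻¹) * w1 by group, mul_assoc, ← this.eq, inv_mul_cancel_left]
          exact hy)
    have hsub : (A : Set G) ⊆ {1, S.z, w1, S.z * w1} := by
      intro y hy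
      obtain ⟨a, ha, b, hb, rfl⟩ := (CfsgLib.Core.mem_sup_iff_mul hn).1 (by rwa [sup_comm] : y ∈ Subgroup.zpowers w1 ⊔ Subgroup.zpowers S.z)
      have hw2 : w1 ^ 2 = 1 := B.V_elementary.2 w1 (B.mem_fixV.1 hw1).1
      have hwz : Commute w1 S.z := B.commute_V (B.mem_fixV.1 hw1).1 B.z_mem_V
      obtain ⟨m, rfl⟩ := ha
      show w1 ^ m * b ∈ _
      rw [zpow_eq_zpow_emod' m hw2]
      rcases (show m % (2 : ℕ) = 0 ∨ m % (2 : ℕ) = 1 by omega) with r | r <;> rw [r] <;>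
        rcases S.hE.eq_or hb with rfl | rfl <;> simp [hwz.eq]
    refine (Nat.card_coe_set_eq (A : Set G)).le.trans ((Set.ncard_le_ncard hsub).trans ?_)
    refine (Set.ncard_insert_le _ _).trans ?_
    have := (Set.ncard_insert_le S.z ({w1, S.z * w1} : Set G)).trans
      (Nat.add_le_add_right ((Set.ncard_insert_le w1 ({S.z * w1} : Set G)).trans
        (by rw [Set.ncard_singleton])) 1)
    omega
  obtain ⟨w2, hw2, hw2A⟩ : ∃ w ∈ B.fixV x, w ∉ A := by
    by_contra hno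
    simp only [not_exists, not_and, not_not] at hno
    have := Subgroup.card_le_of_le (show B.fixV x ≤ A from hno)
    rw [B.card_fixV hx hxC hxN] at this
    omega
  -- two commutator values determine an element modulo `F1`
  let φ : ↥K → Bool × Bool := fun e => (decide (Commute (e : G) w1), decide (Commute (e : G) w2))
  have hspan : ∀ w ∈ B.fixV x, w ∈ A ⊔ Subgroup.zpowers w2 := by
    have hlt : A < A ⊔ Subgroup.zpowers w2 := lt_of_le_of_ne le_sup_left fun e =>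
      hw2A (e.symm ▸ Subgroup.mem_sup_right (Subgroup.mem_zpowers w2))
    have hle : A ⊔ Subgroup.zpowers w2 ≤ B.fixV x := sup_le hAW (Subgroup.zpowers_le.2 hw2)
    have heq : A ⊔ Subgroup.zpowers w2 = B.fixV x := by
      refine Subgroup.eq_of_le_of_card_ge hle ?_
      rw [B.card_fixV hx hxC hxN]
      have hlt0 : Subgroup.zpowers S.z < A := lt_of_le_of_ne le_sup_left fun e =>
        hw1z (e.symm ▸ Subgroup.mem_sup_right (Subgroup.mem_zpowers w1))
      obtain ⟨m, hm⟩ := Subgroup.card_dvd_of_le hlt0.le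
      obtain ⟨l, hl⟩ := Subgroup.card_dvd_of_le hlt.le
      rw [Nat.card_zpowers, S.orderOf_z] at hm
      have hm2 : 2 ≤ m := by
        by_contra hm1
        interval_cases m
        · have : 0 < Nat.card A := Nat.card_pos; omega
        · exact hlt0.ne (Subgroup.eq_of_le_of_card_ge hlt0.le (by rw [Nat.card_zpowers, S.orderOf_z]; omega))
      have hl2 : 2 ≤ l := by
        by_contra hl1
        interval_cases l
        · have : 0 < Nat.card ↥(A ⊔ Subgroup.zpowers w2) := Nat.card_pos; omega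
        · exact hlt.ne (Subgroup.eq_of_le_of_card_ge hlt.le (by omega))
      rw [hl, hm]; nlinarith
    exact fun w hw => heq ▸ hw
  have hfib : ∀ a b : ↥K, φ a = φ b → (a : G)⁻¹ * b ∈ B.fixV x := by
    intro a b e
    have hd : (a : G)⁻¹ * b ∈ K := mul_mem (inv_mem a.2) b.2
    have hone : ∀ w ∈ B.fixV x, (Commute (a : G) w ↔ Commute (b : G) w) → Commute ((a : G)⁻¹ * b) w := by
      intro w hw hab
      have hwE := B.fixV_le_E hx hxC hxN hw
      by_cases hc : Commute (a : G) w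
      · exact hc.inv_left.mul_left (hab.1 hc)
      · have ea := (S.hE.conj_eq_or (S.mem_fixX.1 a.2).1 hwE).resolve_left fun r => hc (mul_inv_eq_iff_eq_mul.1 r)
        have eb := (S.hE.conj_eq_or (S.mem_fixX.1 b.2).1 hwE).resolve_left fun r => hc (hab.2 (mul_inv_eq_iff_eq_mul.1 r))
        refine mul_inv_eq_iff_eq_mul.1 ?_
        calc (a : G)⁻¹ * b * w * ((a : G)⁻¹ * b)⁻¹ = (a : G)⁻¹ * ((b : G) * w * (b : G)⁻¹) * a := by group
          _ = (a : G)⁻¹ * ((a : G) * w * (a : G)⁻¹) * a := by rw [eb, ea]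
          _ = w := by group
    have h1 : Commute ((a : G)⁻¹ * b) w1 := hone w1 hw1 (by
      have := congrArg Prod.fst e; simpa [φ] using this)
    have h2 : Commute ((a : G)⁻¹ * b) w2 := hone w2 hw2 (by
      have := congrArg Prod.snd e; simpa [φ] using this)
    have hall : ∀ w ∈ A ⊔ Subgroup.zpowers w2, Commute ((a : G)⁻¹ * b) w := by
      intro w hw
      have hle : A ⊔ Subgroup.zpowers w2 ≤ Subgroup.centralizer ({(a : G)⁻¹ * b} : Set G) := by
        refine sup_le (sup_le ?_ ?_) ?_ <;> rw [Subgroup.zpowers_le, Subgroup.mem_centralizer_singleton_iff]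
        exacts [(S.hE.commute_z (S.mem_fixX.1 hd).1).eq.symm, h1.eq.symm, h2.eq.symm]
      exact (show w * _ = _ * w from Subgroup.mem_centralizer_singleton_iff.1 (hle hw)).symm
    rw [B.fixV_eq hx hxC hxN]
    exact ⟨B.eq_F1_of_comm_fixV hx hxC hxN hd fun w hw => hall w (hspan w hw),
      mem_centralizer_singleton_iff'.2 (S.mem_fixX.1 hd).2⟩
  have hhigh : Nat.card K ≤ 4 * 8 := by
    have hinj : Function.Injective (fun e : ↥K => ((φ e, ⟨((Classical.choose (⟨e, rfl⟩ : ∃ a, φ a = φ e) : ↥K) : G)⁻¹ * e,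
        hfib _ _ (Classical.choose_spec (⟨e, rfl⟩ : ∃ a, φ a = φ e))⟩) : (Bool × Bool) × ↥(B.fixV x))) := by
      intro a b e
      have e1 : φ a = φ b := congrArg Prod.fst e
      have e2 : ((Classical.choose (⟨a, rfl⟩ : ∃ c, φ c = φ a) : ↥K) : G)⁻¹ * a =
          ((Classical.choose (⟨b, rfl⟩ : ∃ c, φ c = φ b) : ↥K) : G)⁻¹ * b := congrArg (fun v => ((v.2 : ↥(B.fixV x)) : G)) e
      simp only [e1] at e2
      exact Subtype.ext (mul_left_cancel e2)
    refine (Nat.card_le_card_of_injective _ hinj).trans (le_of_eq ?_)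
    rw [Nat.card_prod, B.card_fixV hx hxC hxN, Nat.card_eq_fintype_card]
    rfl
  rw [hk] at hhigh hmod ⊢
  rw [S.hcard, Nat.ModEq] at hmod
  have hk5 : k ≤ 5 := (Nat.pow_le_pow_iff_right (by norm_num : 1 < 2)).1 hhigh
  have key : ∀ m : Fin 6, 2 ^ 13 % 5 = 2 ^ m.1 % 5 → 8 ≤ 2 ^ m.1 → m.1 = 5 := by decide
  have hk5' : k = 5 := key ⟨k, by omega⟩ hmod hlow
  rw [hk5']; norm_num

/-- The centralizer in `N(V)` lies in `H0`. -/
theorem cent_NV [IsSimpleGroup G] (hG : ¬ IsMulCommutative G) (hJ : IsOfJankoFourType G) {g : G}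
    (hg : g ∈ Subgroup.normalizer (B.V : Set G)) (hgx : Commute g x) : g ∈ S.cent0 x := by
  classical
  obtain ⟨Φ, -, hker, -⟩ := B.exists_phi hG hJ
  have h0N : ∀ {h}, h ∈ S.cent0 x → h ∈ Subgroup.normalizer (B.V : Set G) := by
    intro h hh
    obtain ⟨h0, hhx⟩ := S.mem_cent0.1 hh
    obtain ⟨n, r, hr, e, he, rfl⟩ := S.cent0_decomp (Or.inl rfl) hx hxC h0 hhx
    exact mul_mem (pow_mem hxN n) (B.EP_norm (mul_mem (Subgroup.mem_sup_right hr)
      (Subgroup.mem_sup_left (S.mem_fixX.1 he).1)))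
  have hx5 : orderOf (Φ ⟨x, hxN⟩) = 5 := by
    haveI : Fact (Nat.Prime 5) := ⟨by norm_num⟩
    refine orderOf_eq_prime ?_ fun e => B.not_mem_V hx hxC hxN ((hker ⟨x, hxN⟩).1 e)
    rw [← map_pow]
    refine (congrArg Φ (Subtype.ext ?_)).trans (map_one Φ)
    show x ^ 5 = 1
    rw [← hx, pow_orderOf_eq_one]
  set Cx := Subgroup.centralizer ({Φ ⟨x, hxN⟩} : Set ↥M24)
  have hmemC : ∀ {h : G} (hh : h ∈ Subgroup.normalizer (B.V : Set G)), Commute h x → Φ ⟨h, hh⟩ ∈ Cx := by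
    intro h hh hc
    refine Subgroup.mem_centralizer_singleton_iff.2 ?_
    rw [← map_mul, ← map_mul]
    exact congrArg Φ (Subtype.ext hc.eq)
  let ψ : ↥(S.cent0 x) →* ↥Cx :=
    MonoidHom.mk' (fun h => ⟨Φ ⟨h, h0N h.2⟩, hmemC _ (S.mem_cent0.1 h.2).2⟩) fun a b =>
      Subtype.ext (map_mul Φ (⟨a, h0N a.2⟩ : ↥B.NV) ⟨b, h0N b.2⟩)
  have hkle : Nat.card ψ.ker ≤ 8 := by
    rw [← B.card_fixV hx hxC hxN]
    refine Nat.card_le_card_of_injective (fun k : ↥ψ.ker =>
      (⟨((k : ↥(S.cent0 x)) : G), B.mem_fixV.2 ⟨(hker ⟨_, h0N (k : ↥(S.cent0 x)).2⟩).1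
        (congrArg Subtype.val (MonoidHom.mem_ker.1 k.2)), (S.mem_cent0.1 (k : ↥(S.cent0 x)).2).2⟩⟩ : ↥(B.fixV x)))
      fun a b e => Subtype.ext (Subtype.ext (congrArg (fun v : ↥(B.fixV x) => (v : G)) e :))
  have hsurj : Function.Surjective ψ := by
    rw [← MonoidHom.range_eq_top]
    refine Subgroup.eq_top_of_le_card _ ?_
    have hC60 : Nat.card Cx ≤ 60 := M24.card_centralizer_five hx5
    have h := ψ.ker.card_mul_index
    rw [Subgroup.index_ker, S.card_cent0 (Or.inl rfl) hx hxC, B.card_fixX hx hxC hxN] at h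
    nlinarith
  obtain ⟨h, hh⟩ := hsurj ⟨Φ ⟨g, hg⟩, hmemC hg hgx⟩
  have hh' : Φ ⟨h, h0N h.2⟩ = Φ ⟨g, hg⟩ := congrArg Subtype.val hh
  have hV : (h : G)⁻¹ * g ∈ B.V := by
    refine (hker (⟨h, h0N h.2⟩⁻¹ * ⟨g, hg⟩)).1 ?_
    rw [map_mul, map_inv, hh', inv_mul_cancel]
  have hcx : Commute ((h : G)⁻¹ * g) x := (S.mem_cent0.1 h.2).2.inv_left.mul_left hgx
  have hw : (h : G)⁻¹ * g ∈ S.cent0 x :=
    S.mem_cent0.2 ⟨B.V_le_H0 hV, hcx⟩
  simpa using mul_mem h.2 hw

end Five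

end HexBase

end CfsgLib.JankoFour
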