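import Cfsg.Agent.Lib.JankoFourFive.Order

/-!
# The order formula in the centralizer of an element of order five (owner: helper17)

At most 21 pairs lie over each conjugate of `z`, so the centralizer is the normalizer of the eight-group.
-/

set_option autoImplicit false
set_option linter.unusedSectionVars false

namespace CfsgLib.JankoFour

open Cfsg CfsgLib.ThreeTrans
open CfsgLib.JankoFourHexad

variable {G : Type*} [Group G] [Finite G]

theorem pair_commute {u v z : G} (hu : u * u = 1) (hv : v * v = 1) (hz : z * z = 1)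
    (h : z ∈ Subgroup.zpowers (u * v)) : Commute z u ∧ Commute z v := by
  obtain ⟨k, hk⟩ := h
  change (u * v) ^ k = z at hk
  have hui : u⁻¹ = u := inv_eq_of_mul_eq_one_left hu
  have hvi : v⁻¹ = v := inv_eq_of_mul_eq_one_left hv
  have e1 : u * z * u⁻¹ = z := by
    rw [← hk, ← conj_zpow, show u * (u * v) * u⁻¹ = (u * u) * v * u⁻¹ by group, hu, one_mul, hui,
      show v * u = (u * v)⁻¹ by rw [mul_inv_rev, hui, hvi], inv_zpow, hk, inv_eq_of_mul_eq_one_left hz]
  have hzu : Commute u z := mul_inv_eq_iff_eq_mul.1 e1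
  have hzc : Commute z (u * v) := hk ▸ (Commute.refl (u * v)).zpow_left k
  refine ⟨hzu.symm, ?_⟩
  have := hzu.symm.mul_right hzc
  rwa [← mul_assoc, hu, one_mul] at this

namespace HexBase

variable {S : Setting G} {B : HexBase S} {x : G}

namespace EightData

variable {t y : G} (Q : B.EightData x t y) (D : B.FiveData x)
include Q D

theorem not_conj : ¬ IsConj S.z t := D.t_not_conj Q.htW Q.ht1 Q.htz

theorem z_side {u v : G} (hu : IsConj S.z u) (hv : IsConj t v) : u ≠ v := fun e =>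
  Q.not_conj D ((e ▸ hu).trans hv.symm)

theorem outer_not_W {w d : G} (hw : w ∈ S.centH x) (hw0 : w ∉ S.H0) (hd : d ∈ B.fixV x) (hc : Commute w d) :
    d ∈ Subgroup.zpowers S.z := by
  by_contra hdz
  exact hw0 (S.mem_cent0.1 (D.cent_t_le hd (fun r => hdz (r ▸ one_mem _))
    (fun r => hdz (r ▸ Subgroup.mem_zpowers _)) (S.mem_centH.1 hw).2 hc)).1

/-- Outer involutions fixing the coset of a member of the line. -/
theorem outer_coset_le {u : G} (hu : u ∈ S.fixX x) (huz : u ∉ Subgroup.zpowers S.z) :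
    {v | v ∈ S.centH x ∧ v ∉ S.H0 ∧ v * v = 1 ∧ (v * u * v⁻¹ = u ∨ v * u * v⁻¹ = S.z * u)}.ncard ≤ 8 := by
  classical
  set O := {v | v ∈ S.centH x ∧ v ∉ S.H0 ∧ v * v = 1 ∧ (v * u * v⁻¹ = u ∨ v * u * v⁻¹ = S.z * u)}
  by_cases hne : O.Nonempty
  swap
  · rw [Set.not_nonempty_iff_eq_empty.1 hne]; simp
  obtain ⟨v0, hv0, hv00, hv02, hv0u⟩ := hne
  have key : ∀ v ∈ O, v0⁻¹ * v ∈ S.fixX x := by
    rintro v ⟨hv, hv', hv2, hvu⟩
    obtain ⟨hv0z, hv0x⟩ := S.mem_centH.1 hv0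
    obtain ⟨hvz, hvx⟩ := S.mem_centH.1 hv
    have hh : v0⁻¹ * v ∈ S.cent0 x := S.mem_cent0.2 ⟨S.hidx _ _ hv0z.inv_left hvz
      (fun c => hv00 (by simpa using inv_mem c)) hv', hv0x.inv_left.mul_left hvx⟩
    obtain ⟨n, r, hr, k, hk, hd⟩ := D.cent0_decomp' hh
    obtain ⟨hkE, hkx⟩ := S.mem_fixX.1 hk
    set h := v0⁻¹ * v with hhdef
    have hzu : v0⁻¹ * (S.z * u) * v0 = S.z * (v0⁻¹ * u * v0) := by
      rw [show v0⁻¹ * (S.z * u) * v0 = (v0⁻¹ * S.z * v0) * (v0⁻¹ * u * v0) by group,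
        show v0⁻¹ * S.z * v0 = S.z by rw [mul_assoc, ← hv0z.eq, inv_mul_cancel_left]]
    have h0u : v0⁻¹ * u * v0 = u ∨ v0⁻¹ * u * v0 = S.z * u := by
      rcases hv0u with e | e
      · refine Or.inl ?_
        conv_lhs => rw [← e]
        group
      · refine Or.inr ?_
        have h1 : v0⁻¹ * (S.z * u) * v0 = u := by rw [← e]; group
        rw [hzu] at h1
        calc v0⁻¹ * u * v0 = S.z * (S.z * (v0⁻¹ * u * v0)) := by rw [← mul_assoc, S.hE.mul_self_z, one_mul]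
          _ = _ := by rw [h1]
    have hu' : h * u * h⁻¹ = u ∨ h * u * h⁻¹ = S.z * u := by
      rw [hhdef, show v0⁻¹ * v * u * (v0⁻¹ * v)⁻¹ = v0⁻¹ * (v * u * v⁻¹) * v0 by group]
      rcases hvu with e | e <;> rw [e]
      · exact h0u
      · rw [hzu]
        rcases h0u with f | f <;> rw [f]
        · exact Or.inr rfl
        · exact Or.inl (by rw [← mul_assoc, S.hE.mul_self_z, one_mul])
    have hxu : x ^ n * u * (x ^ n)⁻¹ = u := conj_eq_self ((S.mem_fixX.1 hu).2.symm.pow_left n)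
    have hxr : Commute (x ^ n) r := ((S.mem_C.1 D.hxC).2 r hr).pow_left n
    have hrx : x ^ n * S.z * (x ^ n)⁻¹ = S.z := conj_eq_self (D.comm_xz.pow_left n)
    have hru : r * u * r⁻¹ = u ∨ r * u * r⁻¹ = S.z * u := by
      have hrz : r * S.z * r⁻¹ = S.z := conj_eq_self (S.P_commute_z hr)
      have e1 : h * u * h⁻¹ = x ^ n * (r * (k * u * k⁻¹) * r⁻¹) * (x ^ n)⁻¹ := by rw [hd]; group
      have hxru : x ^ n * (r * u * r⁻¹) * (x ^ n)⁻¹ = r * u * r⁻¹ := by
        rw [show x ^ n * (r * u * r⁻¹) * (x ^ n)⁻¹ = (x ^ n * r) * u * (x ^ n * r)⁻¹ by group, hxr.eq,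
          show r * x ^ n * u * (r * x ^ n)⁻¹ = r * (x ^ n * u * (x ^ n)⁻¹) * r⁻¹ by group, hxu]
      rcases S.hE.conj_eq_or hkE (S.mem_fixX.1 hu).1 with f | f <;> rw [f] at e1
      · rw [hxru] at e1
        exact e1 ▸ hu'
      · rw [show r * (S.z * u) * r⁻¹ = (r * S.z * r⁻¹) * (r * u * r⁻¹) by group, hrz,
          show x ^ n * (S.z * (r * u * r⁻¹)) * (x ^ n)⁻¹ =
            (x ^ n * S.z * (x ^ n)⁻¹) * (x ^ n * (r * u * r⁻¹) * (x ^ n)⁻¹) by group, hrx, hxru] at e1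
        have e2 : r * u * r⁻¹ = S.z * (h * u * h⁻¹) := by rw [e1, ← mul_assoc, S.hE.mul_self_z, one_mul]
        rcases hu' with g | g <;> rw [g] at e2
        · exact Or.inr e2
        · exact Or.inl (by rw [e2, ← mul_assoc, S.hE.mul_self_z, one_mul])
    have hr1 := D.P_fix_coset hu huz hr hru
    rw [hr1, one_mul] at hd
    -- the part in `x` vanishes
    have hxn : x ^ n = 1 := by
      have hvd : v = v0 * (x ^ n * k) := by rw [← hd, hhdef, mul_inv_cancel_left]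
      have hxv : Commute (x ^ n) v0 := hv0x.symm.pow_left n
      have e1 : v * v = x ^ (n + n) * ((v0 * k * v0⁻¹) * k) := by
        rw [hvd, show v0 * (x ^ n * k) = x ^ n * (v0 * k) by rw [← mul_assoc, ← hxv.eq, mul_assoc],
          (hxv.mul_right (hkx.symm.pow_left n)).symm.mul_mul_mul_comm, ← pow_add,
          show v0 * k * (v0 * k) = v0 * k * v0⁻¹ * (v0 * v0) * k by group, hv02, mul_one]
      rw [hv2] at e1
      have hEP : x ^ (n + n) = 1 := D.xpow_EP (by
        rw [eq_inv_of_mul_eq_one_left e1.symm]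
        exact inv_mem (mul_mem (Subgroup.mem_sup_left (S.hE.conj_mem hv0z hkE)) (Subgroup.mem_sup_left hkE)))
      calc x ^ n = (x ^ (n + n)) ^ 3 := by
            rw [← pow_mul, show (n + n) * 3 = 5 * n + n by ring, pow_add, pow_mul, D.x5, one_pow, one_mul]
        _ = 1 := by rw [hEP, one_pow]
    rw [hd, hxn, one_mul]
    exact hk
  refine (ncard_le_of_fibre (A := Subgroup.zpowers S.z)
    (fun v => (decide (Commute (v0⁻¹ * v) t), decide (Commute (v0⁻¹ * v) (B.tp 1 t)))) ?_).trans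
    (le_of_eq (by rw [Nat.card_zpowers, S.orderOf_z]; rfl))
  intro v hv w hw hφ
  simp only [Prod.mk.injEq, decide_eq_decide] at hφ
  have hd : (v0⁻¹ * v)⁻¹ * (v0⁻¹ * w) ∈ B.fixV x :=
    D.same_pattern Q.htW Q.ht1 Q.htz (key v hv) (key w hw) hφ.1 hφ.2
  rw [show (v0⁻¹ * v)⁻¹ * (v0⁻¹ * w) = v⁻¹ * w by group] at hd
  refine Q.outer_not_W D hv.1 hv.2.1 hd ?_
  have hd2 : (v⁻¹ * w) * (v⁻¹ * w) = 1 := by rw [← pow_two]; exact B.V_elementary.2 _ (B.mem_fixV.1 hd).1
  have hvi : v⁻¹ = v := inv_eq_of_mul_eq_one_left hv.2.2.1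
  have hwi : w⁻¹ = w := inv_eq_of_mul_eq_one_left hw.2.2.1
  show v * (v⁻¹ * w) = v⁻¹ * w * v
  calc v * (v⁻¹ * w) = w⁻¹ := by rw [mul_inv_cancel_left, hwi]
    _ = w⁻¹ * v * v⁻¹ := by group
    _ = (v⁻¹ * w)⁻¹ * v := by rw [mul_inv_rev, inv_inv]; conv_lhs => rw [hvi]
    _ = v⁻¹ * w * v := by rw [inv_eq_of_mul_eq_one_left hd2]

/-- The pairs over `t`. -/
theorem pairs_t :
    {p : G × G | (Commute p.1 x ∧ IsConj S.z p.1) ∧ (Commute p.2 x ∧ IsConj t p.2) ∧
      t ∈ Subgroup.zpowers (p.1 * p.2)}.ncard ≤ 3 := by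
  have htsq := D.t_sq Q.htW Q.ht1 Q.htz
  have hsqz : ∀ {u}, IsConj S.z u → u * u = 1 := fun {u} h => by
    obtain ⟨g, rfl⟩ := isConj_iff.1 h; exact conj_sq S.hE.mul_self_z
  have hsqt : ∀ {u}, IsConj t u → u * u = 1 := fun {u} h => by
    obtain ⟨g, rfl⟩ := isConj_iff.1 h; exact conj_sq htsq
  have htV := (B.mem_fixV.1 Q.htW)
  refine le_trans (Set.ncard_le_ncard (t := (fun u => (u, u * t)) '' ({S.z, y, S.z * y} : Set G)) ?_)
    ((Set.ncard_image_le).trans ?_)
  · rintro ⟨u, v⟩ ⟨⟨hux, huz⟩, ⟨hvx, hvt⟩, htuv⟩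
    dsimp only at hux huz hvx hvt htuv
    obtain ⟨hcu, hcv⟩ := pair_commute (hsqz huz) (hsqt hvt) htsq htuv
    have hu0 := D.cent_t_le Q.htW Q.ht1 Q.htz hux hcu.symm
    have hv0 := D.cent_t_le Q.htW Q.ht1 Q.htz hvx hcv.symm
    have hu_mem : u = S.z ∨ u = y ∨ u = S.z * y := by
      rcases Q.hlist u (S.mem_centH.2 ⟨mem_centralizer_singleton_iff'.1 (S.hH0 (S.mem_cent0.1 hu0).1), hux⟩) huz
        with h | ⟨⟨b, i⟩, h⟩
      · exact Or.inl h
      · dsimp only at h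
        have hc : Commute (if b then S.z else 1) t := by
          cases b <;> simp [B.commute_V B.z_mem_V htV.1]
        have hi : Commute (B.tp i.1 y) t := by
          have := hc.inv_left.mul_left (h.symm ▸ hcu.symm : Commute _ t)
          rwa [inv_mul_cancel_left] at this
        rw [((D.pattern Q.htW Q.ht1 Q.htz Q.hy Q.hy2 Q.hyt Q.hy1 i.2).1).1 hi, B.tp_zero] at h
        cases b
        · exact Or.inr (Or.inl (by simpa using h.symm))
        · exact Or.inr (Or.inr (by simpa using h.symm))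
    have huX := D.inner_involution_fix hu0 (hsqz huz)
    have hvX := D.inner_involution_fix hv0 (hsqt hvt)
    have huv : u * v = t := by
      obtain ⟨k, hk⟩ := htuv
      change (u * v) ^ k = t at hk
      have huvE : u * v ∈ S.E := mul_mem (S.mem_fixX.1 huX).1 (S.mem_fixX.1 hvX).1
      rw [← Int.emod_add_mul_ediv k 2, zpow_add, zpow_mul, show (2 : ℤ) = ((2 : ℕ) : ℤ) from rfl, zpow_natCast,
        pow_two] at hk
      have hsq : ∀ m : ℤ, (u * v * (u * v)) ^ m = 1 ∨ (u * v * (u * v)) ^ m = S.z := fun m =>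
        S.hE.eq_or (zpow_mem (S.hE.sq_mem huvE) m)
      rcases (show k % ((2 : ℕ) : ℤ) = 0 ∨ k % ((2 : ℕ) : ℤ) = 1 by omega) with e | e <;> rw [e] at hk <;>
        rcases hsq (k / ((2 : ℕ) : ℤ)) with f | f <;> rw [f] at hk
      · exact absurd (by simpa using hk.symm) Q.ht1
      · exact absurd (by simpa using hk.symm) Q.htz
      · simpa using hk
      · exfalso
        have huvz : Commute (u * v) S.z := S.hE.commute_z huvE
        have h1 : u * v * (u * v) = 1 := by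
          rw [zpow_one] at hk
          have := htsq
          rw [← hk, huvz.symm.mul_mul_mul_comm, S.hE.mul_self_z, mul_one] at this
          exact this
        rw [h1, one_zpow] at f
        exact S.hE.z_ne_one f.symm
    refine ⟨u, by simp only [Set.mem_insert_iff, Set.mem_singleton_iff]; exact hu_mem, ?_⟩
    show (u, u * t) = (u, v)
    rw [← huv, ← mul_assoc, hsqz huz, one_mul]
  · refine (Set.ncard_insert_le _ _).trans ?_
    have := Set.ncard_insert_le y ({S.z * y} : Set G)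
    rw [Set.ncard_singleton] at this
    omega

/-- The pairs over `z`. -/
theorem pairs_z :
    {p : G × G | (Commute p.1 x ∧ IsConj S.z p.1) ∧ (Commute p.2 x ∧ IsConj t p.2) ∧
      S.z ∈ Subgroup.zpowers (p.1 * p.2)}.ncard ≤ 6 * 20 := by
  classical
  have htsq := D.t_sq Q.htW Q.ht1 Q.htz
  have hsqz : ∀ {u}, IsConj S.z u → u * u = 1 := fun {u} h => by
    obtain ⟨g, rfl⟩ := isConj_iff.1 h; exact conj_sq S.hE.mul_self_z
  have hsqt : ∀ {u}, IsConj t u → u * u = 1 := fun {u} h => by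
    obtain ⟨g, rfl⟩ := isConj_iff.1 h; exact conj_sq htsq
  let Osix : G → Set G := fun u => B.six t ∪ B.six (y * t) ∪
    {v | v ∈ S.centH x ∧ v ∉ S.H0 ∧ v * v = 1 ∧ (v * u * v⁻¹ = u ∨ v * u * v⁻¹ = S.z * u)}
  have hsix6 := D.six_ncard Q.hy (Q.y_notz D)
  have hfin : (B.six y).Finite := Set.toFinite _
  refine le_trans (Set.ncard_le_ncard (t := ⋃ u ∈ hfin.toFinset, (fun v => (u, v)) '' Osix u) ?_) ?_
  · rintro ⟨u, v⟩ ⟨⟨hux, huz⟩, ⟨hvx, hvt⟩, hzuv⟩
    dsimp only at hux huz hvx hvt hzuv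
    obtain ⟨hcu, hcv⟩ := pair_commute (hsqz huz) (hsqt hvt) S.hE.mul_self_z hzuv
    have huH : u ∈ S.centH x := S.mem_centH.2 ⟨hcu.symm, hux⟩
    have hvH : v ∈ S.centH x := S.mem_centH.2 ⟨hcv.symm, hvx⟩
    have huy : u ∈ B.six y := by
      rcases Q.hlist u huH huz with rfl | h
      · exfalso
        obtain ⟨k, hk⟩ := hzuv
        change (S.z * v) ^ k = S.z at hk
        rw [hcv.mul_zpow] at hk
        have hz2 : S.z ^ 2 = 1 := by rw [pow_two]; exact S.hE.mul_self_z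
        have hv2 : v ^ 2 = 1 := by rw [pow_two]; exact hsqt hvt
        rw [zpow_eq_zpow_emod' k hz2, zpow_eq_zpow_emod' k hv2] at hk
        rcases (show k % ((2 : ℕ) : ℤ) = 0 ∨ k % ((2 : ℕ) : ℤ) = 1 by omega) with e | e <;> rw [e] at hk
        · simp at hk; exact S.hE.z_ne_one hk.symm
        · simp at hk
          rw [hk] at hvt
          first
            | exact Q.ht1 (isConj_one_right.1 hvt)
            | exact Q.ht1 (isConj_one_left.1 hvt)
      · exact h
    refine Set.mem_iUnion₂.2 ⟨u, hfin.mem_toFinset.2 huy, v, ?_, rfl⟩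
    by_cases h0 : v ∈ S.H0
    · rcases D.inner_list Q.htW Q.ht1 Q.htz Q.hy Q.hy2 Q.hyt Q.hy1 (S.mem_cent0.2 ⟨h0, hvx⟩) (hsqt hvt) with h | h | h
      · rcases D.fixV_list Q.htW Q.ht1 Q.htz h with hz | ⟨i, c, hc, e⟩
        · exfalso
          rcases S.hE.eq_or hz with r | r <;> rw [r] at hvt
          · rw [isConj_one_left] at hvt; exact Q.ht1 hvt
          · exact Q.not_conj D hvt.symm
        · exact Or.inl (Or.inl (e ▸ B.mem_six hc i))
      · exfalso
        exact Q.z_side D (Q.hzy.trans (D.six_conj Q.htW Q.ht1 Q.htz Q.hy Q.hy2 Q.hyt Q.hy1 (Or.inl rfl) h)) hvt rfl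
      · exact Or.inl (Or.inr h)
    · refine Or.inr ⟨hvH, h0, hsqt hvt, ?_⟩
      -- `z` is a power of `u v`; its square is `u (v u v)`
      have hua : u ∈ Q.eight D := Or.inr huy
      have hu1 : u ≠ 1 := fun r => by rw [r, isConj_one_left] at huz; exact S.hE.z_ne_one huz
      set u' := v * u * v⁻¹ with hu'
      have hu'a : u' ∈ Q.eight D := (Subgroup.mem_normalizer_iff.1 (Q.centH_norm D hvH) u).1 hua
      have hvi : v⁻¹ = v := inv_eq_of_mul_eq_one_left (hsqt hvt)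
      have hsq : u * v * (u * v) = u * u' := by rw [hu', hvi]; group
      obtain ⟨k, hk⟩ := hzuv
      change (u * v) ^ k = S.z at hk
      have hu0 : u ∈ S.H0 := S.hEH0 (S.mem_fixX.1 (Q.eight_fixX D hua)).1
      rw [← Int.emod_add_mul_ediv k 2, zpow_add, zpow_mul, show (2 : ℤ) = ((2 : ℕ) : ℤ) from rfl, zpow_natCast,
        pow_two, hsq] at hk
      have hprod : u * u' ∈ Q.eight D := mul_mem hua hu'a
      have hsq1 : (u * u') ^ 2 = 1 := by rw [pow_two]; exact Q.sq_eight D hprod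
      rw [zpow_eq_zpow_emod' (k / ((2 : ℕ) : ℤ)) hsq1] at hk
      rcases (show k % ((2 : ℕ) : ℤ) = 0 ∨ k % ((2 : ℕ) : ℤ) = 1 by omega) with e | e <;> rw [e] at hk
      · rcases (show (k / ((2 : ℕ) : ℤ)) % ((2 : ℕ) : ℤ) = 0 ∨ (k / ((2 : ℕ) : ℤ)) % ((2 : ℕ) : ℤ) = 1 by omega)
          with f | f <;> rw [f] at hk
        · simp at hk; exact absurd hk.symm S.hE.z_ne_one
        · simp at hk
          refine Or.inr ?_
          have h2 : u' = u * S.z := by
            rw [← hk, ← mul_assoc, hsqz huz, one_mul]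
          show u' = S.z * u
          rw [h2, hcu.eq]
      · exfalso
        have hmem : u * v ∈ S.H0 := by
          have hz0 : S.z ∈ S.H0 := S.z_mem_H0
          have hp0 : (u * u') ^ ((k / ((2 : ℕ) : ℤ)) % ((2 : ℕ) : ℤ)) ∈ S.H0 :=
            zpow_mem (S.hEH0 (S.mem_fixX.1 (Q.eight_fixX D hprod)).1) _
          rw [zpow_one] at hk
          rw [eq_mul_inv_of_mul_eq hk]
          exact mul_mem hz0 (inv_mem hp0)
        exact h0 (by simpa using mul_mem (inv_mem hu0) hmem)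
  · refine (Finset.set_ncard_biUnion_le _ _).trans ?_
    have hc : hfin.toFinset.card = 6 := by rw [← Set.ncard_eq_toFinset_card _ hfin, hsix6]
    refine (Finset.sum_le_card_nsmul _ _ 20 fun u hu => ?_).trans (by rw [hc, smul_eq_mul])
    refine (Set.ncard_image_le (Set.toFinite _)).trans ?_
    have hu' := hfin.mem_toFinset.1 hu
    have hX : u ∈ S.fixX x := Q.eight_fixX D (Or.inr hu')
    have huz : u ∉ Subgroup.zpowers S.z := fun h =>
      D.six_notW Q.htW Q.ht1 Q.htz Q.hy Q.hy2 Q.hyt Q.hy1 hu' (Subgroup.zpowers_le.2 D.z_fixV h)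
    have h8 := Q.outer_coset_le D hX huz
    obtain ⟨e1, e2, -⟩ := D.et_facts Q.htW Q.ht1 Q.htz Q.hy Q.hy2 Q.hyt Q.hy1
    have h6 := D.six_ncard e2 (D.et_notz Q.htW Q.ht1 Q.htz Q.hy Q.hy2 Q.hyt Q.hy1)
    have h6' := D.six_ncard (D.t_fixX Q.htW Q.ht1 Q.htz) (D.t_not_z Q.htW Q.ht1 Q.htz)
    refine (Set.ncard_union_le _ _).trans ?_
    have := Set.ncard_union_le (B.six t) (B.six (y * t))
    omega

/-- **The centralizer of `x` normalizes the eight-group.** -/
theorem centralizer_eq : Q.Ygrp D = Subgroup.centralizer ({x} : Set G) := by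
  classical
  haveI := D.hsimple
  have hle : Q.Ygrp D ≤ Subgroup.centralizer ({x} : Set G) := inf_le_left
  refine Subgroup.eq_of_le_of_card_ge hle ?_
  set CC := Subgroup.centralizer ({x} : Set G) with hCC
  have hcc : ∀ {g}, g ∈ CC ↔ Commute g x := fun {g} => mem_centralizer_singleton_iff'
  let z1 : ↥CC := ⟨S.z, hcc.2 D.zx⟩
  let t1 : ↥CC := ⟨t, hcc.2 (B.mem_fixV.1 Q.htW).2⟩
  have hzc : ∀ u : ↥CC, IsConj z1 u ↔ IsConj S.z (u : G) := fun u => by
    refine ⟨fun h => ?_, fun h => ?_⟩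
    · obtain ⟨g, e⟩ := isConj_iff.1 h
      exact isConj_iff.2 ⟨(g : G), congrArg Subtype.val e⟩
    · obtain ⟨g, hg, e⟩ := D.z_class (hcc.1 u.2) h
      exact isConj_iff.2 ⟨⟨g, hcc.2 hg⟩, Subtype.ext e⟩
  have htc : ∀ u : ↥CC, IsConj t1 u ↔ IsConj t (u : G) := fun u => by
    refine ⟨fun h => ?_, fun h => ?_⟩
    · obtain ⟨g, e⟩ := isConj_iff.1 h
      exact isConj_iff.2 ⟨(g : G), congrArg Subtype.val e⟩
    · obtain ⟨g, hg, e⟩ := D.t_class Q.htW Q.ht1 Q.htz (hcc.1 u.2) h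
      exact isConj_iff.2 ⟨⟨g, hcc.2 hg⟩, Subtype.ext e⟩
  haveI : Fact (Nat.Prime 2) := ⟨Nat.prime_two⟩
  have hform := CfsgLib.Signalizer.thompson_order_formula z1 t1
    (by rw [← Subgroup.orderOf_coe]; exact S.orderOf_z)
    (by
      rw [← Subgroup.orderOf_coe]
      exact orderOf_eq_prime (by rw [pow_two]; exact D.t_sq Q.htW Q.ht1 Q.htz) Q.ht1)
    (fun h => Q.not_conj D ((hzc t1).1 h))
    (fun u hu => by
      have hu2 : (u : G) * u = 1 := by
        rw [← Subgroup.orderOf_coe] at hu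
        rw [← pow_two, ← hu, pow_orderOf_eq_one]
      have hu1 : (u : G) ≠ 1 := fun r => by rw [← Subgroup.orderOf_coe, r, orderOf_one] at hu; norm_num at hu
      rw [hzc, htc]
      exact B.two_classes D.hG D.hJ (B.mem_fixV.1 Q.htW).1 Q.ht1 (Q.not_conj D) hu2 hu1)
  have hCz : Nat.card (Subgroup.centralizer ({z1} : Set ↥CC)) = 960 := by
    rw [← D.centH_card]
    refine Nat.card_congr ⟨fun g => ⟨((g : ↥CC) : G), S.mem_centH.2
        ⟨congrArg Subtype.val (Subgroup.mem_centralizer_singleton_iff.1 g.2), hcc.1 (g : ↥CC).2⟩⟩,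
      fun g => ⟨⟨(g : G), hcc.2 (S.mem_centH.1 g.2).2⟩,
        Subgroup.mem_centralizer_singleton_iff.2 (Subtype.ext (S.mem_centH.1 g.2).1.eq)⟩, fun g => rfl, fun g => rfl⟩
  have hCt : Nat.card (Subgroup.centralizer ({t1} : Set ↥CC)) = 80 := by
    rw [← D.card_cent_t Q.htW Q.ht1 Q.htz]
    refine Nat.card_congr ⟨fun g => ⟨((g : ↥CC) : G), (g : ↥CC).2, mem_centralizer_singleton_iff'.2
        (congrArg Subtype.val (Subgroup.mem_centralizer_singleton_iff.1 g.2))⟩,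
      fun g => ⟨⟨(g : G), g.2.1⟩, Subgroup.mem_centralizer_singleton_iff.2
        (Subtype.ext (mem_centralizer_singleton_iff'.1 g.2.2))⟩, fun g => rfl, fun g => rfl⟩
  have hbound : ∀ w : ↥CC, Nat.card (CfsgLib.Signalizer.ClassPairs z1 t1 w) ≤
      {p : G × G | (Commute p.1 x ∧ IsConj S.z p.1) ∧ (Commute p.2 x ∧ IsConj t p.2) ∧
        (w : G) ∈ Subgroup.zpowers (p.1 * p.2)}.ncard := by
    intro w
    rw [← Nat.card_coe_set_eq]
    refine Nat.card_le_card_of_injective (fun p => ⟨((p.1.1 : G), (p.1.2 : G)), ⟨hcc.1 p.1.1.2, (hzc _).1 p.2.1⟩,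
      ⟨hcc.1 p.1.2.2, (htc _).1 p.2.2.1⟩, ?_⟩) fun a b e => ?_
    · obtain ⟨k, hk⟩ := p.2.2.2
      exact ⟨k, congrArg Subtype.val hk⟩
    · have e' := congrArg Subtype.val e
      exact Subtype.ext (Prod.ext (Subtype.ext (congrArg Prod.fst e')) (Subtype.ext (congrArg Prod.snd e')))
  have h1 := (hbound z1).trans (Q.pairs_z D)
  have h2 := (hbound t1).trans (Q.pairs_t D)
  rw [hCz, hCt] at hform
  have hd : Nat.card (Q.Ygrp D) ∣ Nat.card CC := Subgroup.card_dvd_of_le hle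
  rw [Q.card_Y D] at hd ⊢
  obtain ⟨m, hm⟩ := hd
  rcases m with _ | _ | m
  · have : 0 < Nat.card ↥CC := Nat.card_pos
    omega
  · omega
  · nlinarith

end EightData

end HexBase

end CfsgLib.JankoFour
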