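import Cfsg.Agent.Lib.JankoFourFive.Base

/-!
# The three lines of the fixed group in `E` (owner: helper17)

With a fixed non-central element `t` of `V`: the fixed group in `V` is the line of `t`, an element `e0`
gives the other cosets, and the centralizer of `t` and `x` lies in `H0`.
-/

set_option autoImplicit false
set_option linter.unusedSectionVars false

namespace CfsgLib.JankoFour

open Cfsg CfsgLib.ThreeTrans
open CfsgLib.JankoFourHexad

variable {G : Type*} [Group G] [Finite G]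

namespace HexBase

variable {S : Setting G} (B : HexBase S)

/-- The conjugates under powers of `p`. -/
def tp (i : ℕ) (y : G) : G := B.X.F.p ^ i * y * (B.X.F.p ^ i)⁻¹

theorem tp_zero (y : G) : B.tp 0 y = y := by simp [tp]

theorem tp_succ (i : ℕ) (y : G) : B.X.F.p * B.tp i y * B.X.F.p⁻¹ = B.tp (i + 1) y := by
  rw [tp, tp, pow_succ']; group

theorem tp_add (i j : ℕ) (y : G) : B.tp i (B.tp j y) = B.tp (i + j) y := by
  simp only [tp, pow_add]; group

theorem tp_three (y : G) : B.tp 3 y = y := by rw [tp, B.X.F.p_pow]; simp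

theorem tp_z (i : ℕ) : B.tp i S.z = S.z :=
  conj_eq_self ((Frame.commute_z (S := S) B.X.F.hpC).pow_left i)

theorem tp_mul (i : ℕ) (y w : G) : B.tp i (y * w) = B.tp i y * B.tp i w := by simp only [tp]; group

theorem tp_commute {i : ℕ} {y w : G} (h : Commute y w) : Commute (B.tp i y) (B.tp i w) :=
  LargeData.commute_conj_iff'.2 h

namespace FiveData

variable {B} {x : G} (D : B.FiveData x)
include D

theorem p_cent0 : B.X.F.p ∈ S.cent0 x := S.mem_cent0.2 ⟨S.hPH0 B.X.F.hpP, D.px⟩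

theorem pc0 (i : ℕ) : B.X.F.p ^ i ∈ S.cent0 x := pow_mem D.p_cent0 i

theorem tp_fixX {e : G} (he : e ∈ S.fixX x) (i : ℕ) : B.tp i e ∈ S.fixX x := by
  obtain ⟨heE, hex⟩ := S.mem_fixX.1 he
  exact S.mem_fixX.2 ⟨S.hE.conj_mem ((Frame.commute_z (S := S) B.X.F.hpC).pow_left i) heE,
    conj_comm_of (conj_eq_self (D.px.pow_left i)) hex⟩

theorem fixV_le_fixX {w : G} (hw : w ∈ B.fixV x) : w ∈ S.fixX x :=
  S.mem_fixX.2 ⟨B.fixV_le_E D.hx D.hxC D.hxN hw, (B.mem_fixV.1 hw).2⟩

theorem tp_fixV {w : G} (hw : w ∈ B.fixV x) (i : ℕ) : B.tp i w ∈ B.fixV x :=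
  B.mem_fixV.2 ⟨(Subgroup.mem_normalizer_iff.1 (D.cent0_le_NV (D.pc0 i)) w).1 (B.mem_fixV.1 hw).1,
    conj_comm_of (conj_eq_self (D.px.pow_left i)) (B.mem_fixV.1 hw).2⟩

theorem z_fixV : S.z ∈ B.fixV x := B.mem_fixV.2 ⟨B.z_mem_V, D.zx⟩

theorem conj_K {a b : G} (ha : a ∈ S.fixX x) (hb : b ∈ S.fixX x) (h : ¬ Commute a b) :
    a * b * a⁻¹ = S.z * b :=
  (S.hE.conj_eq_or (S.mem_fixX.1 ha).1 (S.mem_fixX.1 hb).1).resolve_left fun r => h (mul_inv_eq_iff_eq_mul.1 r)

/-- The product over an orbit of `p` on the fixed group is central. -/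
theorem orbit_prod {e : G} (he : e ∈ S.fixX x) : e * B.tp 1 e * B.tp 2 e ∈ Subgroup.zpowers S.z := by
  have hE : ∀ i, B.tp i e ∈ S.E := fun i => (S.mem_fixX.1 (D.tp_fixX he i)).1
  set v := e * B.tp 1 e * B.tp 2 e with hv
  have heE := (S.mem_fixX.1 he).1
  have hvE : v ∈ S.E := mul_mem (mul_mem heE (hE 1)) (hE 2)
  refine D.fix_p hvE ?_
  have e1 : B.X.F.p * v * B.X.F.p⁻¹ = e⁻¹ * v * e := by
    calc B.X.F.p * v * B.X.F.p⁻¹
        = (B.X.F.p * B.tp 0 e * B.X.F.p⁻¹) * (B.X.F.p * B.tp 1 e * B.X.F.p⁻¹) * (B.X.F.p * B.tp 2 e * B.X.F.p⁻¹) := by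
          rw [hv, B.tp_zero]; group
      _ = B.tp 1 e * B.tp 2 e * e := by rw [B.tp_succ, B.tp_succ, B.tp_succ, show 2 + 1 = 3 from rfl, B.tp_three]
      _ = e⁻¹ * v * e := by rw [hv]; group
  rw [e1]
  have h := S.hE.conj_eq_or (inv_mem heE) hvE
  rwa [inv_inv] at h

/-- A non-central fixed element is moved by `p` to another coset of the centre. -/
theorem tp_ne {e : G} (he : e ∈ S.fixX x) (hez : e ∉ Subgroup.zpowers S.z) :
    B.tp 1 e ≠ e ∧ B.tp 1 e ≠ S.z * e := by
  have e1 : B.tp 1 e = B.X.F.p * e * B.X.F.p⁻¹ := by simp [tp]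
  rw [e1]
  exact ⟨fun r => hez (D.fix_p (S.mem_fixX.1 he).1 (Or.inl r)), fun r => hez (D.fix_p (S.mem_fixX.1 he).1 (Or.inr r))⟩

theorem tp_notz {e : G} (hez : e ∉ Subgroup.zpowers S.z) (i : ℕ) : B.tp i e ∉ Subgroup.zpowers S.z := by
  intro h
  refine hez ?_
  have hfix := conj_eq_self (g := (B.X.F.p ^ i)⁻¹) (y := B.tp i e)
    (Frame.commute_z_zpowers (S := S) ((Frame.commute_z (S := S) B.X.F.hpC).pow_left i).inv_left h)
  rw [inv_inv, show (B.X.F.p ^ i)⁻¹ * B.tp i e * B.X.F.p ^ i = e by simp only [tp]; group] at hfix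
  exact hfix ▸ h

theorem zpow_list {a : G} (h : a ∈ Subgroup.zpowers S.z) : a = 1 ∨ a = S.z := S.hE.eq_or h

/-- The eight elements of a line. -/
theorem line_inj {e : G} (he : e ∈ S.fixX x) (hez : e ∉ Subgroup.zpowers S.z) :
    Function.Injective (fun v : Bool × Option (Fin 3) =>
      (if v.1 then S.z else 1) * (match v.2 with | none => 1 | some i => B.tp i.1 e)) := by
  have hne : ∀ (i : Fin 3) (b : Bool), B.tp i.1 e ≠ (if b then S.z else 1) := fun i b h =>
    D.tp_notz hez i.1 (h ▸ by cases b <;> simp [Subgroup.mem_zpowers, one_mem])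
  have hne2 : ∀ (i j : Fin 3) (b : Bool), i ≠ j → B.tp i.1 e ≠ (if b then S.z else 1) * B.tp j.1 e := by
    intro i j b hij h
    -- reduce to consecutive members
    have hstep : ∀ k : ℕ, B.tp (k + 1) e ≠ B.tp k e ∧ B.tp (k + 1) e ≠ S.z * B.tp k e := fun k => by
      have h1 := D.tp_ne (D.tp_fixX he k) (D.tp_notz hez k)
      rwa [B.tp_add, show 1 + k = k + 1 by ring] at h1
    have hzz : S.z * S.z = 1 := S.hE.mul_self_z
    have hrev : ∀ (k : ℕ) (b : Bool), B.tp k e ≠ (if b then S.z else 1) * B.tp (k + 1) e := by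
      intro k b r
      cases b <;> simp only [Bool.false_eq_true, if_false, if_true, one_mul] at r
      · exact (hstep k).1 r.symm
      · exact (hstep k).2 (by rw [r, ← mul_assoc, hzz, one_mul])
    have hfwd : ∀ (k : ℕ) (b : Bool), B.tp (k + 1) e ≠ (if b then S.z else 1) * B.tp k e := by
      intro k b r
      cases b <;> simp only [Bool.false_eq_true, if_false, if_true, one_mul] at r
      exacts [(hstep k).1 r, (hstep k).2 r]
    have h3 : B.tp 3 e = B.tp 0 e := by rw [B.tp_three, B.tp_zero]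
    fin_cases i <;> fin_cases j <;> simp only [ne_eq, not_true_eq_false] at hij
    · exact hrev 0 b h
    · exact hfwd 2 b (h3.trans h)
    · exact hfwd 0 b h
    · exact hrev 1 b h
    · exact hrev 2 b (by simpa [h3] using h)
    · exact hfwd 1 b h
  rintro ⟨b, o⟩ ⟨b', o'⟩ h
  simp only at h
  have hzne := S.hE.z_ne_one
  rcases o with _ | i <;> rcases o' with _ | j
  · cases b <;> cases b' <;> simp at h ⊢
    exacts [hzne h.symm, hzne h]
  · exfalso
    refine hne j (xor b b') ?_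
    cases b <;> cases b' <;> simp at h ⊢
    · exact h.symm
    · exact (eq_inv_of_mul_eq_one_right h.symm).trans S.hE.inv_z
    · exact h.symm
    · exact h
  · exfalso
    refine hne i (xor b b') ?_
    cases b <;> cases b' <;> simp at h ⊢
    · exact h
    · exact h
    · exact (eq_inv_of_mul_eq_one_right h).trans S.hE.inv_z
    · exact h
  · by_cases hij : i = j
    · subst hij
      have h' := mul_right_cancel h
      cases b <;> cases b' <;> simp at h' ⊢
      exacts [hzne h'.symm, hzne h']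
    · exfalso
      refine hne2 i j (xor b b') hij ?_
      cases b <;> cases b' <;> simp at h ⊢
      · exact h
      · exact h
      · rw [← h, ← mul_assoc, S.hE.mul_self_z, one_mul]
      · exact h

variable {t : G} (htW : t ∈ B.fixV x) (ht1 : t ≠ 1) (htz : t ≠ S.z)
include htW ht1 htz

theorem t_not_z : t ∉ Subgroup.zpowers S.z := fun h => by
  rcases S.hE.eq_or h with r | r
  exacts [ht1 r, htz r]

theorem t_not_conj : ¬ IsConj S.z t := fun h => htz (D.z_only htW h)

theorem t_fixX : t ∈ S.fixX x := D.fixV_le_fixX htW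

theorem t_sq : t * t = 1 := by rw [← pow_two]; exact B.V_elementary.2 t (B.mem_fixV.1 htW).1

theorem cent_t_le_NV {g : G} (hg : Commute g t) : g ∈ B.NV :=
  D.hT t (B.mem_fixV.1 htW).1 ht1 (D.t_not_conj htW ht1 htz) (mem_centralizer_singleton_iff'.2 hg.eq)

theorem cent_t_le {g : G} (hgx : Commute g x) (hg : Commute g t) : g ∈ S.cent0 x :=
  D.cent_NV' (D.cent_t_le_NV htW ht1 htz hg) hgx

/-- The fixed group in `V` is the line of `t`. -/
theorem fixV_list {w : G} (hw : w ∈ B.fixV x) :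
    w ∈ Subgroup.zpowers S.z ∨ ∃ i : Fin 3, ∃ c ∈ Subgroup.zpowers S.z, w = c * B.tp i.1 t := by
  let φ : Bool × Option (Fin 3) → ↥(B.fixV x) := fun v =>
    ⟨(if v.1 then S.z else 1) * (match v.2 with | none => 1 | some i => B.tp i.1 t), mul_mem
      (by cases v.1 <;> simp [one_mem, D.z_fixV])
      (by cases v.2 with
        | none => exact one_mem _
        | some i => exact D.tp_fixV htW i.1)⟩
  have hφ : Function.Bijective φ := by
    refine Function.Injective.bijective_of_nat_card_le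
      (fun a b e => D.line_inj (D.t_fixX htW ht1 htz) (D.t_not_z htW ht1 htz) (congrArg Subtype.val e)) ?_
    rw [B.card_fixV D.hx D.hxC D.hxN, Nat.card_eq_fintype_card]; rfl
  obtain ⟨⟨b, o⟩, hv⟩ := hφ.2 ⟨w, hw⟩
  have e : _ = w := congrArg Subtype.val hv
  have hb : (if b then S.z else 1) ∈ Subgroup.zpowers S.z := by cases b <;> simp [one_mem]
  rcases o with _ | i
  · exact Or.inl (by rw [← e]; show _ * 1 ∈ _; rw [mul_one]; exact hb)
  · exact Or.inr ⟨i, _, hb, e.symm⟩

theorem commute_fixV {k : G} (hk : k ∈ S.fixX x) (h0 : Commute k t) (h1 : Commute k (B.tp 1 t))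
    {w : G} (hw : w ∈ B.fixV x) : Commute k w := by
  have hkz : ∀ {c}, c ∈ Subgroup.zpowers S.z → Commute k c := fun hc =>
    Frame.commute_z_zpowers (S := S) (S.hE.commute_z (S.mem_fixX.1 hk).1) hc
  have h2 : Commute k (B.tp 2 t) := by
    have := (h0.mul_right h1).inv_right.mul_right (hkz (D.orbit_prod (D.t_fixX htW ht1 htz)))
    rwa [inv_mul_cancel_left] at this
  rcases D.fixV_list htW ht1 htz hw with h | ⟨i, c, hc, rfl⟩
  · exact hkz h
  · refine (hkz hc).mul_right ?_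
    fin_cases i
    · rw [B.tp_zero]; exact h0
    · exact h1
    · exact h2

theorem mem_fixV_of_commute {k : G} (hk : k ∈ S.fixX x) (h0 : Commute k t) (h1 : Commute k (B.tp 1 t)) :
    k ∈ B.fixV x :=
  B.mem_fixV.2 ⟨B.F1_le_V (B.eq_F1_of_comm_fixV D.hx D.hxC D.hxN hk fun _ hw => D.commute_fixV htW ht1 htz hk h0 h1 hw),
    (S.mem_fixX.1 hk).2⟩

/-- A fixed element not commuting with `t`. -/
theorem exists_ncomm : ∃ k ∈ S.fixX x, ¬ Commute k t := by
  by_contra hno
  simp only [not_exists, not_and, not_not] at hno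
  have hle : S.fixX x ≤ B.fixV x := fun k hk => by
    refine D.mem_fixV_of_commute htW ht1 htz hk (hno k hk) ?_
    have := B.tp_commute (i := 1) (hno _ (D.tp_fixX hk 2))
    rwa [B.tp_add, show 1 + 2 = 3 from rfl, B.tp_three] at this
  have := Subgroup.card_le_of_le hle
  rw [B.card_fixX D.hx D.hxC D.hxN, B.card_fixV D.hx D.hxC D.hxN] at this
  omega

/-- An element of `P` moving `t` only inside its coset is trivial. -/
theorem P_fix {r : G} (hr : r ∈ S.P) (h : r * t * r⁻¹ = t ∨ r * t * r⁻¹ = S.z * t) : r = 1 := by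
  obtain ⟨i, rfl⟩ := B.X.F.P_eq hr
  rw [pow_eq_pow_mod i B.X.F.p_pow] at h ⊢
  have ht := D.t_not_z htW ht1 htz
  have hk := D.t_fixX htW ht1 htz
  rcases (show i % 3 = 0 ∨ i % 3 = 1 ∨ i % 3 = 2 by omega) with e | e | e <;> rw [e] at h ⊢
  · rw [pow_zero]
  · exfalso
    obtain ⟨n1, n2⟩ := D.tp_ne hk ht
    rcases h with r | r
    exacts [n1 r, n2 r]
  · exfalso
    obtain ⟨n1, n2⟩ := D.tp_ne (D.tp_fixX hk 2) (D.tp_notz ht 2)
    rw [B.tp_add, show 1 + 2 = 3 from rfl, B.tp_three] at n1 n2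
    rcases h with r | r
    · exact n1 r.symm
    · refine n2 ?_
      show t = S.z * B.tp 2 t
      rw [show B.tp 2 t = S.z * t from r, ← mul_assoc, S.hE.mul_self_z, one_mul]

/-- Membership in the centralizer of `t` and `x`. -/
theorem cent_t_decomp {g : G} (hgx : Commute g x) (hg : Commute g t) :
    ∃ n : ℕ, ∃ k ∈ S.fixX x, Commute k t ∧ g = x ^ n * k := by
  obtain ⟨n, r, hr, e, he, rfl⟩ := D.cent0_decomp' (D.cent_t_le htW ht1 htz hgx hg)
  have htx : Commute (x ^ n) t := (B.mem_fixV.1 htW).2.symm.pow_left n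
  have hre : Commute (r * e) t := by simpa using htx.inv_left.mul_left hg
  have he2 := S.hE.conj_eq_or (S.mem_fixX.1 he).1 (S.mem_fixX.1 (D.t_fixX htW ht1 htz)).1
  have hr1 : r = 1 := by
    refine D.P_fix htW ht1 htz hr ?_
    have hrz : r * S.z * r⁻¹ = S.z := conj_eq_self (S.P_commute_z hr)
    have h0 : r * (e * t * e⁻¹) * r⁻¹ = t := by
      rw [show r * (e * t * e⁻¹) * r⁻¹ = (r * e) * t * (r * e)⁻¹ by group]; exact conj_eq_self hre
    rcases he2 with a | a <;> rw [a] at h0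
    · exact Or.inl h0
    · refine Or.inr ?_
      rw [show r * (S.z * t) * r⁻¹ = (r * S.z * r⁻¹) * (r * t * r⁻¹) by group, hrz] at h0
      calc r * t * r⁻¹ = S.z * (S.z * (r * t * r⁻¹)) := by rw [← mul_assoc, S.hE.mul_self_z, one_mul]
        _ = _ := by rw [h0]
  subst hr1
  exact ⟨n, e, he, by simpa using hre, by rw [one_mul]⟩

/-- The elements of the line are conjugate to `t` in the centralizer of `x`. -/
theorem line_conj {w : G} (hw : w ∈ B.fixV x) (hwz : w ∉ Subgroup.zpowers S.z) :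
    ∃ g ∈ S.cent0 x, g * t * g⁻¹ = w := by
  rcases D.fixV_list htW ht1 htz hw with h | ⟨i, c, hc, rfl⟩
  · exact absurd h hwz
  have hi : B.X.F.p ^ i.1 ∈ S.cent0 x := D.pc0 i.1
  rcases S.hE.eq_or hc with rfl | rfl
  · exact ⟨_, hi, by rw [one_mul]; rfl⟩
  · obtain ⟨k, hk, hkt⟩ := D.exists_ncomm htW ht1 htz
    refine ⟨B.X.F.p ^ i.1 * k, mul_mem hi (S.mem_cent0.2 ⟨S.hEH0 (S.mem_fixX.1 hk).1, (S.mem_fixX.1 hk).2⟩), ?_⟩
    rw [show B.X.F.p ^ i.1 * k * t * (B.X.F.p ^ i.1 * k)⁻¹ = B.tp i.1 (k * t * k⁻¹) by simp only [tp]; group,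
      D.conj_K hk (D.t_fixX htW ht1 htz) hkt, B.tp_mul, B.tp_z]

/-- Every involution commuting with `x` of the kind of `t` is conjugate to `t` there. -/
theorem t_class {u : G} (hu : Commute u x) (htu : IsConj t u) : ∃ g, Commute g x ∧ g * t * g⁻¹ = u := by
  haveI := D.hsimple
  haveI : Fact (Nat.Prime 5) := ⟨by norm_num⟩
  refine D.class_in_cent ?_ (B.mem_fixV.1 htW).2 ?_ hu htu
  · intro i c hc hcx
    have hci : c ^ i ∈ B.NH := pow_mem hc i
    have hz : c ^ i * S.z * (c ^ i)⁻¹ = S.z := conj_eq_self (mem_centralizer_singleton_iff'.1 hci.2)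
    have hcpow : ∀ j : ℕ, c ^ j * x * (c ^ j)⁻¹ = x ^ (2 ^ j) := by
      intro j
      induction j with
      | zero => simp
      | succ j ih =>
        rw [pow_succ', show c * c ^ j * x * (c * c ^ j)⁻¹ = c * (c ^ j * x * (c ^ j)⁻¹) * c⁻¹ by group, ih,
          ← conj_pow, hcx, ← pow_mul, pow_succ' 2 j]
    have hx5 : x ^ 5 = 1 := D.hx ▸ pow_orderOf_eq_one x
    have hcom : Commute (c ^ i * t * (c ^ i)⁻¹) (x ^ (2 ^ i)) := by
      have := (LargeData.commute_conj_iff' (g := c ^ i)).2 (B.mem_fixV.1 htW).2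
      rwa [hcpow] at this
    obtain ⟨m, hm⟩ : ∃ m : ℕ, (x ^ (2 ^ i)) ^ m = x := by
      refine ⟨2 ^ (3 * i), ?_⟩
      rw [← pow_mul, ← pow_add, show i + 3 * i = 4 * i by ring, pow_mul, show (2 : ℕ) ^ 4 = 5 * 3 + 1 from rfl,
        ← pow_mod_orderOf, D.hx, Nat.pow_mod]
      norm_num
    have hwW : c ^ i * t * (c ^ i)⁻¹ ∈ B.fixV x :=
      B.mem_fixV.2 ⟨(Subgroup.mem_normalizer_iff.1 hci.1 t).1 (B.mem_fixV.1 htW).1,
        by have := hcom.pow_right m; rwa [hm] at this⟩
    have hwz : c ^ i * t * (c ^ i)⁻¹ ∉ Subgroup.zpowers S.z := fun h => by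
      have := conj_eq_self (g := (c ^ i)⁻¹) (y := c ^ i * t * (c ^ i)⁻¹)
        (Frame.commute_z_zpowers (S := S) (show Commute (c ^ i) S.z from mem_centralizer_singleton_iff'.1 hci.2).inv_left h)
      rw [inv_inv, show (c ^ i)⁻¹ * (c ^ i * t * (c ^ i)⁻¹) * c ^ i = t by group] at this
      exact D.t_not_z htW ht1 htz (this ▸ h)
    obtain ⟨g, hg, e⟩ := D.line_conj htW ht1 htz hwW hwz
    exact ⟨g, (S.mem_cent0.1 hg).2, e⟩
  · intro y hyt hy
    have hN : Nat.card ↥B.NV = 1771 * (2 * (3 * 2 ^ 13 * 5760)) := by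
      rw [B.card_N D.hJ, (B.zset_spec D.hG D.hJ).1]
    set Ct := Subgroup.centralizer ({t} : Set G)
    have hxt : x ∈ Ct := mem_centralizer_singleton_iff'.2 (B.mem_fixV.1 htW).2.symm.eq
    have hyC : y ∈ Ct := mem_centralizer_singleton_iff'.2 hyt.eq
    have hd : Nat.card Ct ∣ Nat.card ↥B.NV :=
      Subgroup.card_dvd_of_le fun g hg => D.cent_t_le_NV htW ht1 htz (mem_centralizer_singleton_iff'.1 hg)
    have h5 : 5 ∣ Nat.card Ct := by
      have := Subgroup.orderOf_dvd_natCard _ hxt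
      rwa [D.hx] at this
    have hfac : (Nat.card Ct).factorization 5 = 1 := by
      have h1 : 1 ≤ (Nat.card Ct).factorization 5 := Nat.Prime.factorization_pos_of_dvd (by norm_num) Nat.card_pos.ne' h5
      have h2 : (Nat.card Ct).factorization 5 < 2 := by
        by_contra hc
        have h25 : 5 ^ 2 ∣ Nat.card ↥B.NV := ((pow_dvd_pow 5 (not_lt.1 hc)).trans (Nat.ordProj_dvd _ 5)).trans hd
        rw [hN] at h25
        norm_num at h25
      omega
    let X : Sylow 5 Ct := Sylow.ofCard (Subgroup.zpowers ⟨x, hxt⟩)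
      (by rw [Nat.card_zpowers, ← Subgroup.orderOf_coe, D.hx, hfac, pow_one])
    let Y : Sylow 5 Ct := Sylow.ofCard (Subgroup.zpowers ⟨y, hyC⟩)
      (by rw [Nat.card_zpowers, ← Subgroup.orderOf_coe, hy, hfac, pow_one])
    obtain ⟨h, hh⟩ := MulAction.exists_smul_eq Ct X Y
    have hm : h * ⟨x, hxt⟩ * h⁻¹ ∈ (Y : Subgroup Ct) := by
      rw [← hh]
      exact Subgroup.smul_mem_pointwise_smul _ (MulAut.conj h) (X : Subgroup Ct)
        (by rw [Sylow.coe_ofCard]; exact Subgroup.mem_zpowers _)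
    rw [Sylow.coe_ofCard] at hm
    obtain ⟨k, hk⟩ := hm
    exact ⟨h, mem_centralizer_singleton_iff'.1 h.2, k, congrArg Subtype.val hk⟩

omit htW ht1 htz in
/-- Every conjugate of `z` commuting with `x` is conjugate to `z` there. -/
theorem z_class {u : G} (hu : Commute u x) (hzu : IsConj S.z u) : ∃ g, Commute g x ∧ g * S.z * g⁻¹ = u := by
  haveI : Nonempty (Frame S) := ⟨B.X.F⟩
  refine D.class_in_cent (fun i c hc _ => ⟨1, Commute.one_left _, ?_⟩) D.zx (fun y hyz hy => ?_) hu hzu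
  · rw [conj_eq_self (show Commute (c ^ i) S.z from (show Commute c S.z from mem_centralizer_singleton_iff'.1 hc.2).pow_left i)]
    simp
  · exact S.exists_conj_zpowers (Or.inl rfl) D.hx D.comm_xz hy hyz

end FiveData

end HexBase

end CfsgLib.JankoFour
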