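import Cfsg.Agent.Lib.JankoFourFive.ZSet

/-!
# The centralizer of an element of order five (owner: helper17)

The seven conjugates of `z` form with `1` an elementary abelian subgroup `A`; its normalizer in the
centralizer of `x` has order 6720, and the order formula shows that it is everything.
-/

set_option autoImplicit false
set_option linter.unusedSectionVars false

namespace CfsgLib.JankoFour

open Cfsg CfsgLib.ThreeTrans
open CfsgLib.JankoFourHexad

variable {G : Type*} [Group G] [Finite G]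

namespace HexBase

variable {S : Setting G} (B : HexBase S) (x : G)

/-- The data of the eight-group: `t` of the second kind and `y` of the first. -/
structure EightData (t y : G) : Prop where
  htW : t ∈ B.fixV x
  ht1 : t ≠ 1
  htz : t ≠ S.z
  hy : y ∈ S.fixX x
  hy2 : y * y = 1
  hyt : Commute y t
  hy1 : ¬ Commute y (B.tp 1 t)
  hzy : IsConj S.z y
  htyt : IsConj t (y * t)
  hlist : ∀ u, u ∈ S.centH x → IsConj S.z u → u = S.z ∨ u ∈ B.six y
  houter : ∀ u, u ∈ S.centH x → u ∉ S.H0 → u * u = 1 → IsConj t u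

/-- The carrier of the eight-group. -/
def eightSet (y : G) : Set G := (Subgroup.zpowers S.z : Set G) ∪ B.six y

variable {B x}

namespace FiveData

variable (D : B.FiveData x)
include D

theorem exists_eight : ∃ t y, B.EightData x t y := by
  obtain ⟨t, htW, ht1, htz⟩ := D.exists_duad
  obtain ⟨e, he, he2, het, he1⟩ := D.exists_e htW ht1 htz
  obtain ⟨y, hy, hzy, htyt, hl, ho⟩ := D.line_dichotomy htW ht1 htz he he2 het he1
  obtain ⟨hy1', hy2', hy3'⟩ := D.et_facts htW ht1 htz he he2 het he1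
  rcases hy with rfl | rfl
  · exact ⟨t, y, htW, ht1, htz, he, he2, het, he1, hzy, htyt, hl, ho⟩
  · refine ⟨t, e * t, htW, ht1, htz, hy2', hy1', hy3', fun h => he1 ?_, hzy, htyt, hl, ho⟩
    have := (h.symm.mul_right (D.t_tp htW ht1 htz).inv_right).symm
    rwa [mul_assoc, mul_inv_cancel, mul_one] at this

theorem P_fix_coset {y : G} (hy : y ∈ S.fixX x) (hyz : y ∉ Subgroup.zpowers S.z) {r : G} (hr : r ∈ S.P)
    (h : r * y * r⁻¹ = y ∨ r * y * r⁻¹ = S.z * y) : r = 1 := by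
  obtain ⟨i, rfl⟩ := B.X.F.P_eq hr
  rw [pow_eq_pow_mod i B.X.F.p_pow] at h ⊢
  rcases (show i % 3 = 0 ∨ i % 3 = 1 ∨ i % 3 = 2 by omega) with e | e | e <;> rw [e] at h ⊢
  · rw [pow_zero]
  · exfalso
    obtain ⟨n1, n2⟩ := D.tp_ne hy hyz
    rcases h with r | r
    exacts [n1 r, n2 r]
  · exfalso
    obtain ⟨n1, n2⟩ := D.tp_ne (D.tp_fixX hy 2) (D.tp_notz hyz 2)
    rw [B.tp_add, show 1 + 2 = 3 from rfl, B.tp_three] at n1 n2
    rcases h with r | r
    · exact n1 r.symm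
    · refine n2 ?_
      show y = S.z * B.tp 2 y
      rw [show B.tp 2 y = S.z * y from r, ← mul_assoc, S.hE.mul_self_z, one_mul]

end FiveData

namespace EightData

variable {t y : G} (Q : B.EightData x t y) (D : B.FiveData x)
include Q D

theorem y_notz : y ∉ Subgroup.zpowers S.z := D.e_notz Q.htW Q.ht1 Q.htz Q.hy Q.hy2 Q.hyt Q.hy1

theorem tp_sq (i : ℕ) : B.tp i y * B.tp i y = 1 := by rw [← B.tp_mul, Q.hy2]; simp [tp]

theorem commute_tp : Commute y (B.tp 1 y) := by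
  have h := D.orbit_prod Q.hy
  set c := y * B.tp 1 y * B.tp 2 y with hc
  have hcz : ∀ {w}, w ∈ S.fixX x → Commute w c := fun hw =>
    Frame.commute_z_zpowers (S := S) (S.hE.commute_z (S.mem_fixX.1 hw).1) h
  have hcc : c * c = 1 := by rcases S.hE.eq_or h with e | e <;> rw [e] <;> simp [S.hE.mul_self_z]
  have h2 : y * B.tp 1 y = c * B.tp 2 y := by rw [hc, mul_assoc, Q.tp_sq D 2, mul_one]
  have h3 : (y * B.tp 1 y) * (y * B.tp 1 y) = 1 := by
    rw [h2, (hcz (D.tp_fixX Q.hy 2)).mul_mul_mul_comm, hcc, Q.tp_sq D 2, mul_one]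
  have e1 : B.tp 1 y * y = y * B.tp 1 y := by
    calc B.tp 1 y * y = y⁻¹ * ((y * B.tp 1 y) * (y * B.tp 1 y)) * (B.tp 1 y)⁻¹ := by group
      _ = y⁻¹ * (B.tp 1 y)⁻¹ := by rw [h3, mul_one]
      _ = y * B.tp 1 y := by rw [inv_eq_of_mul_eq_one_left Q.hy2, inv_eq_of_mul_eq_one_left (Q.tp_sq D 1)]
  exact e1.symm

theorem tp_comm (i j : Fin 3) : Commute (B.tp i.1 y) (B.tp j.1 y) := by
  have h01 := Q.commute_tp D
  have h12 : Commute (B.tp 1 y) (B.tp 2 y) := by
    have := B.tp_commute (i := 1) h01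
    rwa [B.tp_add] at this
  have h20 : Commute (B.tp 2 y) y := by
    have := B.tp_commute (i := 2) h01
    rwa [B.tp_add, show 2 + 1 = 3 from rfl, B.tp_three] at this
  fin_cases i <;> fin_cases j <;> first
    | exact Commute.refl _
    | (simp only [B.tp_zero]; first | exact h01 | exact h01.symm | exact h20 | exact h20.symm)
    | exact h12
    | exact h12.symm

theorem zmem_eight {c : G} (hc : c ∈ Subgroup.zpowers S.z) : c ∈ B.eightSet y := Or.inl hc

theorem six_eight {c : G} (hc : c ∈ Subgroup.zpowers S.z) (i : Fin 3) : c * B.tp i.1 y ∈ B.eightSet y :=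
  Or.inr (B.mem_six hc i)

theorem cases_eight {a : G} (ha : a ∈ B.eightSet y) :
    a ∈ Subgroup.zpowers S.z ∨ ∃ i : Fin 3, ∃ c ∈ Subgroup.zpowers S.z, a = c * B.tp i.1 y := by
  rcases ha with h | ⟨⟨b, i⟩, rfl⟩
  · exact Or.inl h
  · exact Or.inr ⟨i, _, by cases b <;> simp [one_mem], rfl⟩

theorem eight_fixX {a : G} (ha : a ∈ B.eightSet y) : a ∈ S.fixX x := by
  have hz : Subgroup.zpowers S.z ≤ S.fixX x :=
    (Subgroup.zpowers_le.2 D.z_fixV).trans fun w hw => D.fixV_le_fixX hw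
  rcases Q.cases_eight D ha with h | ⟨i, c, hc, rfl⟩
  exacts [hz h, mul_mem (hz hc) (D.tp_fixX Q.hy i.1)]

theorem eight_comm {a b : G} (ha : a ∈ B.eightSet y) (hb : b ∈ B.eightSet y) : Commute a b := by
  have hcz : ∀ {c w}, c ∈ Subgroup.zpowers S.z → w ∈ S.fixX x → Commute c w := fun hc hw =>
    (Frame.commute_z_zpowers (S := S) (S.hE.commute_z (S.mem_fixX.1 hw).1) hc).symm
  rcases Q.cases_eight D ha with h | ⟨i, c, hc, rfl⟩
  · exact hcz h (Q.eight_fixX D hb)
  rcases Q.cases_eight D hb with h | ⟨j, d, hd, rfl⟩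
  · exact (hcz h (Q.eight_fixX D (Q.six_eight D hc i))).symm
  · exact (hcz hc (Q.eight_fixX D (Q.six_eight D hd j))).mul_left
      ((hcz hd (D.tp_fixX Q.hy i.1)).symm.mul_right (Q.tp_comm D i j))

theorem tp_prod (i j : Fin 3) : B.tp i.1 y * B.tp j.1 y ∈ B.eightSet y := by
  by_cases hij : i = j
  · rw [hij, Q.tp_sq D]; exact Or.inl (one_mem _)
  · have hc := D.orbit_prod Q.hy
    set c := y * B.tp 1 y * B.tp 2 y with hcdef
    have hcy : ∀ k, Commute c (B.tp k y) := fun k =>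
      (Frame.commute_z_zpowers (S := S) (S.hE.commute_z (S.mem_fixX.1 (D.tp_fixX Q.hy k)).1) hc).symm
    have c01 := Q.tp_comm D 0 1
    have c02 := Q.tp_comm D 0 2
    have c12 := Q.tp_comm D 1 2
    simp only [Fin.val_zero, Fin.val_one, Fin.val_two, B.tp_zero] at c01 c02 c12
    have h0 : y * B.tp 1 y = c * B.tp 2 y := by rw [hcdef, mul_assoc, Q.tp_sq D 2, mul_one]
    have h1 : B.tp 1 y * B.tp 2 y = c * y := by
      rw [hcdef, show y * B.tp 1 y * B.tp 2 y * y = y * (B.tp 1 y * (B.tp 2 y * y)) by group, ← c02.eq,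
        ← mul_assoc (B.tp 1 y), ← c01.eq, mul_assoc y (B.tp 1 y), ← mul_assoc, Q.hy2, one_mul]
    have h2 : y * B.tp 2 y = c * B.tp 1 y := by
      rw [hcdef, mul_assoc _ (B.tp 2 y), ← c12.eq, ← mul_assoc, mul_assoc y, Q.tp_sq D 1, mul_one]
    have hmem : ∀ k : Fin 3, c * B.tp k.1 y ∈ B.eightSet y := Q.six_eight D hc
    fin_cases i <;> fin_cases j <;> simp only [ne_eq, not_true_eq_false] at hij
    · show B.tp 0 y * B.tp 1 y ∈ _
      rw [B.tp_zero, h0]; exact hmem 2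
    · show B.tp 0 y * B.tp 2 y ∈ _
      rw [B.tp_zero, h2]; exact hmem 1
    · show B.tp 1 y * B.tp 0 y ∈ _
      rw [B.tp_zero, ← c01.eq, h0]; exact hmem 2
    · show B.tp 1 y * B.tp 2 y ∈ _
      rw [h1]; have := hmem 0; rwa [Fin.val_zero, B.tp_zero] at this
    · show B.tp 2 y * B.tp 0 y ∈ _
      rw [B.tp_zero, ← c02.eq, h2]; exact hmem 1
    · show B.tp 2 y * B.tp 1 y ∈ _
      rw [← c12.eq, h1]; have := hmem 0; rwa [Fin.val_zero, B.tp_zero] at this

theorem sq_eight {a : G} (ha : a ∈ B.eightSet y) : a * a = 1 := by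
  rcases Q.cases_eight D ha with h | ⟨i, c, hc, rfl⟩
  · rcases S.hE.eq_or h with rfl | rfl <;> simp [S.hE.mul_self_z]
  · have hcc : c * c = 1 := by rcases S.hE.eq_or hc with rfl | rfl <;> simp [S.hE.mul_self_z]
    have hcy : Commute c (B.tp i.1 y) :=
      (Frame.commute_z_zpowers (S := S) (S.hE.commute_z (S.mem_fixX.1 (D.tp_fixX Q.hy i.1)).1) hc).symm
    rw [hcy.symm.mul_mul_mul_comm, hcc, Q.tp_sq D, one_mul]

/-- The eight-group. -/
def eight : Subgroup G where
  carrier := B.eightSet y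
  one_mem' := Or.inl (one_mem _)
  mul_mem' := by
    intro a b ha hb
    rcases Q.cases_eight D ha with h | ⟨i, c, hc, rfl⟩ <;> rcases Q.cases_eight D hb with h' | ⟨j, d, hd, rfl⟩
    · exact Or.inl (mul_mem h h')
    · rw [← mul_assoc]; exact Q.six_eight D (mul_mem h hd) j
    · rw [(Q.eight_comm D (Q.six_eight D hc i) (Or.inl h')).eq, ← mul_assoc]
      exact Q.six_eight D (mul_mem h' hc) i
    · rw [show c * B.tp i.1 y * (d * B.tp j.1 y) = c * d * (B.tp i.1 y * B.tp j.1 y) by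
        rw [mul_assoc c, ← mul_assoc (B.tp i.1 y) d,
          show B.tp i.1 y * d = d * B.tp i.1 y from (Frame.commute_z_zpowers (S := S)
            (S.hE.commute_z (S.mem_fixX.1 (D.tp_fixX Q.hy i.1)).1) hd).eq]
        group]
      rcases Q.cases_eight D (Q.tp_prod D i j) with h | ⟨k, f, hf, e⟩
      · exact Or.inl (mul_mem (mul_mem hc hd) h)
      · rw [e, ← mul_assoc]; exact Q.six_eight D (mul_mem (mul_mem hc hd) hf) k
  inv_mem' := by
    intro a ha
    rw [inv_eq_of_mul_eq_one_left (Q.sq_eight D ha)]; exact ha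

theorem mem_eight {a : G} : a ∈ Q.eight D ↔ a ∈ B.eightSet y := Iff.rfl

theorem card_eight : Nat.card (Q.eight D) = 8 := by
  classical
  let φ : Bool × Option (Fin 3) → ↥(Q.eight D) := fun v =>
    ⟨(if v.1 then S.z else 1) * (match v.2 with | none => 1 | some i => B.tp i.1 y), by
      have hb : (if v.1 then S.z else 1) ∈ Subgroup.zpowers S.z := by cases v.1 <;> simp [one_mem]
      cases v.2 with
      | none => rw [mul_one]; exact Or.inl hb
      | some i => exact Q.six_eight D hb i⟩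
  have hφ : Function.Bijective φ := by
    refine ⟨fun a b e => D.line_inj Q.hy (Q.y_notz D) (congrArg Subtype.val e), fun a => ?_⟩
    rcases Q.cases_eight D a.2 with h | ⟨i, c, hc, e⟩
    · rcases S.hE.eq_or h with r | r
      exacts [⟨(false, none), Subtype.ext (by simp [φ, r])⟩, ⟨(true, none), Subtype.ext (by simp [φ, r])⟩]
    · rcases S.hE.eq_or hc with r | r
      exacts [⟨(false, some i), Subtype.ext (by simp [φ, e, r])⟩, ⟨(true, some i), Subtype.ext (by simp [φ, e, r])⟩]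
  rw [← Nat.card_congr (Equiv.ofBijective φ hφ), Nat.card_eq_fintype_card]; rfl

/-- The non-identity elements are the conjugates of `z` in the centralizer of `x` and `z`. -/
theorem mem_eight_iff {a : G} : (a ∈ Q.eight D ∧ a ≠ 1) ↔ (a ∈ S.centH x ∧ IsConj S.z a) := by
  constructor
  · rintro ⟨ha, ha1⟩
    obtain ⟨hE, hx⟩ := S.mem_fixX.1 (Q.eight_fixX D ha)
    refine ⟨S.mem_centH.2 ⟨S.hE.commute_z hE, hx⟩, ?_⟩
    rcases Q.cases_eight D ha with h | ⟨i, c, hc, rfl⟩
    · rw [(S.hE.eq_or h).resolve_left ha1]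
    · exact Q.hzy.trans (D.six_conj Q.htW Q.ht1 Q.htz Q.hy Q.hy2 Q.hyt Q.hy1 (Or.inl rfl) (B.mem_six hc i))
  · rintro ⟨ha, haz⟩
    refine ⟨?_, fun r => by rw [r, isConj_one_left] at haz; exact S.hE.z_ne_one haz⟩
    rcases Q.hlist a ha haz with rfl | h
    exacts [Or.inl (Subgroup.mem_zpowers _), Or.inr h]

theorem eight_map {g : G} (hgx : Commute g x) {a : G} (ha : a ∈ Q.eight D) (ha1 : a ≠ 1)
    (hg : g * S.z * g⁻¹ = a) : g ∈ Subgroup.normalizer (Q.eight D : Set G) := by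
  refine norm_of_map (Subgroup.eq_of_le_of_card_ge ?_
    (by rw [Subgroup.card_map_of_injective (MulAut.conj g).injective])).symm.symm
  rintro _ ⟨b, hb, rfl⟩
  by_cases hb1 : b = 1
  · rw [hb1, map_one]; exact one_mem _
  obtain ⟨hbH, hbz⟩ := (Q.mem_eight_iff D).1 ⟨hb, hb1⟩
  show g * b * g⁻¹ ∈ Q.eight D
  -- pull back: the preimage of the group is inside
  have hA : ∀ c ∈ Q.eight D, g⁻¹ * c * g ∈ Q.eight D := by
    intro c hc
    by_cases hc1 : c = 1
    · rw [hc1, mul_one, inv_mul_cancel]; exact one_mem _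
    obtain ⟨hcH, hcz⟩ := (Q.mem_eight_iff D).1 ⟨hc, hc1⟩
    refine ((Q.mem_eight_iff D).2 ⟨S.mem_centH.2 ⟨?_, ?_⟩, ?_⟩).1
    · have := (LargeData.commute_conj_iff' (g := g⁻¹)).2 (Q.eight_comm D hc ha)
      rwa [inv_inv, ← hg, show g⁻¹ * (g * S.z * g⁻¹) * g = S.z by group] at this
    · have h := conj_comm_of (g := g⁻¹) (conj_eq_self hgx.inv_left) (S.mem_centH.1 hcH).2
      rwa [inv_inv] at h
    · exact hcz.trans (isConj_iff.2 ⟨g⁻¹, by group⟩)
  have hinj : Function.Injective (fun c : ↥(Q.eight D) => (⟨g⁻¹ * c * g, hA c c.2⟩ : ↥(Q.eight D))) := fun c d e =>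
    Subtype.ext (mul_left_cancel (mul_right_cancel (congrArg Subtype.val e)))
  obtain ⟨c, hc⟩ := Finite.surjective_of_injective hinj ⟨b, hb⟩
  have hc' : g⁻¹ * (c : G) * g = b := congrArg Subtype.val hc
  rw [← hc', show g * (g⁻¹ * (c : G) * g) * g⁻¹ = c by group]
  exact c.2

theorem z_mem_eight : S.z ∈ Q.eight D := Or.inl (Subgroup.mem_zpowers _)

theorem centH_norm : S.centH x ≤ Subgroup.normalizer (Q.eight D : Set G) := fun g hg => by
  obtain ⟨hgz, hgx⟩ := S.mem_centH.1 hg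
  exact Q.eight_map D hgx (Q.z_mem_eight D) S.hE.z_ne_one (conj_eq_self hgz)

/-- The normalizer of the eight-group in the centralizer of `x`. -/
def Ygrp : Subgroup G := Subgroup.centralizer ({x} : Set G) ⊓ Subgroup.normalizer (Q.eight D : Set G)

theorem card_Y : Nat.card (Q.Ygrp D) = 6720 := by
  classical
  let A1 := {a : ↥(Q.eight D) // a ≠ 1}
  have hch : ∀ a : A1, ∃ g ∈ Q.Ygrp D, g * S.z * g⁻¹ = ((a : ↥(Q.eight D)) : G) := by
    intro a
    have ha1 : ((a : ↥(Q.eight D)) : G) ≠ 1 := fun e => a.2 (Subtype.ext e)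
    obtain ⟨h1, h2⟩ := (Q.mem_eight_iff D).1 ⟨(a : ↥(Q.eight D)).2, ha1⟩
    obtain ⟨g, hg, e⟩ := D.z_class (S.mem_centH.1 h1).2 h2
    exact ⟨g, ⟨mem_centralizer_singleton_iff'.2 hg.eq, Q.eight_map D hg (a : ↥(Q.eight D)).2 ha1 e⟩, e⟩
  choose g hg hgz using hch
  let φ : A1 × ↥(S.centH x) → ↥(Q.Ygrp D) := fun v => ⟨g v.1 * v.2, mul_mem (hg v.1) ⟨v.2.2.2, Q.centH_norm D v.2.2⟩⟩
  have hz : ∀ v, (φ v : G) * S.z * (φ v : G)⁻¹ = ((v.1 : ↥(Q.eight D)) : G) := fun v => by
    show g v.1 * v.2 * S.z * (g v.1 * v.2)⁻¹ = _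
    rw [show g v.1 * v.2 * S.z * (g v.1 * v.2)⁻¹ = g v.1 * ((v.2 : G) * S.z * (v.2 : G)⁻¹) * (g v.1)⁻¹ by group,
      conj_eq_self (S.mem_centH.1 v.2.2).1, hgz]
  have hφ : Function.Bijective φ := by
    constructor
    · intro v w e
      have h1 : v.1 = w.1 := Subtype.ext (Subtype.ext (by rw [← hz, ← hz, e]))
      have e' : g v.1 * v.2 = g w.1 * w.2 := congrArg Subtype.val e
      rw [h1] at e'
      exact Prod.ext h1 (Subtype.ext (mul_left_cancel e'))
    · intro u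
      have huA : (u : G) * S.z * (u : G)⁻¹ ∈ Q.eight D :=
        (Subgroup.mem_normalizer_iff.1 u.2.2 _).1 (Q.z_mem_eight D)
      let a : A1 := ⟨⟨_, huA⟩, fun e => S.hE.z_ne_one (conj_eq_one_iff.1 (congrArg Subtype.val e))⟩
      refine ⟨(a, ⟨(g a)⁻¹ * u, ?_⟩), Subtype.ext (mul_inv_cancel_left _ _)⟩
      refine S.mem_centH.2 ⟨mul_inv_eq_iff_eq_mul.1 ?_,
        (show Commute (g a) x from mem_centralizer_singleton_iff'.1 (hg a).1).inv_left.mul_left
          (mem_centralizer_singleton_iff'.1 u.2.1)⟩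
      rw [show (g a)⁻¹ * (u : G) * S.z * ((g a)⁻¹ * (u : G))⁻¹ = (g a)⁻¹ * ((u : G) * S.z * (u : G)⁻¹) * g a by group,
        ← show g a * S.z * (g a)⁻¹ = (u : G) * S.z * (u : G)⁻¹ from hgz a]
      group
  rw [← Nat.card_congr (Equiv.ofBijective φ hφ), Nat.card_prod, D.centH_card]
  have h7 : Nat.card A1 = 7 := by
    haveI := Fintype.ofFinite ↥(Q.eight D)
    rw [Nat.card_eq_fintype_card, Fintype.card_subtype_compl, Fintype.card_subtype_eq, ← Nat.card_eq_fintype_card,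
      Q.card_eight D]
  rw [h7]

end EightData

end HexBase

end CfsgLib.JankoFour
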