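import Cfsg.Agent.Lib.JankoFourFive.Formula
import Cfsg.Agent.Lib.JankoFourFive.Conclusion

/-!
# The structure of the centralizer of an element of order five (owner: helper17)

The eight-group is self-centralizing up to `x`, nothing of order 168 in the centralizer avoids it, and an
element squaring `x` normalises it.
-/

set_option autoImplicit false
set_option linter.unusedSectionVars false

namespace CfsgLib.JankoFour

open Cfsg CfsgLib.ThreeTrans
open CfsgLib.JankoFourHexad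

variable {G : Type*} [Group G] [Finite G]

namespace Setting

variable (S : Setting G)

/-- An odd power of an outer element is an outer element of two-power order. -/
theorem exists_two_power {g : G} (hgz : Commute g S.z) (hg0 : g ∉ S.H0) :
    ∃ b a : ℕ, g ^ b ∉ S.H0 ∧ (g ^ b) ^ 2 ^ a = 1 := by
  obtain ⟨a, b, hb, hab⟩ := Nat.exists_eq_two_pow_mul_odd (orderOf_pos g).ne'
  refine ⟨b, a, fun h => hg0 ?_, by rw [← pow_mul, mul_comm, ← hab, pow_orderOf_eq_one]⟩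
  obtain ⟨k, hk⟩ := hb
  have h1 : (g * g) ^ k ∈ S.H0 := pow_mem (S.sq_mem hgz) k
  rw [hk, pow_succ, pow_mul, pow_two] at h
  simpa using mul_mem (inv_mem h1) h

end Setting

namespace HexBase

variable {S : Setting G} {B : HexBase S} {x : G}

theorem tp_mod (n : ℕ) (w : G) : B.tp n w = B.tp (n % 3) w := by
  simp only [tp]; rw [pow_eq_pow_mod n B.X.F.p_pow]

namespace EightData

variable {t y : G} (Q : B.EightData x t y) (D : B.FiveData x)
include Q D

theorem index_eq {i j : Fin 3} (h : Commute (B.tp j.1 y) (B.tp i.1 t)) : j = i := by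
  have h' := B.tp_commute (i := 3 - i.1) h
  rw [B.tp_add, B.tp_add, show 3 - i.1 + i.1 = 3 by omega, B.tp_three,
    tp_mod (B := B) (3 - i.1 + j.1)] at h'
  have h0 := ((D.pattern Q.htW Q.ht1 Q.htz Q.hy Q.hy2 Q.hyt Q.hy1 (Nat.mod_lt _ (by norm_num))).1).1 h'
  exact Fin.ext (by omega)

theorem fixV_cent {w : G} (hw : w ∈ B.fixV x) (h0 : Commute w y) (h1 : Commute w (B.tp 1 y)) :
    w ∈ Subgroup.zpowers S.z := by
  rcases D.fixV_list Q.htW Q.ht1 Q.htz hw with h | ⟨j, c, hc, rfl⟩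
  · exact h
  have hcy : ∀ k, Commute c (B.tp k y) := fun k =>
    (Frame.commute_z_zpowers (S := S) (S.hE.commute_z (S.mem_fixX.1 (D.tp_fixX Q.hy k)).1) hc).symm
  have a0 : Commute (B.tp j.1 t) y := by
    have := (hcy 0).inv_left
    rw [B.tp_zero] at this
    have := this.mul_left h0
    rwa [inv_mul_cancel_left] at this
  have a1 : Commute (B.tp j.1 t) (B.tp 1 y) := by
    have := (hcy 1).inv_left.mul_left h1
    rwa [inv_mul_cancel_left] at this
  have e0 := Q.index_eq D (i := j) (j := 0) (by rw [Fin.val_zero, B.tp_zero]; exact a0.symm)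
  have e1 := Q.index_eq D (i := j) (j := 1) a1.symm
  exact absurd (e0.trans e1.symm) (by decide)

theorem tp_y_eight (i : Fin 3) : B.tp i.1 y ∈ Q.eight D := by
  have h := Q.six_eight D (one_mem (Subgroup.zpowers S.z)) i
  rw [one_mul] at h
  exact h

theorem y_eight : y ∈ Q.eight D := by
  have h := Q.tp_y_eight D 0
  rwa [Fin.val_zero, B.tp_zero] at h

theorem inner_cent {k : G} (hk : k ∈ S.fixX x) (h0 : Commute k y) (h1 : Commute k (B.tp 1 y)) :
    k ∈ Q.eight D := by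
  rcases D.fixX_list Q.htW Q.ht1 Q.htz Q.hy Q.hy2 Q.hyt Q.hy1 hk with h | ⟨i, w, hw, rfl⟩
  · exact Or.inl (Q.fixV_cent D h h0 h1)
  · have hi : ∀ j : Fin 3, Commute (B.tp i.1 y) (B.tp j.1 y) := fun j => Q.tp_comm D i j
    have hwz := Q.fixV_cent D hw
      (by
        have := (hi 0).inv_left.mul_left (by rw [Fin.val_zero, B.tp_zero]; exact h0)
        rwa [inv_mul_cancel_left, Fin.val_zero, B.tp_zero] at this)
      (by
        have := (hi 1).inv_left.mul_left h1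
        rwa [inv_mul_cancel_left] at this)
    exact mul_mem (Q.tp_y_eight D i) (Or.inl hwz : w ∈ Q.eight D)

theorem no_outer {g : G} (hgx : Commute g x) (hgz : Commute g S.z) (hg0 : g ∉ S.H0) (hy0 : Commute g y)
    (hy1 : Commute g (B.tp 1 y)) : False := by
  obtain ⟨n, hn, hn0, hnx⟩ := S.exists_outer_five D.hx D.hxC
  have hh : n⁻¹ * g ∈ S.cent0 x := S.mem_cent0.2 ⟨S.hidx _ _ hn.1.inv_left hgz
    (fun c => hn0 (by simpa using inv_mem c)) hg0, hnx.inv_left.mul_left hgx⟩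
  obtain ⟨i, r, hr, k, hk, hd⟩ := D.cent0_decomp' hh
  obtain ⟨j, rfl⟩ := B.X.F.P_eq hr
  obtain ⟨hkE, hkx⟩ := S.mem_fixX.1 hk
  have hg : g = n * (x ^ i * (B.X.F.p ^ j * k)) := by rw [← hd, mul_inv_cancel_left]
  have key : ∀ a ∈ S.fixX x, Commute g a →
      ∃ c ∈ Subgroup.zpowers S.z, n * B.tp j a * n⁻¹ = c * a := by
    intro a ha hga
    obtain ⟨c, hc, hka⟩ : ∃ c ∈ Subgroup.zpowers S.z, k * a * k⁻¹ = c * a := by
      rcases S.hE.conj_eq_or hkE (S.mem_fixX.1 ha).1 with e | e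
      · exact ⟨1, one_mem _, by rw [e, one_mul]⟩
      · exact ⟨S.z, Subgroup.mem_zpowers _, e⟩
    refine ⟨c, hc, ?_⟩
    have hcz : ∀ {v : G}, Commute v S.z → v * c * v⁻¹ = c := fun hv =>
      conj_eq_self (Frame.commute_z_zpowers (S := S) hv hc)
    have hta : B.X.F.p ^ j * (c * a) * (B.X.F.p ^ j)⁻¹ = c * B.tp j a := by
      rw [show B.X.F.p ^ j * (c * a) * (B.X.F.p ^ j)⁻¹ =
        (B.X.F.p ^ j * c * (B.X.F.p ^ j)⁻¹) * (B.X.F.p ^ j * a * (B.X.F.p ^ j)⁻¹) by group,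
        hcz ((Frame.commute_z (S := S) B.X.F.hpC).pow_left j)]
      rfl
    have hxa : x ^ i * (c * B.tp j a) * (x ^ i)⁻¹ = c * B.tp j a :=
      conj_eq_self (((Frame.commute_z_zpowers (S := S) D.comm_xz hc).mul_right
        (S.mem_fixX.1 (D.tp_fixX ha j)).2.symm).pow_left i)
    have e : a = c * (n * B.tp j a * n⁻¹) := by
      calc a = g * a * g⁻¹ := (conj_eq_self hga).symm
        _ = n * (x ^ i * (B.X.F.p ^ j * (k * a * k⁻¹) * (B.X.F.p ^ j)⁻¹) * (x ^ i)⁻¹) * n⁻¹ := by rw [hg]; group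
        _ = (n * c * n⁻¹) * (n * B.tp j a * n⁻¹) := by rw [hka, hta, hxa]; group
        _ = _ := by rw [hcz hn.1]
    have hcc : c * c = 1 := by rcases S.hE.eq_or hc with r | r <;> rw [r] <;> simp [S.hE.mul_self_z]
    calc n * B.tp j a * n⁻¹ = c * (c * (n * B.tp j a * n⁻¹)) := by rw [← mul_assoc, hcc, one_mul]
      _ = c * a := by rw [← e]
  obtain ⟨c0, hc0, e0⟩ := key y Q.hy hy0
  obtain ⟨c1, hc1, e1⟩ := key (B.tp 1 y) (D.tp_fixX Q.hy 1) hy1
  have hnp : n * B.X.F.p * n⁻¹ = B.X.F.p⁻¹ := S.outer_inverts hn hn0 B.X.F.hpP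
  have hp2 : B.X.F.p⁻¹ = B.X.F.p ^ 2 := inv_eq_of_mul_eq_one_right (by rw [← pow_succ', B.X.F.p_pow])
  have hc0p : B.X.F.p ^ 2 * c0 * (B.X.F.p ^ 2)⁻¹ = c0 := conj_eq_self
    (Frame.commute_z_zpowers (S := S) ((Frame.commute_z (S := S) B.X.F.hpC).pow_left 2) hc0)
  have e2 : n * B.tp j (B.tp 1 y) * n⁻¹ = c0 * B.tp 2 y := by
    calc n * B.tp j (B.tp 1 y) * n⁻¹
        = (n * B.X.F.p * n⁻¹) * (n * B.tp j y * n⁻¹) * (n * B.X.F.p * n⁻¹)⁻¹ := by
          rw [B.tp_add, add_comm j 1, ← B.tp_add]; simp only [tp, pow_one]; group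
      _ = B.X.F.p ^ 2 * (c0 * y) * (B.X.F.p ^ 2)⁻¹ := by rw [e0, hnp, hp2]
      _ = (B.X.F.p ^ 2 * c0 * (B.X.F.p ^ 2)⁻¹) * B.tp 2 y := by simp only [tp]; group
      _ = _ := by rw [hc0p]
  rw [e1] at e2
  obtain ⟨n1, n2⟩ := D.tp_ne (D.tp_fixX Q.hy 1) (D.tp_notz (Q.y_notz D) 1)
  rw [B.tp_add, show 1 + 1 = 2 from rfl] at n1 n2
  have hcc : c0⁻¹ * c1 ∈ Subgroup.zpowers S.z := mul_mem (inv_mem hc0) hc1
  have e3 : B.tp 2 y = c0⁻¹ * c1 * B.tp 1 y := by rw [mul_assoc, e2, inv_mul_cancel_left]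
  rcases S.hE.eq_or hcc with r | r <;> rw [r] at e3
  · exact n1 (by rw [e3, one_mul])
  · exact n2 e3

theorem mem_Ygrp {g : G} (hgx : Commute g x) : g ∈ Subgroup.normalizer (Q.eight D : Set G) := by
  have h : g ∈ Subgroup.centralizer ({x} : Set G) := mem_centralizer_singleton_iff'.2 hgx.eq
  rw [← Q.centralizer_eq D] at h
  exact h.2

theorem cent_eight {g : G} (hgx : Commute g x) (hg : ∀ a ∈ Q.eight D, Commute g a) :
    ∃ i : ℕ, ∃ a ∈ Q.eight D, g = x ^ i * a := by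
  have hgz : Commute g S.z := hg _ (Q.z_mem_eight D)
  have hg0 := hg y (Q.y_eight D)
  have hg1 := hg _ (Q.tp_y_eight D 1)
  by_cases h0 : g ∈ S.H0
  swap
  · exact (Q.no_outer D hgx hgz h0 hg0 hg1).elim
  obtain ⟨n, r, hr, k, hk, hd⟩ := D.cent0_decomp' (S.mem_cent0.2 ⟨h0, hgx⟩)
  obtain ⟨hkE, hkx⟩ := S.mem_fixX.1 hk
  have hr1 : r = 1 := by
    obtain ⟨j, rfl⟩ := B.X.F.P_eq hr
    refine D.P_fix_coset Q.hy (Q.y_notz D) hr ?_
    have hxy : ∀ v ∈ S.fixX x, x ^ n * v * (x ^ n)⁻¹ = v := fun v hv =>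
      conj_eq_self ((S.mem_fixX.1 hv).2.symm.pow_left n)
    have hrz : B.X.F.p ^ j * S.z * (B.X.F.p ^ j)⁻¹ = S.z := conj_eq_self (S.P_commute_z hr)
    have e : x ^ n * (B.X.F.p ^ j * (k * y * k⁻¹) * (B.X.F.p ^ j)⁻¹) * (x ^ n)⁻¹ = y := by
      rw [show x ^ n * (B.X.F.p ^ j * (k * y * k⁻¹) * (B.X.F.p ^ j)⁻¹) * (x ^ n)⁻¹ = g * y * g⁻¹ by rw [hd]; group]
      exact conj_eq_self hg0
    have hrk : B.X.F.p ^ j * (k * y * k⁻¹) * (B.X.F.p ^ j)⁻¹ = y := by
      have hmem : B.X.F.p ^ j * (k * y * k⁻¹) * (B.X.F.p ^ j)⁻¹ ∈ S.fixX x :=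
        D.tp_fixX (mul_mem (mul_mem hk Q.hy) (inv_mem hk)) j
      rwa [hxy _ hmem] at e
    rcases S.hE.conj_eq_or hkE (S.mem_fixX.1 Q.hy).1 with f | f <;> rw [f] at hrk
    · exact Or.inl hrk
    · refine Or.inr ?_
      rw [show B.X.F.p ^ j * (S.z * y) * (B.X.F.p ^ j)⁻¹ =
        (B.X.F.p ^ j * S.z * (B.X.F.p ^ j)⁻¹) * (B.X.F.p ^ j * y * (B.X.F.p ^ j)⁻¹) by group, hrz] at hrk
      calc B.X.F.p ^ j * y * (B.X.F.p ^ j)⁻¹ = S.z * (S.z * (B.X.F.p ^ j * y * (B.X.F.p ^ j)⁻¹)) := by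
            rw [← mul_assoc, S.hE.mul_self_z, one_mul]
        _ = S.z * y := by rw [hrk]
  rw [hr1, one_mul] at hd
  refine ⟨n, k, Q.inner_cent D hk ?_ ?_, hd⟩
  · have := ((S.mem_fixX.1 Q.hy).2.symm.pow_left n).inv_left.mul_left hg0
    rwa [hd, inv_mul_cancel_left] at this
  · have := ((S.mem_fixX.1 (D.tp_fixX Q.hy 1)).2.symm.pow_left n).inv_left.mul_left hg1
    rwa [hd, inv_mul_cancel_left] at this

theorem no_complement (K : Subgroup G) (hK : ∀ k ∈ K, Commute k x) (hAK : Q.eight D ⊓ K = ⊥) :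
    Nat.card K ≠ 168 := by
  classical
  intro hK168
  haveI : Fact (Nat.Prime 2) := ⟨Nat.prime_two⟩
  set A := Q.eight D with hA
  have hKN : K ≤ Subgroup.normalizer (A : Set G) := fun k hk => Q.mem_Ygrp D (hK k hk)
  set M := K ⊔ A with hM
  have hMmem : ∀ {g}, g ∈ M ↔ ∃ k ∈ K, ∃ a ∈ A, g = k * a := fun {g} =>
    CfsgLib.Core.mem_sup_iff_mul hKN
  have hMcard : Nat.card M = 1344 := by
    let f : ↥K × ↥A → ↥M := fun v => ⟨(v.1 : G) * v.2, hMmem.2 ⟨_, v.1.2, _, v.2.2, rfl⟩⟩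
    have hf : Function.Bijective f := by
      constructor
      · rintro ⟨k, a⟩ ⟨k', a'⟩ e
        have e' : (k : G) * a = k' * a' := congrArg Subtype.val e
        have h : (k' : G)⁻¹ * k ∈ A ⊓ K := Subgroup.mem_inf.2 ⟨by
          rw [show (k' : G)⁻¹ * k = a' * (a : G)⁻¹ by
            rw [eq_mul_inv_iff_mul_eq, mul_assoc, e', inv_mul_cancel_left]]
          exact mul_mem a'.2 (inv_mem a.2), mul_mem (inv_mem k'.2) k.2⟩
        rw [hAK, Subgroup.mem_bot] at h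
        have hk : (k : G) = k' := (inv_mul_eq_one.1 h).symm
        rw [hk] at e'
        exact Prod.ext (Subtype.ext hk) (Subtype.ext (mul_left_cancel e'))
      · rintro ⟨g, hg⟩
        obtain ⟨k, hk, a, ha, rfl⟩ := hMmem.1 hg
        exact ⟨(⟨k, hk⟩, ⟨a, ha⟩), rfl⟩
    rw [← Nat.card_congr (Equiv.ofBijective f hf), Nat.card_prod, hK168, Q.card_eight D]
  have hMC : M ≤ Subgroup.centralizer ({x} : Set G) :=
    sup_le (fun k hk => mem_centralizer_singleton_iff'.2 (hK k hk).eq)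
      (fun a ha => mem_centralizer_singleton_iff'.2 (S.mem_fixX.1 (Q.eight_fixX D ha)).2.eq)
  have hpowX : ∀ i : ℕ, x ^ i ∈ M → x ^ i = 1 := fun i hi => by
    have h1 : (x ^ i) ^ 1344 = 1 := by
      have := congrArg Subtype.val (pow_card_eq_one' (G := ↥M) (x := ⟨_, hi⟩))
      rwa [hMcard] at this
    have h2 : (x ^ i) ^ 5 = 1 := by rw [← pow_mul, mul_comm, pow_mul, D.x5, one_pow]
    have := pow_gcd_eq_one.2 (And.intro h1 h2)
    rwa [show Nat.gcd 1344 5 = 1 from rfl, pow_one] at this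
  -- every element of two-power order lies in `M`
  have htwo : ∀ g : G, Commute g x → (∃ a, g ^ 2 ^ a = 1) → g ∈ M := by
    rintro g hgx ⟨a, hga⟩
    let f : Fin 5 × ↥M → ↥(Subgroup.centralizer ({x} : Set G)) := fun v => ⟨x ^ (v.1 : ℕ) * (v.2 : G),
      mul_mem (pow_mem (mem_centralizer_singleton_iff'.2 rfl) _) (hMC v.2.2)⟩
    have hinj : Function.Injective f := by
      rintro ⟨i, m⟩ ⟨j, m'⟩ e
      have e' : x ^ (i : ℕ) * (m : G) = x ^ (j : ℕ) * (m' : G) := congrArg Subtype.val e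
      have hij : ∀ p q : ℕ, p ≤ q → q < 5 → (x ^ p * (m : G) = x ^ q * m' ∨ x ^ p * (m' : G) = x ^ q * m) → p = q := by
        intro p q hpq hq h
        have hmem : x ^ (q - p) ∈ M := by
          have hxq : x ^ q = x ^ p * x ^ (q - p) := by rw [← pow_add, Nat.add_sub_cancel' hpq]
          rcases h with r | r <;> rw [hxq, mul_assoc] at r <;> rw [eq_mul_inv_of_mul_eq (mul_left_cancel r).symm]
          exacts [mul_mem m.2 (inv_mem m'.2), mul_mem m'.2 (inv_mem m.2)]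
        have h1 := hpowX _ hmem
        rw [← pow_zero x] at h1
        have := pow_injOn_Iio_orderOf (x := x) (by rw [Set.mem_Iio, D.hx]; omega) (by rw [Set.mem_Iio, D.hx]; omega) h1
        omega
      have hij' : i = j := by
        rcases le_total (i : ℕ) j with r | r
        exacts [Fin.ext (hij _ _ r j.2 (Or.inl e')), Fin.ext (hij _ _ r i.2 (Or.inr e'.symm)).symm]
      subst hij'
      exact Prod.ext rfl (Subtype.ext (mul_left_cancel e'))
    have hbij := hinj.bijective_of_nat_card_le (by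
      rw [show Nat.card ↥(Subgroup.centralizer ({x} : Set G)) = 6720 by rw [← Q.centralizer_eq D, Q.card_Y D],
        Nat.card_prod, Nat.card_fin, hMcard])
    obtain ⟨⟨i, m⟩, e⟩ := hbij.2 ⟨g, mem_centralizer_singleton_iff'.2 hgx.eq⟩
    have e' : x ^ (i : ℕ) * (m : G) = g := congrArg Subtype.val e
    have hc : Commute (x ^ (i : ℕ)) (m : G) :=
      (show Commute (m : G) x from mem_centralizer_singleton_iff'.1 (hMC m.2)).symm.pow_left _
    have h1 : (x ^ (i : ℕ)) ^ 2 ^ a ∈ M := by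
      rw [← e', hc.mul_pow] at hga
      rw [eq_inv_of_mul_eq_one_left hga]
      exact inv_mem (pow_mem m.2 _)
    rw [← pow_mul] at h1
    have h2 := hpowX _ h1
    rw [pow_mul] at h2
    have h5 : (x ^ (i : ℕ)) ^ 5 = 1 := by rw [← pow_mul, mul_comm, pow_mul, D.x5, one_pow]
    have h3 := pow_gcd_eq_one.2 (And.intro h5 h2)
    rw [show Nat.gcd 5 (2 ^ a) = 1 from Nat.Coprime.pow_right a (by norm_num : Nat.Coprime 5 2), pow_one] at h3
    rw [← e', h3, one_mul]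
    exact m.2
  have hzK : ∀ v ∈ K, v ∈ A → v = 1 := fun v hv hv' =>
    Subgroup.mem_bot.1 (hAK ▸ (⟨hv', hv⟩ : v ∈ A ⊓ K))
  -- the four-group
  set D0 := K ⊓ S.fixX x with hD0
  have hD0card : Nat.card D0 = 4 := by
    let f : ↥D0 × ↥A → ↥(S.fixX x) := fun v => ⟨(v.1 : G) * v.2, mul_mem v.1.2.2 (Q.eight_fixX D v.2.2)⟩
    have hf : Function.Bijective f := by
      constructor
      · rintro ⟨k, a⟩ ⟨k', a'⟩ e
        have e' : (k : G) * a = k' * a' := congrArg Subtype.val e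
        have hk : (k : G) = k' := (inv_mul_eq_one.1 (hzK _ (mul_mem (inv_mem k'.2.1) k.2.1) (by
          rw [show (k' : G)⁻¹ * k = a' * (a : G)⁻¹ by
            rw [eq_mul_inv_iff_mul_eq, mul_assoc, e', inv_mul_cancel_left]]
          exact mul_mem a'.2 (inv_mem a.2)))).symm
        rw [hk] at e'
        exact Prod.ext (Subtype.ext hk) (Subtype.ext (mul_left_cancel e'))
      · rintro ⟨g, hg⟩
        obtain ⟨hgE, hgx⟩ := S.mem_fixX.1 hg
        have h4 : ∃ a, g ^ 2 ^ a = 1 := ⟨2, by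
          rw [show 2 ^ 2 = 2 + 2 from rfl, pow_add, pow_two]
          rcases S.hE.eq_or (S.hE.sq_mem hgE) with r | r <;> rw [r] <;> simp [S.hE.mul_self_z]⟩
        obtain ⟨k, hk, a, ha, rfl⟩ := hMmem.1 (htwo g hgx h4)
        have hkX : k ∈ S.fixX x := by
          simpa using mul_mem hg (inv_mem (Q.eight_fixX D ha))
        exact ⟨(⟨k, hk, hkX⟩, ⟨a, ha⟩), rfl⟩
    have h := Nat.card_congr (Equiv.ofBijective f hf)
    rw [Nat.card_prod, Q.card_eight D, B.card_fixX D.hx D.hxC D.hxN] at h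
    omega
  -- an outer element of two-power order in `K`
  obtain ⟨n, hn, hn0, hnx⟩ := S.exists_outer_five D.hx D.hxC
  obtain ⟨b, a, hb0, hb2⟩ := S.exists_two_power hn.1 hn0
  obtain ⟨k, hk, a', ha', hka⟩ := hMmem.1 (htwo (n ^ b) (hnx.pow_left b) ⟨a, hb2⟩)
  obtain ⟨ha'E, ha'x⟩ := S.mem_fixX.1 (Q.eight_fixX D ha')
  have hkeq : k = n ^ b * a'⁻¹ := by rw [hka, mul_inv_cancel_right]
  have hk0 : k ∉ S.H0 := fun h => hb0 (hka ▸ mul_mem h (S.hEH0 ha'E))
  have hkz : Commute k S.z := hkeq ▸ (hn.1.pow_left b).mul_left (S.hE.commute_z ha'E).inv_left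
  obtain ⟨b', a2, hv0, hv2⟩ := S.exists_two_power hkz hk0
  set v := k ^ b' with hv
  have hvK : v ∈ K := pow_mem hk b'
  have hvH : v ∈ S.centH x := S.mem_centH.2 ⟨hkz.pow_left b', hK v hvK⟩
  have hvN : v ∈ Subgroup.normalizer (D0 : Set G) := by
    refine norm_of_map (Subgroup.eq_of_le_of_card_ge ?_
      (by rw [Subgroup.card_map_of_injective (MulAut.conj v).injective])).symm.symm
    rintro _ ⟨d, ⟨hdK, hdX⟩, rfl⟩
    obtain ⟨hdE, hdx⟩ := S.mem_fixX.1 hdX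
    show v * d * v⁻¹ ∈ D0
    exact Subgroup.mem_inf.2 ⟨mul_mem (mul_mem hvK hdK) (inv_mem hvK), S.mem_fixX.2 ⟨S.hE.conj_mem (S.mem_centH.1 hvH).1 hdE,
      conj_comm_of (conj_eq_self (hK v hvK)) hdx⟩⟩
  obtain ⟨d, ⟨hdK, hdX⟩, hd1, hvd⟩ : ∃ d, d ∈ D0 ∧ d ≠ 1 ∧ Commute v d := by
    obtain ⟨m, -, hm⟩ := (Nat.dvd_prime_pow Nat.prime_two).1 (orderOf_dvd_of_pow_eq_one hv2)
    have h := fixed_modEq (IsPGroup.of_card (p := 2) (n := m) (by rw [Nat.card_zpowers, hm])) D0 hvN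
    rw [hD0card] at h
    by_contra hno
    simp only [not_exists, not_and] at hno
    have hbot : D0 ⊓ Subgroup.centralizer ({v} : Set G) = ⊥ := by
      rw [eq_bot_iff]
      rintro d ⟨hd, hdv⟩
      rw [Subgroup.mem_bot]
      by_contra hd1
      exact hno d hd hd1 (mem_centralizer_singleton_iff'.1 hdv : Commute d v).symm
    rw [hbot, Subgroup.card_bot] at h
    exact absurd h (by decide)
  obtain ⟨hdE, hdx⟩ := S.mem_fixX.1 hdX
  have hd2 : d * d = 1 := by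
    refine (S.hE.eq_or (S.hE.sq_mem hdE)).resolve_right fun r => S.hE.z_ne_one (hzK _ ?_ (Q.z_mem_eight D))
    rw [← r]; exact mul_mem hdK hdK
  rcases D.inner_list Q.htW Q.ht1 Q.htz Q.hy Q.hy2 Q.hyt Q.hy1 (S.mem_cent0.2 ⟨S.hEH0 hdE, hdx⟩) hd2
    with h | h | h
  · exact hd1 (hzK d hdK (Or.inl (Q.outer_not_W D hvH hv0 h hvd)))
  · exact hd1 (hzK d hdK (Or.inr h))
  obtain ⟨⟨bb, i⟩, rfl⟩ := h
  dsimp only at hvd hdK hdX hdE hdx hd1 hd2
  set c := (if bb then S.z else 1) with hcdef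
  have hc : c ∈ Subgroup.zpowers S.z := by rw [hcdef]; cases bb <;> simp [one_mem]
  set u := B.tp i.1 t with hu
  set aa := B.tp i.1 y with haa
  have hau : B.tp i.1 (y * t) = aa * u := B.tp_mul i.1 y t
  rw [hau] at hvd hdE
  have huW : u ∈ B.fixV x := D.tp_fixV Q.htW i.1
  have huz : u ∉ Subgroup.zpowers S.z := D.tp_notz (D.t_not_z Q.htW Q.ht1 Q.htz) i.1
  have haA : aa ∈ A := Q.tp_y_eight D i
  obtain ⟨haE, -⟩ := S.mem_fixX.1 (Q.eight_fixX D haA)
  have hcv : v * c * v⁻¹ = c := conj_eq_self (Frame.commute_z_zpowers (S := S) (S.mem_centH.1 hvH).1 hc)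
  have hca : Commute aa c := Frame.commute_z_zpowers (S := S) (S.hE.commute_z haE) hc
  have had : Commute aa (c * (aa * u)) := hca.mul_right ((Commute.refl aa).mul_right (B.tp_commute Q.hyt))
  set a1 := v * aa * v⁻¹ with ha1
  have ha1A : a1 ∈ A := (Subgroup.mem_normalizer_iff.1 (Q.mem_Ygrp D (hK v hvK)) aa).1 haA
  have ha1d : Commute a1 (c * (aa * u)) := by
    have := (LargeData.commute_conj_iff' (g := v)).2 had
    rwa [conj_eq_self hvd, ← ha1] at this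
  rcases Q.cases_eight D ha1A with hz | ⟨j, c', hc', hj⟩
  · refine D.tp_notz (Q.y_notz D) i.1 ?_
    have h := conj_eq_self (g := v⁻¹) (y := a1)
      (Frame.commute_z_zpowers (S := S) (S.mem_centH.1 hvH).1.inv_left hz)
    rw [ha1, show v⁻¹ * (v * aa * v⁻¹) * v⁻¹⁻¹ = aa by group] at h
    rw [← haa, h]; exact hz
  have hjX := (S.mem_fixX.1 (D.tp_fixX Q.hy j.1)).1
  have hjc : ∀ {e}, e ∈ Subgroup.zpowers S.z → Commute (B.tp j.1 y) e := fun he =>
    Frame.commute_z_zpowers (S := S) (S.hE.commute_z hjX) he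
  have hji : j = i := by
    refine Q.index_eq D ?_
    have h1 : Commute (B.tp j.1 y) (c * (aa * u)) := by
      have h2 : Commute c' (c * (aa * u)) := (Frame.commute_z_zpowers (S := S) (S.hE.commute_z hdE) hc').symm
      have := h2.inv_left.mul_left (hj ▸ ha1d)
      rwa [inv_mul_cancel_left] at this
    have := ((hjc hc).inv_right.mul_right h1)
    rw [inv_mul_cancel_left] at this
    have h3 := (Q.tp_comm D j i).inv_right.mul_right this
    rwa [← haa, inv_mul_cancel_left] at h3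
  rw [hji, ← haa] at hj
  -- so `v` preserves the coset of `u`
  have hvu : v * u * v⁻¹ = c'⁻¹ * u := by
    have e1 : c * (aa * u) = c * (a1 * (v * u * v⁻¹)) := by
      calc c * (aa * u) = v * (c * (aa * u)) * v⁻¹ := (conj_eq_self hvd).symm
        _ = (v * c * v⁻¹) * ((v * aa * v⁻¹) * (v * u * v⁻¹)) := by group
        _ = _ := by rw [hcv]
    have e2 := mul_left_cancel e1
    rw [hj] at e2
    have hac : Commute aa c' := Frame.commute_z_zpowers (S := S) (S.hE.commute_z haE) hc'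
    rw [← hac.eq, mul_assoc] at e2
    calc v * u * v⁻¹ = c'⁻¹ * (c' * (v * u * v⁻¹)) := by rw [inv_mul_cancel_left]
      _ = c'⁻¹ * u := by rw [← mul_left_cancel e2]
  rcases S.hE.eq_or hc' with r | r <;> rw [r] at hvu
  · rw [inv_one, one_mul] at hvu
    exact huz (Q.outer_not_W D hvH hv0 huW (mul_inv_eq_iff_eq_mul.1 hvu))
  · rw [S.hE.inv_z] at hvu
    obtain ⟨k0, hk0', hk0t⟩ := D.exists_ncomm Q.htW Q.ht1 Q.htz
    set k1 := B.tp i.1 k0 with hk1
    have hk1X : k1 ∈ S.fixX x := D.tp_fixX hk0' i.1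
    obtain ⟨hk1E, hk1x⟩ := S.mem_fixX.1 hk1X
    have hk1u : ¬ Commute k1 u := fun h => hk0t (LargeData.commute_conj_iff'.1 h)
    have hwu : k1 * v * u * (k1 * v)⁻¹ = u := by
      rw [show k1 * v * u * (k1 * v)⁻¹ = k1 * (v * u * v⁻¹) * k1⁻¹ by group, hvu,
        show k1 * (S.z * u) * k1⁻¹ = (k1 * S.z * k1⁻¹) * (k1 * u * k1⁻¹) by group,
        conj_eq_self (S.hE.commute_z hk1E), D.conj_K hk1X (D.fixV_le_fixX huW) hk1u, ← mul_assoc,
        S.hE.mul_self_z, one_mul]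
    refine huz (Q.outer_not_W D (w := k1 * v) (S.mem_centH.2 ⟨(S.hE.commute_z hk1E).mul_left
      (S.mem_centH.1 hvH).1, hk1x.mul_left (hK v hvK)⟩) (fun h => hv0 ?_) huW (mul_inv_eq_iff_eq_mul.1 hwu))
    simpa using mul_mem (inv_mem (S.hEH0 hk1E)) h

theorem core : Five.Core x (Q.eight D) := by
  refine ⟨D.hx, Q.card_eight D, fun a ha => Q.sq_eight D ha, fun a ha => (S.mem_fixX.1 (Q.eight_fixX D ha)).2,
    fun g hg a ha => (Subgroup.mem_normalizer_iff.1 (Q.mem_Ygrp D hg) a).1 ha,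
    by rw [← Q.centralizer_eq D, Q.card_Y D], fun g hg h => Q.cent_eight D hg h, Q.no_complement D, ?_, ?_⟩
  · intro e he h
    by_contra he1
    obtain ⟨heH, hez⟩ := (Q.mem_eight_iff D).1 ⟨he, he1⟩
    obtain ⟨g, hgx, hge⟩ := D.z_class (S.mem_centH.1 heH).2 hez
    have h1 : g * S.z * g⁻¹ = g * e * g⁻¹ := by rw [hge, conj_eq_self (h g hgx)]
    have hze : S.z = e := mul_left_cancel (mul_right_cancel h1)
    have hy1 : y ≠ 1 := fun r => Q.y_notz D (r ▸ one_mem _)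
    obtain ⟨g', hg'x, hg'⟩ := D.z_class (S.mem_fixX.1 Q.hy).2 Q.hzy
    rw [hze, conj_eq_self (h g' hg'x), ← hze] at hg'
    exact Q.y_notz D (hg' ▸ Subgroup.mem_zpowers _)
  · obtain ⟨c, hc, hcx⟩ := D.exists_square
    have hcz : Commute c S.z := mem_centralizer_singleton_iff'.1 hc.2
    refine ⟨c, hcx, fun a ha => ?_⟩
    by_cases ha1 : a = 1
    · rw [ha1, mul_one, mul_inv_cancel]; exact one_mem _
    obtain ⟨haH, haz⟩ := (Q.mem_eight_iff D).1 ⟨ha, ha1⟩
    obtain ⟨haz', hax⟩ := S.mem_centH.1 haH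
    refine ((Q.mem_eight_iff D).2 ⟨S.mem_centH.2 ⟨conj_comm_of (conj_eq_self hcz) haz', ?_⟩,
      haz.trans (isConj_iff.2 ⟨c, rfl⟩)⟩).1
    have h0 := (LargeData.commute_conj_iff' (g := c)).2 hax
    rw [hcx] at h0
    have h := h0.pow_right 3
    rwa [← pow_mul, show 2 * 3 = 5 + 1 from rfl, pow_succ, D.x5, one_mul] at h

end EightData

end HexBase

end CfsgLib.JankoFour
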