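import Cfsg.Agent.Lib.JankoFourFive.Count

/-!
# The seven conjugates of `z` in the centralizer of `x` and `z` (owner: helper17)

Counting commuting pairs from the two classes leaves one possibility: one line of conjugates of `z`, and
all 24 outer involutions are of the kind of `t`.
-/

set_option autoImplicit false
set_option linter.unusedSectionVars false

namespace CfsgLib.JankoFour

open Cfsg CfsgLib.ThreeTrans
open CfsgLib.JankoFourHexad

variable {G : Type*} [Group G] [Finite G]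

namespace HexBase

variable {S : Setting G} (B : HexBase S)

/-- The six elements over the orbit of `y`. -/
def six (y : G) : Set G := Set.range fun v : Bool × Fin 3 => (if v.1 then S.z else 1) * B.tp v.2.1 y

theorem mem_six {y c : G} (hc : c ∈ Subgroup.zpowers S.z) (i : Fin 3) : c * B.tp i.1 y ∈ B.six y := by
  rcases S.hE.eq_or hc with rfl | rfl
  exacts [⟨(false, i), by simp⟩, ⟨(true, i), by simp⟩]

namespace FiveData

variable {B} {x : G} (D : B.FiveData x)
include D

theorem six_ncard {y : G} (hy : y ∈ S.fixX x) (hyz : y ∉ Subgroup.zpowers S.z) : (B.six y).ncard = 6 := by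
  rw [six, Set.ncard_range_of_injective ?_, Nat.card_eq_fintype_card]
  · rfl
  · intro a b e
    have h := D.line_inj hy hyz (a₁ := (a.1, some a.2)) (a₂ := (b.1, some b.2)) e
    simp only [Prod.mk.injEq, Option.some.injEq] at h
    exact Prod.ext h.1 h.2

variable {t : G} (htW : t ∈ B.fixV x) (ht1 : t ≠ 1) (htz : t ≠ S.z)
include htW ht1 htz

theorem six_t_sub {w : G} (hw : w ∈ B.six t) : w ∈ B.fixV x ∧ w ∉ Subgroup.zpowers S.z := by
  obtain ⟨⟨b, i⟩, rfl⟩ := hw
  have hb : (if b then S.z else 1) ∈ Subgroup.zpowers S.z := by cases b <;> simp [one_mem]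
  refine ⟨mul_mem (by cases b <;> simp [one_mem, D.z_fixV]) (D.tp_fixV htW i.1), fun h =>
    D.tp_notz (D.t_not_z htW ht1 htz) i.1 ?_⟩
  have h' := mul_mem (inv_mem hb) h
  rwa [inv_mul_cancel_left] at h'

theorem card_cent_t : Nat.card ↥(Subgroup.centralizer ({x} : Set G) ⊓ Subgroup.centralizer ({t} : Set G)) = 80 := by
  classical
  set K := S.fixX x ⊓ Subgroup.centralizer ({t} : Set G) with hKdef
  have hmem : ∀ {k}, k ∈ K ↔ k ∈ S.fixX x ∧ Commute k t := fun {k} =>
    and_congr_right fun _ => mem_centralizer_singleton_iff'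
  have hK16 : Nat.card K = 16 := by
    refine le_antisymm ?_ ?_
    · have h := ncard_le_of_fibre (s := (K : Set G)) (A := B.fixV x) (fun a => decide (Commute a (B.tp 1 t)))
        (fun a ha b hb e => D.same_pattern htW ht1 htz (hmem.1 ha).1 (hmem.1 hb).1
          (iff_of_true (hmem.1 ha).2 (hmem.1 hb).2) (by simpa using e))
      rw [← Nat.card_coe_set_eq, B.card_fixV D.hx D.hxC D.hxN, Fintype.card_bool] at h
      exact h
    · have h := ncard_le_of_fibre (s := (S.fixX x : Set G)) (A := K) (fun a => decide (Commute a t))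
        (fun a ha b hb e => hmem.2 ⟨mul_mem (inv_mem ha) hb, by
          have e' : Commute a t ↔ Commute b t := by simpa using e
          by_cases hc : Commute a t
          · exact hc.inv_left.mul_left (e'.1 hc)
          · refine mul_inv_eq_iff_eq_mul.1 ?_
            calc a⁻¹ * b * t * (a⁻¹ * b)⁻¹ = a⁻¹ * (b * t * b⁻¹) * a := by group
              _ = a⁻¹ * (a * t * a⁻¹) * a := by
                rw [D.conj_K hb (D.t_fixX htW ht1 htz) (fun r => hc (e'.2 r)),
                  D.conj_K ha (D.t_fixX htW ht1 htz) hc]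
              _ = t := by group⟩)
      rw [← Nat.card_coe_set_eq, show Nat.card ((S.fixX x : Set G) : Set G) = Nat.card (S.fixX x) from rfl,
        B.card_fixX D.hx D.hxC D.hxN, Fintype.card_bool] at h
      omega
  have hxt : Commute x t := (B.mem_fixV.1 htW).2.symm
  let φ : Fin 5 × ↥K → ↥(Subgroup.centralizer ({x} : Set G) ⊓ Subgroup.centralizer ({t} : Set G)) := fun v =>
    ⟨x ^ v.1.1 * v.2, mem_centralizer_singleton_iff'.2
        (((Commute.refl x).pow_left _).mul_left (S.mem_fixX.1 (hmem.1 v.2.2).1).2).eq,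
      mem_centralizer_singleton_iff'.2 ((hxt.pow_left _).mul_left (hmem.1 v.2.2).2).eq⟩
  have hφ : Function.Bijective φ := by
    constructor
    · rintro ⟨m, k⟩ ⟨n, l⟩ h
      have h' : x ^ m.1 * (k : G) = x ^ n.1 * l := congrArg Subtype.val h
      have hmn : x ^ (4 * n.1 + m.1) ∈ S.E ⊔ S.P := by
        have e1 : x ^ (4 * n.1 + m.1) * (k : G) = l := by
          rw [pow_add, mul_assoc, h', ← mul_assoc, ← pow_add, show 4 * n.1 + n.1 = 5 * n.1 by ring, pow_mul, D.x5,
            one_pow, one_mul]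
        rw [eq_mul_inv_of_mul_eq e1]
        exact mul_mem (Subgroup.mem_sup_left (S.mem_fixX.1 (hmem.1 l.2).1).1)
          (inv_mem (Subgroup.mem_sup_left (S.mem_fixX.1 (hmem.1 k.2).1).1))
      have h5 := orderOf_dvd_of_pow_eq_one (D.xpow_EP hmn)
      rw [D.hx] at h5
      obtain rfl : m = n := Fin.ext (by have := m.2; have := n.2; omega)
      exact Prod.ext rfl (Subtype.ext (mul_left_cancel h'))
    · rintro ⟨g, hgx, hgt⟩
      obtain ⟨n, k, hk, hkt, rfl⟩ := D.cent_t_decomp htW ht1 htz (mem_centralizer_singleton_iff'.1 hgx)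
        (mem_centralizer_singleton_iff'.1 hgt)
      refine ⟨(⟨n % 5, Nat.mod_lt _ (by norm_num)⟩, ⟨k, hmem.2 ⟨hk, hkt⟩⟩), Subtype.ext ?_⟩
      show x ^ (n % 5) * k = x ^ n * k
      rw [← D.hx, pow_mod_orderOf]
  rw [← Nat.card_congr (Equiv.ofBijective φ hφ), Nat.card_prod, hK16, Nat.card_fin]

/-- The pair count relates the two sets. -/
theorem pair_count :
    {v | v ∈ S.centH x ∧ IsConj t v}.ncard = 12 * {u | Commute u x ∧ Commute u t ∧ IsConj S.z u}.ncard := by
  classical
  haveI := D.hsimple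
  let CC := Subgroup.centralizer ({x} : Set G)
  have hcc : ∀ {g}, g ∈ CC ↔ Commute g x := fun {g} => mem_centralizer_singleton_iff'
  let Zs := {u : G // Commute u x ∧ IsConj S.z u}
  let Ts := {v : G // Commute v x ∧ IsConj t v}
  have hclass : ∀ (y : G) (hy : Commute y x),
      (∀ u, Commute u x → IsConj y u → ∃ g, Commute g x ∧ g * y * g⁻¹ = u) →
      Nat.card {u : G // Commute u x ∧ IsConj y u} * Nat.card ↥(CC ⊓ Subgroup.centralizer ({y} : Set G)) =
        Nat.card CC := by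
    intro y hy hcl
    have h := CfsgLib.Signalizer.card_conj_class (⟨y, hcc.2 hy⟩ : CC)
    rw [← h]
    congr 1
    · refine Nat.card_congr (Equiv.ofBijective (fun u => ⟨⟨u.1, hcc.2 u.2.1⟩, ?_⟩)
        ⟨fun a b e => Subtype.ext (congrArg (fun w => ((w.1 : CC) : G)) e), fun w => ?_⟩)
      · obtain ⟨g, hg, e⟩ := hcl u.1 u.2.1 u.2.2
        exact isConj_iff.2 ⟨⟨g, hcc.2 hg⟩, Subtype.ext e⟩
      · obtain ⟨g, e⟩ := isConj_iff.1 w.2
        exact ⟨⟨((w.1 : CC) : G), hcc.1 w.1.2, isConj_iff.2 ⟨g, congrArg Subtype.val e⟩⟩, rfl⟩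
    · refine Nat.card_congr ⟨fun g => ⟨⟨g, g.2.1⟩, Subgroup.mem_centralizer_singleton_iff.2
          (Subtype.ext (mem_centralizer_singleton_iff'.1 g.2.2))⟩,
        fun g => ⟨((g : CC) : G), (g : CC).2, mem_centralizer_singleton_iff'.2
          (congrArg Subtype.val (Subgroup.mem_centralizer_singleton_iff.1 g.2))⟩, fun g => rfl, fun g => rfl⟩
  have hZ := hclass S.z D.zx fun u hu h => D.z_class hu h
  have hT := hclass t (B.mem_fixV.1 htW).2 fun u hu h => D.t_class htW ht1 htz hu h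
  rw [show Nat.card ↥(CC ⊓ Subgroup.centralizer ({S.z} : Set G)) = 960 by
    rw [← D.centH_card, inf_comm]; rfl] at hZ
  rw [D.card_cent_t htW ht1 htz] at hT
  -- transport of commuting sets
  have htrans : ∀ (y y' w : G) (g : G), Commute g x → g * y * g⁻¹ = y' →
      Nat.card {v : G // Commute v x ∧ Commute v y' ∧ IsConj w v} =
        Nat.card {v : G // Commute v x ∧ Commute v y ∧ IsConj w v} := by
    intro y y' w g hg e
    refine (Nat.card_congr (Equiv.subtypeEquiv (MulAut.conj g).toEquiv fun v => ?_)).symm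
    show _ ↔ Commute (g * v * g⁻¹) x ∧ Commute (g * v * g⁻¹) y' ∧ IsConj w (g * v * g⁻¹)
    have hgx : g * x * g⁻¹ = x := conj_eq_self hg
    refine and_congr ?_ (and_congr ?_ ?_)
    · conv_rhs => rw [← hgx]
      exact LargeData.commute_conj_iff'.symm
    · rw [← e]; exact LargeData.commute_conj_iff'.symm
    · exact ⟨fun h => h.trans (isConj_iff.2 ⟨g, rfl⟩), fun h => h.trans (isConj_iff.2 ⟨g, rfl⟩).symm⟩
  set nT := Nat.card {v : G // Commute v x ∧ Commute v S.z ∧ IsConj t v}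
  set ct := Nat.card {u : G // Commute u x ∧ Commute u t ∧ IsConj S.z u}
  haveI : Fintype Zs := Fintype.ofFinite _
  haveI : Fintype Ts := Fintype.ofFinite _
  have hpairs : Nat.card Zs * nT = Nat.card Ts * ct := by
    have e : (Σ u : Zs, {v : G // Commute v x ∧ Commute v u.1 ∧ IsConj t v}) ≃
        (Σ v : Ts, {u : G // Commute u x ∧ Commute u v.1 ∧ IsConj S.z u}) :=
      { toFun := fun p => ⟨⟨p.2.1, p.2.2.1, p.2.2.2.2⟩, ⟨p.1.1, p.1.2.1, p.2.2.2.1.symm, p.1.2.2⟩⟩
        invFun := fun p => ⟨⟨p.2.1, p.2.2.1, p.2.2.2.2⟩, ⟨p.1.1, p.1.2.1, p.2.2.2.1.symm, p.1.2.2⟩⟩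
        left_inv := fun p => rfl
        right_inv := fun p => rfl }
    have h := Nat.card_congr e
    rw [Nat.card_sigma, Nat.card_sigma] at h
    rw [Finset.sum_congr rfl (fun (u : Zs) _ => (show _ = nT by
        obtain ⟨g, hg, e'⟩ := D.z_class u.2.1 u.2.2
        exact htrans S.z u.1 t g hg e')),
      Finset.sum_congr rfl (fun (v : Ts) _ => (show _ = ct by
        obtain ⟨g, hg, e'⟩ := D.t_class htW ht1 htz v.2.1 v.2.2
        exact htrans t v.1 S.z g hg e'))] at h
    simpa [Finset.sum_const, Nat.card_eq_fintype_card] using h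
  have hpos : 0 < Nat.card Zs := by
    haveI : Nonempty Zs := ⟨⟨S.z, D.zx, IsConj.refl _⟩⟩
    exact Nat.card_pos
  have h12 : nT = 12 * ct := by
    refine Nat.eq_of_mul_eq_mul_left hpos ?_
    calc Nat.card Zs * nT = Nat.card Ts * ct := hpairs
      _ = Nat.card Zs * (12 * ct) := by
        have e1 : Nat.card Ts = 12 * Nat.card Zs := by
          have h1 : Nat.card Zs * 960 = Nat.card Ts * 80 := hZ.trans hT.symm
          omega
        rw [e1]; ring
  have eT : {v | v ∈ S.centH x ∧ IsConj t v}.ncard = nT := by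
    rw [← Nat.card_coe_set_eq]
    exact Nat.card_congr (Equiv.subtypeEquivRight fun v => by
      show (v ∈ S.centH x ∧ IsConj t v) ↔ _
      rw [S.mem_centH]; tauto)
  rw [eT, h12, ← Nat.card_coe_set_eq]
  rfl

variable {e : G} (he : e ∈ S.fixX x) (he2 : e * e = 1) (het : Commute e t) (he1 : ¬ Commute e (B.tp 1 t))
include he he2 het he1

theorem e_notW : e ∉ B.fixV x := fun h => he1 (B.commute_V (B.mem_fixV.1 h).1 (B.mem_fixV.1 (D.tp_fixV htW 1)).1)

theorem e_notz : e ∉ Subgroup.zpowers S.z := fun h => D.e_notW htW ht1 htz he he2 het he1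
  (Subgroup.zpowers_le.2 D.z_fixV h)

theorem six_notW {w : G} (hw : w ∈ B.six e) : w ∉ B.fixV x := by
  obtain ⟨⟨b, i⟩, rfl⟩ := hw
  intro h
  have hb : (if b then S.z else 1) ∈ B.fixV x := by cases b <;> simp [one_mem, D.z_fixV]
  have h1 : B.tp i.1 e ∈ B.fixV x := by
    have h' := mul_mem (inv_mem hb) h
    rwa [inv_mul_cancel_left] at h'
  have h2 := D.tp_fixV h1 (3 - i.1)
  rw [B.tp_add, show 3 - i.1 + i.1 = 3 by omega, B.tp_three] at h2
  exact D.e_notW htW ht1 htz he he2 het he1 h2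

theorem et_notz : e * t ∉ Subgroup.zpowers S.z := fun h => D.e_notW htW ht1 htz he he2 het he1 (by
  have := mul_mem (Subgroup.zpowers_le.2 D.z_fixV h) htW
  rwa [mul_assoc, D.t_sq htW ht1 htz, mul_one] at this)

/-- Inner involutions commuting with `x`. -/
theorem inner_list {u : G} (hu : u ∈ S.cent0 x) (hu2 : u * u = 1) :
    u ∈ B.fixV x ∨ u ∈ B.six e ∨ u ∈ B.six (e * t) := by
  rcases D.fixX_list htW ht1 htz he he2 het he1 (D.inner_involution_fix hu hu2) with h | ⟨i, w, hw, rfl⟩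
  · exact Or.inl h
  · obtain ⟨c, hc, r | r⟩ := D.coset_involution htW ht1 htz he he2 het he1 hw hu2 <;> rw [r]
    exacts [Or.inr (Or.inl (B.mem_six hc i)), Or.inr (Or.inr (B.mem_six hc i))]

theorem six_props {y : G} (hy : y = e ∨ y = e * t) :
    y ∈ S.fixX x ∧ y ∉ Subgroup.zpowers S.z ∧ y * y = 1 ∧ Commute y t := by
  obtain ⟨h1, h2, h3⟩ := D.et_facts htW ht1 htz he he2 het he1
  rcases hy with rfl | rfl
  exacts [⟨he, D.e_notz htW ht1 htz he he2 het he1, he2, het⟩, ⟨h2, D.et_notz htW ht1 htz he he2 het he1, h1, h3⟩]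

theorem six_conj {y : G} (hy : y = e ∨ y = e * t) {u : G} (hu : u ∈ B.six y) : IsConj y u := by
  obtain ⟨hyX, hyz, -, hyt⟩ := D.six_props htW ht1 htz he he2 het he1 hy
  obtain ⟨⟨b, i⟩, rfl⟩ := hu
  cases b
  · exact isConj_iff.2 ⟨B.X.F.p ^ i.1, by simp [tp]⟩
  · have hnc : ¬ Commute (B.tp 1 t) y := by
      rcases hy with rfl | rfl
      · exact fun h => he1 h.symm
      · intro h
        have := (h.mul_right (D.t_tp htW ht1 htz).inv_right).symm
        rw [mul_assoc, mul_inv_cancel, mul_one] at this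
        exact he1 this
    refine isConj_iff.2 ⟨B.X.F.p ^ i.1 * B.tp 1 t, ?_⟩
    rw [show B.X.F.p ^ i.1 * B.tp 1 t * y * (B.X.F.p ^ i.1 * B.tp 1 t)⁻¹ = B.tp i.1 (B.tp 1 t * y * (B.tp 1 t)⁻¹) by
      simp only [tp]; group, D.conj_K (D.tp_fixX (D.t_fixX htW ht1 htz) 1) hyX hnc, B.tp_mul, B.tp_z]
    simp

theorem six_centH {y : G} (hy : y = e ∨ y = e * t) {u : G} (hu : u ∈ B.six y) : u ∈ S.centH x ∧ u ∈ S.H0 := by
  obtain ⟨hyX, -, -, -⟩ := D.six_props htW ht1 htz he he2 het he1 hy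
  obtain ⟨⟨b, i⟩, rfl⟩ := hu
  obtain ⟨h1, h2⟩ := S.mem_fixX.1 (D.tp_fixX hyX i.1)
  refine ⟨S.mem_centH.2 ⟨?_, ?_⟩, mul_mem ?_ (S.hEH0 h1)⟩
  · cases b <;> simp [S.hE.commute_z h1, Commute.mul_left, Commute.refl]
  · cases b <;> simp [h2, Commute.mul_left, D.zx]
  · cases b <;> simp [one_mem, S.z_mem_H0]

/-- **One line of conjugates of `z`.** -/
theorem line_dichotomy :
    ∃ y, (y = e ∨ y = e * t) ∧ IsConj S.z y ∧ IsConj t (y * t) ∧
      (∀ u, u ∈ S.centH x → IsConj S.z u → u = S.z ∨ u ∈ B.six y) ∧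
      ∀ u, u ∈ S.centH x → u ∉ S.H0 → u * u = 1 → IsConj t u := by
  haveI := D.hsimple
  obtain ⟨hett, hetX, hetc⟩ := D.et_facts htW ht1 htz he he2 het he1
  have htc : ∀ {u}, IsConj t u → ¬ IsConj S.z u := fun h h' => D.t_not_conj htW ht1 htz (h'.trans h.symm)
  have hzc2 : ∀ {u}, IsConj S.z u → u * u = 1 := fun {u} h => by
    obtain ⟨g, rfl⟩ := isConj_iff.1 h; exact conj_sq S.hE.mul_self_z
  have htc2 : ∀ {u}, IsConj t u → u * u = 1 := fun {u} h => by
    obtain ⟨g, rfl⟩ := isConj_iff.1 h; exact conj_sq (D.t_sq htW ht1 htz)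
  have htype : ∀ {u}, u * u = 1 → u ∉ Subgroup.zpowers S.z → IsConj S.z u ∨ IsConj t u := fun {u} h2 hz =>
    B.two_classes D.hG D.hJ (B.mem_fixV.1 htW).1 ht1 (D.t_not_conj htW ht1 htz) h2 fun r => hz (r ▸ one_mem _)
  have hsix6 : ∀ {u}, u ∈ B.six t → u ∈ S.centH x ∧ IsConj t u ∧ u ∈ S.H0 := fun {u} hu => by
    obtain ⟨hW, hz⟩ := D.six_t_sub htW ht1 htz hu
    obtain ⟨g, -, e'⟩ := D.line_conj htW ht1 htz hW hz
    have hE := B.fixV_le_E D.hx D.hxC D.hxN hW
    exact ⟨S.mem_centH.2 ⟨S.hE.commute_z hE, (B.mem_fixV.1 hW).2⟩, isConj_iff.2 ⟨g, e'⟩, S.hEH0 hE⟩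
  set ITs := {v | v ∈ S.centH x ∧ IsConj t v}
  set IZs := {u | Commute u x ∧ Commute u t ∧ IsConj S.z u}
  have hcount : ITs.ncard = 12 * IZs.ncard := D.pair_count htW ht1 htz
  set Out := {u | u ∈ S.centH x ∧ u ∉ S.H0 ∧ u * u = 1}
  have hOut : Out.ncard ≤ 24 := D.outer_le htW ht1 htz he he2 het he1
  have h6e := D.six_ncard he (D.e_notz htW ht1 htz he he2 het he1)
  have h6et := D.six_ncard hetX (D.et_notz htW ht1 htz he he2 het he1)
  have h6t := D.six_ncard (D.t_fixX htW ht1 htz) (D.t_not_z htW ht1 htz)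
  have hWlist : ∀ {u}, u ∈ B.fixV x → u ∉ Subgroup.zpowers S.z → u ∈ B.six t := fun hu hz => by
    rcases D.fixV_list htW ht1 htz hu with h | ⟨i, c, hc, rfl⟩
    exacts [absurd h hz, B.mem_six hc i]
  have hself : ∀ y : G, y ∈ B.six y ∧ S.z * y ∈ B.six y := fun y =>
    ⟨⟨(false, 0), by simp [tp]⟩, ⟨(true, 0), by simp [tp]⟩⟩
  -- membership of `ITs`
  have hIT : ∀ {v}, v ∈ ITs → v ∈ B.six t ∨ (IsConj t e ∧ v ∈ B.six e) ∨ (IsConj t (e * t) ∧ v ∈ B.six (e * t)) ∨ v ∈ Out := by
    rintro v ⟨hv, hvt⟩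
    by_cases h0 : v ∈ S.H0
    · have hv0 : v ∈ S.cent0 x := S.mem_cent0.2 ⟨h0, (S.mem_centH.1 hv).2⟩
      rcases D.inner_list htW ht1 htz he he2 het he1 hv0 (htc2 hvt) with h | h | h
      · refine Or.inl (hWlist h fun hz => ?_)
        rcases S.hE.eq_or hz with r | r <;> subst r
        · exact ht1 (isConj_one_left.1 hvt)
        · exact htc hvt (IsConj.refl _)
      · exact Or.inr (Or.inl ⟨hvt.trans (D.six_conj htW ht1 htz he he2 het he1 (Or.inl rfl) h).symm, h⟩)
      · exact Or.inr (Or.inr (Or.inl ⟨hvt.trans (D.six_conj htW ht1 htz he he2 het he1 (Or.inr rfl) h).symm, h⟩))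
    · exact Or.inr (Or.inr (Or.inr ⟨hv, h0, htc2 hvt⟩))
  -- membership of `IZs`
  have hIZ : ∀ {u}, u ∈ IZs → u = S.z ∨ (IsConj S.z e ∧ (u = e ∨ u = S.z * e)) ∨
      (IsConj S.z (e * t) ∧ (u = e * t ∨ u = S.z * (e * t))) := by
    rintro u ⟨hux, hut, huz⟩
    have hu0 := D.cent_t_le htW ht1 htz hux hut
    rcases D.inner_list htW ht1 htz he he2 het he1 hu0 (hzc2 huz) with h | h | h
    · exact Or.inl (D.z_only h huz)
    all_goals
      obtain ⟨⟨b, i⟩, rfl⟩ := id h
      dsimp only at hut huz h ⊢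
      have hc : Commute (if b then S.z else 1) t := by
        cases b <;> simp [B.commute_V B.z_mem_V (B.mem_fixV.1 htW).1]
    · have hi : Commute (B.tp i.1 e) t := by
        have h' := hc.inv_left.mul_left hut
        rwa [inv_mul_cancel_left] at h'
      have h0 := ((D.pattern htW ht1 htz he he2 het he1 i.2).1).1 hi
      refine Or.inr (Or.inl ⟨huz.trans (D.six_conj htW ht1 htz he he2 het he1 (Or.inl rfl) h).symm, ?_⟩)
      rw [h0, B.tp_zero]
      cases b <;> simp
    · have hi : Commute (B.tp i.1 (e * t)) t := by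
        have h' := hc.inv_left.mul_left hut
        rwa [inv_mul_cancel_left] at h'
      have hit : Commute (B.tp i.1 t) t :=
        B.commute_V (B.mem_fixV.1 (D.tp_fixV htW i.1)).1 (B.mem_fixV.1 htW).1
      rw [B.tp_mul] at hi
      have hi' : Commute (B.tp i.1 e) t := by
        have := hi.mul_left hit.inv_left
        rwa [mul_inv_cancel_right] at this
      have h0 := ((D.pattern htW ht1 htz he he2 het he1 i.2).1).1 hi'
      refine Or.inr (Or.inr ⟨huz.trans (D.six_conj htW ht1 htz he he2 het he1 (Or.inr rfl) h).symm, ?_⟩)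
      rw [h0, B.tp_zero]
      cases b <;> simp
  have hzIZ : S.z ∈ IZs := ⟨D.zx, B.commute_V B.z_mem_V (B.mem_fixV.1 htW).1, IsConj.refl _⟩
  have hyIZ : ∀ {y}, y = e ∨ y = e * t → IsConj S.z y → y ∈ IZs ∧ S.z * y ∈ IZs := fun {y} hy hzy => by
    obtain ⟨hyX, hyz, hyy, hyt⟩ := D.six_props htW ht1 htz he he2 het he1 hy
    refine ⟨⟨(S.mem_fixX.1 hyX).2, hyt, hzy⟩, ⟨D.zx.mul_left (S.mem_fixX.1 hyX).2,
      (B.commute_V B.z_mem_V (B.mem_fixV.1 htW).1).mul_left hyt, ?_⟩⟩
    exact hzy.trans (D.six_conj htW ht1 htz he he2 het he1 hy (hself y).2)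
  have hzne : ∀ y : G, S.z * y ≠ y := fun y r => S.hE.z_ne_one (mul_eq_right.1 r)
  have hne_zy : ∀ {y}, y ∉ Subgroup.zpowers S.z → S.z ≠ y ∧ S.z ≠ S.z * y := fun {y} hy =>
    ⟨fun r => hy (r ▸ Subgroup.mem_zpowers _), fun r => hy (by rw [left_eq_mul] at r; rw [r]; exact one_mem _)⟩
  obtain ⟨nze1, nze2⟩ := hne_zy (D.e_notz htW ht1 htz he he2 het he1)
  obtain ⟨nzt1, nzt2⟩ := hne_zy (D.et_notz htW ht1 htz he he2 het he1)
  have hee : e ≠ e * t ∧ e ≠ S.z * (e * t) ∧ S.z * e ≠ e * t := by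
    have hne : S.z * e = e * S.z := (S.hE.commute_z (S.mem_fixX.1 he).1).symm.eq
    refine ⟨fun r => ht1 (left_eq_mul.1 r), fun r => ?_, fun r => htz (mul_left_cancel (hne ▸ r)).symm⟩
    rw [← mul_assoc, hne, mul_assoc, left_eq_mul] at r
    exact htz ((eq_inv_of_mul_eq_one_right r).trans S.hE.inv_z)
  -- the three cases
  by_cases s0 : IsConj S.z e <;> by_cases s1 : IsConj S.z (e * t)
  · exfalso
    have hsub : ({S.z, e, S.z * e, e * t, S.z * (e * t)} : Set G) ⊆ IZs := by
      intro u hu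
      simp only [Set.mem_insert_iff, Set.mem_singleton_iff] at hu
      rcases hu with rfl | rfl | rfl | rfl | rfl
      exacts [hzIZ, (hyIZ (Or.inl rfl) s0).1, (hyIZ (Or.inl rfl) s0).2, (hyIZ (Or.inr rfl) s1).1, (hyIZ (Or.inr rfl) s1).2]
    have h5 : ({S.z, e, S.z * e, e * t, S.z * (e * t)} : Set G).ncard = 5 := by
      rw [Set.ncard_insert_of_notMem (by simp [nze1, nze2, nzt1, nzt2]),
        Set.ncard_insert_of_notMem (by simp [hee.1, hee.2.1, (hzne e).symm]),
        Set.ncard_insert_of_notMem (by simp [hee.2.2, hee.1]),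
        Set.ncard_pair (hzne _).symm]
    have hle := Set.ncard_le_ncard hsub
    have hT : ITs.ncard ≤ (B.six t ∪ Out).ncard := Set.ncard_le_ncard fun v hv => by
      rcases hIT hv with h | ⟨h, -⟩ | ⟨h, -⟩ | h
      exacts [Or.inl h, absurd s0 (htc h), absurd s1 (htc h), Or.inr h]
    have := hT.trans (Set.ncard_union_le _ _)
    omega
  rotate_left
  rotate_left
  · exfalso
    have hle : IZs.ncard ≤ 1 := by
      rw [← Set.ncard_singleton S.z]
      refine Set.ncard_le_ncard fun u hu => ?_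
      rcases hIZ hu with h | ⟨h, -⟩ | ⟨h, -⟩
      exacts [h, absurd h s0, absurd h s1]
    have hte := (htype he2 (D.e_notz htW ht1 htz he he2 het he1)).resolve_left s0
    have htet := (htype hett (D.et_notz htW ht1 htz he he2 het he1)).resolve_left s1
    have hsub : insert (e * t) (B.six t ∪ B.six e) ⊆ ITs := by
      rintro u (rfl | hu | hu)
      · exact ⟨(D.six_centH htW ht1 htz he he2 het he1 (Or.inr rfl) (hself _).1).1, htet⟩
      · exact ⟨(hsix6 hu).1, (hsix6 hu).2.1⟩
      · exact ⟨(D.six_centH htW ht1 htz he he2 het he1 (Or.inl rfl) hu).1,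
          hte.trans (D.six_conj htW ht1 htz he he2 het he1 (Or.inl rfl) hu)⟩
    have hdis : Disjoint (B.six t) (B.six e) := Set.disjoint_left.2 fun u h1 h2 =>
      D.six_notW htW ht1 htz he he2 het he1 h2 (D.six_t_sub htW ht1 htz h1).1
    have hnot : e * t ∉ B.six t ∪ B.six e := by
      rintro (h | h)
      · refine D.e_notW htW ht1 htz he he2 het he1 ?_
        have := mul_mem (D.six_t_sub htW ht1 htz h).1 htW
        rwa [mul_assoc, D.t_sq htW ht1 htz, mul_one] at this
      · obtain ⟨⟨b, i⟩, hv⟩ := h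
        dsimp only at hv
        have hc : Commute (if b then S.z else 1) t := by
          cases b <;> simp [B.commute_V B.z_mem_V (B.mem_fixV.1 htW).1]
        have hcl : Commute (B.tp i.1 e) t := by
          have := hc.inv_left.mul_left (hv.symm ▸ hetc : Commute _ t)
          rwa [inv_mul_cancel_left] at this
        rw [((D.pattern htW ht1 htz he he2 het he1 i.2).1).1 hcl, B.tp_zero] at hv
        cases b <;> simp only [Bool.false_eq_true, if_false, if_true, one_mul] at hv
        · exact hee.1 hv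
        · exact hee.2.2 hv
    have h13 : (insert (e * t) (B.six t ∪ B.six e)).ncard = 13 := by
      rw [Set.ncard_insert_of_notMem hnot, Set.ncard_union_eq hdis, h6t, h6e]
    have := Set.ncard_le_ncard hsub
    omega
  all_goals
    -- one line of each kind
    obtain ⟨y, y', hy, hy', hzy, hty', hyy', hnz', hy6, hy'6⟩ : ∃ y y', (y = e ∨ y = e * t) ∧ (y' = e ∨ y' = e * t) ∧
        IsConj S.z y ∧ IsConj t y' ∧ y' = y * t ∧ ¬ IsConj S.z y' ∧ (B.six y).ncard = 6 ∧ (B.six y').ncard = 6 := by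
      first
      | exact ⟨e, e * t, Or.inl rfl, Or.inr rfl, s0,
          (htype hett (D.et_notz htW ht1 htz he he2 het he1)).resolve_left s1, rfl, s1, h6e, h6et⟩
      | exact ⟨e * t, e, Or.inr rfl, Or.inl rfl, s1,
          (htype he2 (D.e_notz htW ht1 htz he he2 het he1)).resolve_left s0,
          by rw [mul_assoc, D.t_sq htW ht1 htz, mul_one], s0, h6et, h6e⟩
    obtain ⟨-, hyz, -, -⟩ := D.six_props htW ht1 htz he he2 het he1 hy
    obtain ⟨n1, n2⟩ := hne_zy hyz
    have h3 : 3 ≤ IZs.ncard := by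
      have h3' : ({S.z, y, S.z * y} : Set G).ncard = 3 := by
        rw [Set.ncard_insert_of_notMem (by simp [n1, n2]), Set.ncard_pair (hzne y).symm]
      rw [← h3']
      refine Set.ncard_le_ncard ?_
      intro u hu
      simp only [Set.mem_insert_iff, Set.mem_singleton_iff] at hu
      rcases hu with rfl | rfl | rfl
      exacts [hzIZ, (hyIZ hy hzy).1, (hyIZ hy hzy).2]
    have hsubT : ITs ⊆ B.six t ∪ B.six y' ∪ (Out ∩ {u | IsConj t u}) := by
      intro v hv
      rcases hIT hv with h | ⟨h, h'⟩ | ⟨h, h'⟩ | h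
      · exact Or.inl (Or.inl h)
      · refine Or.inl (Or.inr ?_)
        rcases hy' with rfl | rfl
        · exact h'
        · exact absurd (hy.elim (fun r => r ▸ hzy) fun r => absurd (r ▸ hzy) hnz') (htc h)
      · refine Or.inl (Or.inr ?_)
        rcases hy' with rfl | rfl
        · exact absurd (hy.elim (fun r => absurd (r ▸ hzy) hnz') fun r => r ▸ hzy) (htc h)
        · exact h'
      · exact Or.inr ⟨h, hv.2⟩
    have hT := (Set.ncard_le_ncard hsubT).trans ((Set.ncard_union_le _ _).trans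
      (Nat.add_le_add_right (Set.ncard_union_le _ _) _))
    rw [h6t, hy'6] at hT
    have hall : Out ∩ {u | IsConj t u} = Out :=
      Set.eq_of_subset_of_ncard_le Set.inter_subset_left (by omega)
    refine ⟨y, hy, hzy, hyy' ▸ hty', fun u hu huz => ?_, fun u h1 h2 h3' =>
      (hall.symm ▸ (⟨h1, h2, h3'⟩ : u ∈ Out) : u ∈ Out ∩ {u | IsConj t u}).2⟩
    by_cases h0 : u ∈ S.H0
    · rcases D.inner_list htW ht1 htz he he2 het he1 (S.mem_cent0.2 ⟨h0, (S.mem_centH.1 hu).2⟩) (hzc2 huz)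
        with h | h | h
      · exact Or.inl (D.z_only h huz)
      · have hc := huz.trans (D.six_conj htW ht1 htz he he2 het he1 (Or.inl rfl) h).symm
        rcases hy with rfl | rfl
        · exact Or.inr h
        · exact absurd (hy'.elim (fun r => r ▸ hc) fun r => absurd (r ▸ hzy) hnz') hnz'
      · have hc := huz.trans (D.six_conj htW ht1 htz he he2 het he1 (Or.inr rfl) h).symm
        rcases hy with rfl | rfl
        · exact absurd (hy'.elim (fun r => absurd (r ▸ hzy) hnz') fun r => r ▸ hc) hnz'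
        · exact Or.inr h
    · have hall' : u ∈ Out ∩ {u | IsConj t u} := hall.symm ▸ (⟨hu, h0, hzc2 huz⟩ : u ∈ Out)
      exact absurd huz (htc hall'.2)

end FiveData

end HexBase

end CfsgLib.JankoFour
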